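import Mathlib

/-!
# Elements lying in a unique Sylow subgroup

* `sylow_unique_of_normalizer_pGroup`: if the normalizer of every `p`-subgroup containing `x` is a
  `p`-group, then `x` lies in at most one Sylow `p`-subgroup.
* `le_of_unique_sylow`, `mem_of_unique_sylow_of_commute`: consequences of lying in a unique Sylow subgroup.

Helper lemmas for S4349 (helper72).
-/

set_option autoImplicit false

namespace Cfsg.Agent.Lib.Helper72

open scoped Pointwise

variable {G : Type*} [Group G]

theorem card_lt_card_of_lt72 [Finite G] {H K : Subgroup G} (h : H < K) :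
    Nat.card H < Nat.card K := by
  rcases lt_or_eq_of_le (Subgroup.card_le_of_le h.le) with h' | h'
  · exact h'
  · exact absurd (Subgroup.eq_of_le_of_card_ge h.le h'.ge) h.ne

/-- In a finite `p`-group, a proper subgroup is properly contained in its normalizer (relative
version inside an ambient group). -/
theorem exists_mem_normalizer_not_mem [Finite G] {p : ℕ} [Fact p.Prime] {P D : Subgroup G}
    (hP : IsPGroup p P) (hDP : D < P) :
    ∃ y ∈ P, y ∈ Subgroup.normalizer (D : Set G) ∧ y ∉ D := by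
  have : Group.IsNilpotent P := hP.isNilpotent
  have hnc : NormalizerCondition P := Group.normalizerCondition_of_isNilpotent
  have hlt : D.subgroupOf P < ⊤ := by
    rw [lt_top_iff_ne_top]
    intro h
    rw [Subgroup.subgroupOf_eq_top] at h
    exact (not_le_of_gt hDP) h
  have h1 := hnc _ hlt
  obtain ⟨y, hyN, hyD⟩ := SetLike.exists_of_lt h1
  rw [← Subgroup.subgroupOf_normalizer_eq hDP.le] at hyN
  refine ⟨y, y.2, ?_, ?_⟩
  · exact Subgroup.mem_subgroupOf.mp hyN
  · intro h
    exact hyD (Subgroup.mem_subgroupOf.mpr h)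

theorem sylow_unique_of_normalizer_pGroup [Finite G] {p : ℕ} [Fact p.Prime] (x : G)
    (h : ∀ D : Subgroup G, IsPGroup p D → x ∈ D → IsPGroup p (Subgroup.normalizer (D : Set G))) :
    ∀ P Q : Sylow p G, x ∈ P → x ∈ Q → P = Q := by
  have key : ∀ (k : ℕ) (P Q : Sylow p G), x ∈ P → x ∈ Q →
      Nat.card P - Nat.card ↥((P : Subgroup G) ⊓ Q) = k → P = Q := by
    intro k
    induction k using Nat.strong_induction_on with
    | _ k ih =>
    intro P Q hxP hxQ hk
    by_contra hne
    have hcardPQ : Nat.card P = Nat.card Q := by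
      rw [Sylow.card_eq_multiplicity, Sylow.card_eq_multiplicity]
    have hDP : (P : Subgroup G) ⊓ Q < P := by
      refine lt_of_le_of_ne inf_le_left (fun hD => hne ?_)
      have hPQ : (P : Subgroup G) ≤ Q := by rw [← hD]; exact inf_le_right
      exact Sylow.ext (P.is_maximal' Q.isPGroup' hPQ).symm
    have hDQ : (P : Subgroup G) ⊓ Q < Q := by
      refine lt_of_le_of_ne inf_le_right (fun hD => hne ?_)
      have hQP : (Q : Subgroup G) ≤ P := by rw [← hD]; exact inf_le_left
      exact Sylow.ext (Q.is_maximal' P.isPGroup' hQP)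
    have hDp : IsPGroup p ↥((P : Subgroup G) ⊓ Q) := P.isPGroup'.to_le inf_le_left
    have hxD : x ∈ (P : Subgroup G) ⊓ Q := ⟨hxP, hxQ⟩
    obtain ⟨R, hR⟩ := (h _ hDp hxD).exists_le_sylow
    have hDR : (P : Subgroup G) ⊓ Q ≤ R := le_trans Subgroup.le_normalizer hR
    have hxR : x ∈ R := hDR hxD
    obtain ⟨y, hyP, hyN, hyD⟩ := exists_mem_normalizer_not_mem P.isPGroup' hDP
    obtain ⟨z, hzQ, hzN, hzD⟩ := exists_mem_normalizer_not_mem Q.isPGroup' hDQ
    have hcardlt : ∀ (S : Sylow p G) (w : G), (P : Subgroup G) ⊓ Q ≤ S → w ∈ S → w ∈ R →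
        w ∉ (P : Subgroup G) ⊓ Q →
        Nat.card ↥((P : Subgroup G) ⊓ Q) < Nat.card ↥((S : Subgroup G) ⊓ R) := by
      intro S w hDS hwS hwR hwD
      apply card_lt_card_of_lt72
      refine lt_of_le_of_ne (le_inf hDS hDR) (fun hEq => hwD ?_)
      rw [hEq]; exact ⟨hwS, hwR⟩
    have hDlt : Nat.card ↥((P : Subgroup G) ⊓ Q) < Nat.card P := card_lt_card_of_lt72 hDP
    have h1 := hcardlt P y inf_le_left hyP (hR hyN) hyD
    have h2 := hcardlt Q z inf_le_right hzQ (hR hzN) hzD
    have hle1 : Nat.card ↥((P : Subgroup G) ⊓ R) ≤ Nat.card P := Subgroup.card_le_of_le inf_le_left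
    have hle2 : Nat.card ↥((Q : Subgroup G) ⊓ R) ≤ Nat.card Q := Subgroup.card_le_of_le inf_le_left
    have hPR : P = R := ih _ (by omega) P R hxP hxR rfl
    have hQR : Q = R := ih _ (by omega) Q R hxQ hxR rfl
    exact hne (hPR.trans hQR.symm)
  intro P Q hxP hxQ
  exact key _ P Q hxP hxQ rfl

/-- If `x` lies in a unique Sylow `p`-subgroup `P`, every `p`-subgroup containing `x` lies in `P`. -/
theorem le_of_unique_sylow {p : ℕ} {x : G} {P : Sylow p G}
    (huniq : ∀ Q : Sylow p G, x ∈ Q → Q = P) {D : Subgroup G} (hD : IsPGroup p D) (hxD : x ∈ D) :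
    D ≤ P := by
  obtain ⟨Q, hQ⟩ := hD.exists_le_sylow
  rw [← huniq Q (hQ hxD)]
  exact hQ

end Cfsg.Agent.Lib.Helper72
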