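import Mathlib
import Cfsg.Prelude.Def_Transfer
import Cfsg.Agent.Lib.Helper15.CycSylDefs
import Cfsg.Agent.Lib.Helper2.PComplement
import Cfsg.Agent.Lib.Helper21.SupNormalizer

set_option autoImplicit false

/-!
# S4016 hive, leaf [S-BURN]: Burnside at `r ≠ p` in the minimal counterexample
-/

namespace Cfsg.Agent.Lib.Helper15.CycSyl

open Subgroup

variable {G : Type*} [Group G] [Finite G] {p : ℕ} [Fact p.Prime]

/-- the minimal counterexample has no normal `r`-complement for `r ≠ p` dividing `|G|`. -/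
theorem burn_no_compl (h : Setup p G) (r : ℕ) [Fact r.Prime] (hrp : r ≠ p) (R : Sylow r G)
    (hR : (R : Subgroup G) ≠ ⊥) : ¬ Cfsg.HasNormalPComplement r G := by
  rintro ⟨R', N, hN, hc⟩
  have := h.simple
  rcases hN.eq_bot_or_eq_top with h0 | h1
  · subst h0
    have hR' : (R' : Subgroup G) = ⊤ := Subgroup.isComplement'_bot_left.mp hc
    obtain ⟨P⟩ : Nonempty (Sylow p G) := inferInstance
    apply h.notclosed P
    have hPr : IsPGroup r (P : Subgroup G) := R'.isPGroup'.to_le (by rw [hR']; exact le_top)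
    have hd := IsPGroup.disjoint_of_ne r p hrp _ _ hPr P.isPGroup'
    have : (P : Subgroup G) = ⊥ := disjoint_self.mp hd
    rw [this]
    infer_instance
  · subst h1
    have hR' : (R' : Subgroup G) = ⊥ := Subgroup.isComplement'_top_left.mp hc
    apply hR
    have h1 := R.card_eq_multiplicity
    have h2 := R'.card_eq_multiplicity
    rw [hR', Subgroup.card_bot] at h2
    rw [← h2] at h1
    exact Subgroup.card_eq_one.mp h1

/-- [S-BURN] -/
theorem Setup.burn (h : Setup p G) (r : ℕ) (hr : r.Prime) (hrp : r ≠ p) (R : Sylow r G)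
    (hR : (R : Subgroup G) ≠ ⊥) :
    ∃ u : G, u ∈ normalizer ((R : Subgroup G) : Set G) ∧
      u ∉ centralizer ((R : Subgroup G) : Set G) ∧ ∃ k : ℕ, u ^ p ^ k = 1 := by
  have : Fact r.Prime := ⟨hr⟩
  have hp : p.Prime := Fact.out
  have hno := burn_no_compl h r hrp R hR
  have hnc : ¬ normalizer ((R : Subgroup G) : Set G) ≤ centralizer ((R : Subgroup G) : Set G) :=
    fun hle => hno (Cfsg.Agent.Lib.Helper2.hasNormalPComplement_of_normalizer_le_centralizer R hle)
  obtain ⟨y, hyN, hyC⟩ := SetLike.not_le_iff_exists.mp hnc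
  obtain ⟨k, m, hm, hkm⟩ : ∃ k m, ¬ p ∣ m ∧ orderOf y = p ^ k * m :=
    Nat.exists_eq_pow_mul_and_not_dvd (orderOf_pos y).ne' p hp.ne_one
  have hcop : Nat.Coprime (p ^ k) m :=
    Nat.Coprime.pow_left k ((Nat.Prime.coprime_iff_not_dvd hp).2 hm)
  -- the `p'`-part centralizes `R`
  have haN : y ^ (p ^ k) ∈ normalizer ((R : Subgroup G) : Set G) := Subgroup.pow_mem _ hyN _
  have haC : y ^ (p ^ k) ∈ centralizer ((R : Subgroup G) : Set G) := by
    have hzn : zpowers (y ^ (p ^ k)) ≤ normalizer ((R : Subgroup G) : Set G) := by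
      rw [zpowers_le]; exact haN
    have hdvd := Cfsg.Agent.Lib.Helper21.card_sup_dvd (X := (R : Subgroup G)) hzn
    have ham : (y ^ (p ^ k)) ^ m = 1 := by
      rw [← pow_mul, ← hkm, pow_orderOf_eq_one]
    have ho : orderOf (y ^ (p ^ k)) ∣ m := orderOf_dvd_of_pow_eq_one ham
    have hc1 : (Nat.card (R : Subgroup G)).Coprime p := by
      rw [R.card_eq_multiplicity]
      exact Nat.Coprime.pow_left _ ((Nat.coprime_primes hr hp).2 hrp)
    have hc2 : (Nat.card (zpowers (y ^ (p ^ k)))).Coprime p := by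
      rw [Nat.card_zpowers]
      exact Nat.Coprime.coprime_dvd_left ho ((Nat.Prime.coprime_iff_not_dvd hp).2 hm).symm
    have hc : (Nat.card ((R : Subgroup G) ⊔ zpowers (y ^ (p ^ k)) : Subgroup G)).Coprime p :=
      Nat.Coprime.coprime_dvd_left hdvd (Nat.Coprime.mul_left hc1 hc2)
    rw [mem_centralizer_iff]
    intro x hx
    exact h.ab _ hc x (le_sup_left (a := (R : Subgroup G)) hx) _
      (le_sup_right (a := (R : Subgroup G)) (mem_zpowers _))
  have hbN : y ^ m ∈ normalizer ((R : Subgroup G) : Set G) := Subgroup.pow_mem _ hyN _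
  have hbC : y ^ m ∉ centralizer ((R : Subgroup G) : Set G) := by
    intro hbC
    apply hyC
    have hg := Nat.gcd_eq_gcd_ab (p ^ k) m
    rw [hcop.gcd_eq_one] at hg
    have hy : y = (y ^ (p ^ k)) ^ (Nat.gcdA (p ^ k) m) * (y ^ m) ^ (Nat.gcdB (p ^ k) m) := by
      rw [← zpow_natCast, ← zpow_natCast, ← zpow_mul, ← zpow_mul, ← zpow_add, ← hg]
      simp
    rw [hy]
    exact Subgroup.mul_mem _ (Subgroup.zpow_mem _ haC _) (Subgroup.zpow_mem _ hbC _)
  refine ⟨y ^ m, hbN, hbC, k, ?_⟩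
  rw [← pow_mul, mul_comm, ← hkm, pow_orderOf_eq_one]

end Cfsg.Agent.Lib.Helper15.CycSyl
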