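import Mathlib
import Cfsg.Agent.Lib.Helper15.HsBasic

/-! # Hs hive (helper15, S2536), leaf HS-EXP (helper72): for `n` prime and `π ∩ [1,n] = {primes < n}` the point
stabilizer in `S_n` is a Hall `π`-subgroup (index `n`, order `(n-1)!`). -/

set_option autoImplicit false

namespace Cfsg.Agent.Lib.Helper15.Hs

open Cfsg

/-- the point stabilizer of `S_n` has index `n` -/
theorem exp_index (n : ℕ) (x : Fin n) :
    (MulAction.stabilizer (Equiv.Perm (Fin n)) x).index = n := by
  rw [MulAction.index_stabilizer_of_transitive, Nat.card_eq_fintype_card, Fintype.card_fin]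

/-- the point stabilizer of `S_n` has order `(n-1)!` -/
theorem exp_card (n : ℕ) (hn : 0 < n) (x : Fin n) :
    Nat.card (MulAction.stabilizer (Equiv.Perm (Fin n)) x) = (n - 1).factorial := by
  have h1 := Subgroup.card_mul_index (MulAction.stabilizer (Equiv.Perm (Fin n)) x)
  rw [exp_index, Nat.card_eq_fintype_card (α := Equiv.Perm (Fin n)), Fintype.card_perm,
    Fintype.card_fin] at h1
  obtain ⟨k, rfl⟩ : ∃ k, n = k + 1 := ⟨n - 1, by omega⟩
  rw [Nat.factorial_succ, mul_comm] at h1
  have := Nat.eq_of_mul_eq_mul_left (by omega : 0 < k + 1) h1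
  simpa using this

theorem exists_hall_prime (n : ℕ) (π : Set ℕ) (h : StdCase π n) : IsEPiGroup π (Equiv.Perm (Fin n)) := by
  obtain ⟨hn, hπ⟩ := h
  have hpos : 0 < n := hn.pos
  refine ⟨MulAction.stabilizer (Equiv.Perm (Fin n)) (⟨0, hpos⟩ : Fin n), ?_, ?_⟩
  · intro p hp hdvd
    rw [exp_card n hpos] at hdvd
    have hle : p ≤ n - 1 := (hp.dvd_factorial).mp hdvd
    exact (hπ p hp (by omega)).mpr (by omega)
  · intro p hp hpπ hdvd
    rw [exp_index] at hdvd
    have hpn : p = n := (Nat.prime_dvd_prime_iff_eq hp hn).mp hdvd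
    have := (hπ p hp (by omega)).mp hpπ
    omega

end Cfsg.Agent.Lib.Helper15.Hs
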