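import Cfsg.Agent.Lib.Helper72.AutBasic

/-! # S2125 split, O1: an element of the Chevalley group whose conjugation preserves `U` and `V`
lies in `H` (helper72, for helper18) -/

set_option autoImplicit false

namespace Cfsg.Agent.Lib.Helper72.Au

open Cfsg Cfsg.Lie Cfsg.Agent.Lib.Helper36 Cfsg.Agent.Lib.Helper18 Cfsg.Agent.Lib.Helper18.Au

section
variable (D : ChevalleyDatum) (hD : D ∈ [chevG2, chevB2, chevD4, chevF4, chevE6, chevE7, chevE8])
variable (F : Type*) [Field F]

/-- conjugation by `y` preserves the part of `K ≤ G` in the group iff `y` normalises `K` -/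
theorem mem_normalizer_of_pres_conj (K : Subgroup (GL D.Idx F)) (hK : K ≤ D.group F) (y : ↥(D.group F))
    (h : Pres D F (MulAut.conj y) K) : (y : GL D.Idx F) ∈ Subgroup.normalizer (K : Set (GL D.Idx F)) := by
  rw [Subgroup.mem_normalizer_iff]
  intro u
  by_cases hu : u ∈ D.group F
  · have := h ⟨u, hu⟩
    exact this.symm
  · constructor
    · intro huK
      exact absurd (hK huK) hu
    · intro huK
      exfalso
      apply hu
      have h1 := hK huK
      have : u = (y : GL D.Idx F)⁻¹ * ((y : GL D.Idx F) * u * (y : GL D.Idx F)⁻¹) * (y : GL D.Idx F) := by group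
      rw [this]
      exact mul_mem (mul_mem (inv_mem y.2) h1) y.2

include hD in
/-- O1: an element whose conjugation preserves `U` and `V` lies in `H`. -/
theorem O1_mem_diag [Finite F] (y : ↥(D.group F))
    (hU : Pres D F (MulAut.conj y) (D.posUnipotent F)) (hV : Pres D F (MulAut.conj y) (D.negUnipotent F)) :
    (y : GL D.Idx F) ∈ D.diagonalSubgroup F := by
  have hUG := posUnipotent_le_group D hD F
  have hVG := negUnipotent_le_group D hD F
  have hyU := mem_normalizer_of_pres_conj D F _ hUG y hU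
  have hyV := mem_normalizer_of_pres_conj D F _ hVG y hV
  have hyB : (y : GL D.Idx F) ∈ D.borelSubgroup F := by
    rw [← normalizer_pos_inf_group D hD F]
    exact ⟨hyU, y.2⟩
  obtain ⟨u, hu, h, hh, e⟩ := (mem_borel_iff D hD F _).1 hyB
  -- `u = y h⁻¹` normalises `V`
  have huV : u ∈ Subgroup.normalizer (D.negUnipotent F : Set (GL D.Idx F)) := by
    have : u = (y : GL D.Idx F) * h⁻¹ := by rw [← e]; group
    rw [this]
    exact mul_mem hyV (inv_mem (diagonal_le_normalizer_neg D hD F hh))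
  set n0 := nWordGL D hD F (w0word D) with hn0
  have hn0G : n0 ∈ D.group F := monomial_le_group D hD F (nWordGL_mem D hD F _ (chkW0_spec D hD).1)
  -- `w = n₀ u n₀⁻¹` lies in `V` and normalises `n₀ V n₀⁻¹ = U`
  have hmapU : (D.posUnipotent F).map (MulAut.conj n0).toMonoidHom = D.negUnipotent F :=
    posUnipotent_map_conj D hD F
  have hmapV : (D.negUnipotent F).map (MulAut.conj n0).toMonoidHom = D.posUnipotent F :=
    negUnipotent_map_conj D hD F
  have hwV : n0 * u * n0⁻¹ ∈ D.negUnipotent F := by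
    rw [← hmapU]
    exact ⟨u, hu, rfl⟩
  have hwN : n0 * u * n0⁻¹ ∈ Subgroup.normalizer (D.posUnipotent F : Set (GL D.Idx F)) := by
    rw [Subgroup.mem_normalizer_iff]
    intro x
    have key : ∀ z : GL D.Idx F, z ∈ D.posUnipotent F ↔ n0⁻¹ * z * n0 ∈ D.negUnipotent F := by
      intro z
      rw [← hmapV, Subgroup.mem_map_equiv, MulAut.conj_symm_apply]
    rw [key x, key, Subgroup.mem_normalizer_iff.1 huV (n0⁻¹ * x * n0)]
    have e1 : n0⁻¹ * (n0 * u * n0⁻¹ * x * (n0 * u * n0⁻¹)⁻¹) * n0 = u * (n0⁻¹ * x * n0) * u⁻¹ := by group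
    rw [e1]
  have hwB : n0 * u * n0⁻¹ ∈ D.borelSubgroup F := by
    rw [← normalizer_pos_inf_group D hD F]
    exact Subgroup.mem_inf.2 ⟨hwN, mul_mem (mul_mem hn0G (hUG hu)) (inv_mem hn0G)⟩
  have hw1 : n0 * u * n0⁻¹ ∈ D.borelSubgroup F ⊓ D.negUnipotent F := ⟨hwB, hwV⟩
  rw [borel_inf_neg D hD F, Subgroup.mem_bot] at hw1
  have hu1 : u = 1 := by
    have : u = n0⁻¹ * (n0 * u * n0⁻¹) * n0 := by group
    rw [this, hw1]
    group
  rw [hu1, one_mul] at e
  rw [← e]
  exact hh

end

end Cfsg.Agent.Lib.Helper72.Au
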