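import Cfsg.Agent.Lib.Helper72.AutBasic
import Cfsg.Agent.Lib.Helper36.ChevSylow
import Cfsg.Agent.Lib.Helper18.ChevHCard
import Cfsg.Agent.S1027

/-! # S2156 split, T1: Sylow normalisation of an automorphism of a finite Chevalley group
(helper72, for helper18) -/

set_option autoImplicit false

namespace Cfsg.Agent.Lib.Helper72.Au

open Cfsg Cfsg.Lie Cfsg.Agent.Lib.Helper36 Cfsg.Agent.Lib.Helper18 Cfsg.Agent.Lib.Helper18.Au
open scoped Pointwise

/-- Sylow conjugacy in elementwise form: a subgroup of the same order as a Sylow `p`-subgroup `P` is a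
conjugate of `P`. -/
theorem exists_conj_of_card_eq {G : Type*} [Group G] [Finite G] (p : ℕ) [Fact p.Prime] (P Q : Subgroup G)
    (hP : IsPGroup p P) (hidx : ¬ p ∣ P.index) (hQ : Nat.card Q = Nat.card P) :
    ∃ g : G, ∀ y : G, y ∈ Q ↔ g⁻¹ * y * g ∈ P := by
  obtain ⟨n, hn⟩ := IsPGroup.iff_card.1 hP
  have hQp : IsPGroup p Q := IsPGroup.of_card (hQ.trans hn)
  have hQidx : ¬ p ∣ Q.index := by
    have h1 := Subgroup.card_mul_index P
    have h2 := Subgroup.card_mul_index Q
    rw [hQ, ← h1] at h2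
    have hpos : 0 < Nat.card P := Nat.card_pos
    have : Q.index = P.index := Nat.eq_of_mul_eq_mul_left hpos h2
    rwa [this]
  obtain ⟨g, hg⟩ := MulAction.exists_smul_eq G (hP.toSylow hidx) (hQp.toSylow hQidx)
  refine ⟨g, fun y => ?_⟩
  have h1 : ((hQp.toSylow hQidx : Sylow p G) : Subgroup G) =
      MulAut.conj g • ((hP.toSylow hidx : Sylow p G) : Subgroup G) := by
    rw [← hg, Sylow.coe_subgroup_smul]
  rw [IsPGroup.toSylow_coe, IsPGroup.toSylow_coe] at h1
  rw [h1, Subgroup.mem_pointwise_smul_iff_inv_smul_mem, MulAut.smul_def, MulAut.conj_inv_apply]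

section
variable (D : ChevalleyDatum) (hD : D ∈ [chevG2, chevB2, chevD4, chevF4, chevE6, chevE7, chevE8])
variable (F : Type*) [Field F]

include hD in
/-- if `g U g⁻¹ ∩ U = 1` then `g U g⁻¹ = b V b⁻¹` for some `b ∈ B` -/
theorem conj_pos_eq_conj_neg [Finite F] (g : GL D.Idx F) (hg : g ∈ D.group F)
    (hinf : ∀ u ∈ D.posUnipotent F, g * u * g⁻¹ ∈ D.posUnipotent F → u = 1) :
    ∃ b ∈ D.borelSubgroup F, ∀ u : GL D.Idx F,
      u ∈ D.posUnipotent F ↔ b⁻¹ * (g * u * g⁻¹) * b ∈ D.negUnipotent F := by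
  classical
  haveI : Fintype F := Fintype.ofFinite F
  have h45 : ∀ i < D.rank, H45 D F i := fun i hi => Cfsg.Agent.S1045.result D hD i hi
  obtain ⟨n, hn, b1, hb1, b2, hb2, rfl⟩ := bruhat_exists D hD F h45 g hg
  obtain ⟨l, hl, h, hh, rfl⟩ := exists_word_of_mem_monomial D hD F n hn
  set nw := nWordGL D hD F l with hnw
  set c := h * b2 with hc
  have hcB : c ∈ D.borelSubgroup F := mul_mem (diagonal_le_borel D F hh) hb2
  have hgc : ∀ u : GL D.Idx F, b1⁻¹ * (b1 * (nw * h) * b2 * u * (b1 * (nw * h) * b2)⁻¹) * b1 =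
      nw * (c * u * c⁻¹) * nw⁻¹ := by
    intro u
    rw [hc]
    group
  -- every positive root is made negative
  have hneg : ∀ r, D.IsPosRoot r → D.IsNegRoot (wRoot D l r) := by
    intro r hr
    rcases pos_or_neg D hD _ (wRoot_lt D hD l hl r hr.1) with hp | hn'
    · exfalso
      obtain ⟨ε, hε, hcj⟩ := nWordGL_conj D hD F l hl r hr.1
      have hx : xGL D hD F r 1 ∈ D.posUnipotent F := xGL_mem_pos D hD F r hr 1
      have hu : c⁻¹ * xGL D hD F r 1 * c ∈ D.posUnipotent F := by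
        have := (conj_mem_pos_iff D hD F c⁻¹ (inv_mem hcB) (xGL D hD F r 1)).1 hx
        rwa [inv_inv] at this
      have h1 := hinf _ hu ?_
      · have h2 : xGL D hD F r 1 = 1 := by
          have : xGL D hD F r 1 = c * (c⁻¹ * xGL D hD F r 1 * c) * c⁻¹ := by group
          rw [this, h1]
          group
        have h3 : D.x F r 1 = 1 := by
          rw [← xGL_coe D hD F, h2, Units.val_one]
        exact one_ne_zero (x_eq_one_iff D hD F r hr.1 1 h3)
      · have e : b1 * (nw * h) * b2 * (c⁻¹ * xGL D hD F r 1 * c) * (b1 * (nw * h) * b2)⁻¹ =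
            b1 * (nw * xGL D hD F r 1 * nw⁻¹) * b1⁻¹ := by
          rw [hc]
          group
        rw [e, hcj 1]
        exact (conj_mem_pos_iff D hD F b1 hb1 _).1 (xGL_mem_pos D hD F _ hp _)
    · exact hn'
  -- hence `n_w U n_w⁻¹ ≤ V`
  have hle : (D.posUnipotent F).map (MulAut.conj nw).toMonoidHom ≤ D.negUnipotent F := by
    unfold ChevalleyDatum.posUnipotent
    rw [MonoidHom.map_closure, Subgroup.closure_le]
    rintro _ ⟨x, ⟨r, t, hr, hx⟩, rfl⟩
    have ex : x = xGL D hD F r t := Units.ext (by rw [hx, xGL_coe])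
    obtain ⟨ε, hε, hcj⟩ := nWordGL_conj D hD F l hl r hr.1
    show nw * x * nw⁻¹ ∈ D.negUnipotent F
    rw [ex, hcj t]
    exact Subgroup.subset_closure ⟨_, _, hneg r hr, xGL_coe D hD F _ _⟩
  -- equality by cardinality
  have heq : (D.posUnipotent F).map (MulAut.conj nw).toMonoidHom = D.negUnipotent F := by
    have hinj : Function.Injective (MulAut.conj nw).toMonoidHom := (MulAut.conj nw).injective
    apply Subgroup.eq_of_le_of_card_ge hle
    rw [Subgroup.card_map_of_injective hinj, card_neg_eq_card_pos D hD F]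
  refine ⟨b1, hb1, fun u => ?_⟩
  rw [hgc u, conj_mem_pos_iff D hD F c hcB u]
  constructor
  · intro hu
    exact hle ⟨_, hu, rfl⟩
  · intro hu
    rw [← heq] at hu
    obtain ⟨u', hu', e⟩ := hu
    have e' : nw * u' * nw⁻¹ = nw * (c * u * c⁻¹) * nw⁻¹ := e
    have : u' = c * u * c⁻¹ := by
      have := mul_left_cancel (mul_right_cancel e')
      exact this
    rwa [← this]

include hD in
/-- `U` is a Sylow `p`-subgroup of the Chevalley group, `p` the characteristic -/
theorem pos_sylow [Finite F] (p : ℕ) [Fact p.Prime] [CharP F p] :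
    IsPGroup p ((D.posUnipotent F).subgroupOf (D.group F)) ∧
      ¬ p ∣ ((D.posUnipotent F).subgroupOf (D.group F)).index := by
  classical
  haveI : Fintype F := Fintype.ofFinite F
  have hp : p.Prime := Fact.out
  obtain ⟨n, -, hq⟩ := FiniteField.card F p
  have hUG := posUnipotent_le_group D hD F
  have hcardU' : Nat.card ((D.posUnipotent F).subgroupOf (D.group F)) = Nat.card (D.posUnipotent F) :=
    Nat.card_congr (Subgroup.subgroupOfEquivOfLe hUG).toEquiv
  have hU : Nat.card (D.posUnipotent F) = p ^ ((n : ℕ) * (D.nroots / 2)) := by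
    rw [Cfsg.Agent.S1027.result D hD, hq, pow_mul]
  refine ⟨IsPGroup.of_card (hcardU'.trans hU), ?_⟩
  obtain ⟨P, hG, hP⟩ := card_group_mod D hD F
  have hH := card_ker_mul_card_diagonal D hD F
  have hidx : ((D.posUnipotent F).subgroupOf (D.group F)).index = Nat.card (D.diagonalSubgroup F) * P := by
    have h1 := Subgroup.card_mul_index ((D.posUnipotent F).subgroupOf (D.group F))
    rw [hcardU', hG, mul_assoc] at h1
    have hpos : 0 < Nat.card (D.posUnipotent F) := Nat.card_pos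
    exact Nat.eq_of_mul_eq_mul_left hpos h1
  rw [hidx]
  have hpq : p ∣ Fintype.card F := by
    rw [hq]
    exact dvd_pow_self p n.ne_zero
  intro hdvd
  rcases (Nat.Prime.dvd_mul hp).1 hdvd with h1 | h1
  · -- `p ∣ |H| ∣ (q-1)^l`
    have h2 : p ∣ (Fintype.card F - 1) ^ D.rank := by
      rw [← hH]
      exact dvd_mul_of_dvd_right h1 _
    have h3 : p ∣ Fintype.card F - 1 := hp.dvd_of_dvd_pow h2
    have hq1 : 1 ≤ Fintype.card F := Fintype.card_pos
    have h4 : p ∣ Fintype.card F - (Fintype.card F - 1) := Nat.dvd_sub hpq h3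
    have h5 : Fintype.card F - (Fintype.card F - 1) = 1 := by omega
    rw [h5] at h4
    exact hp.one_lt.ne' (Nat.dvd_one.1 h4)
  · -- `P ≡ 1 mod q`
    have h2 : P ≡ 1 [MOD p] := hP.of_dvd hpq
    have h3 : P % p = 0 := Nat.mod_eq_zero_of_dvd h1
    have h4 : P % p = 1 % p := h2
    rw [h3, Nat.mod_eq_of_lt hp.one_lt] at h4
    exact zero_ne_one h4

include hD in
/-- T1: Sylow normalisation. -/
theorem T1_normalize [Finite F] (θ : ↥(D.group F) ≃* ↥(D.group F)) :
    ∃ (x : ↥(D.group F)) (θ₀ : ↥(D.group F) ≃* ↥(D.group F)), (∀ y, θ y = x * θ₀ y * x⁻¹) ∧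
      Pres D F θ₀ (D.posUnipotent F) ∧ Pres D F θ₀ (D.negUnipotent F) := by
  classical
  haveI : Fintype F := Fintype.ofFinite F
  obtain ⟨p, hcp⟩ := CharP.exists F
  haveI := hcp
  have hpp : p.Prime := by
    rcases CharP.char_is_prime_or_zero F p with h1 | h1
    · exact h1
    · exfalso
      haveI : CharP F 0 := h1 ▸ hcp
      haveI : CharZero F := CharP.charP_to_charZero F
      exact not_finite F
  haveI : Fact p.Prime := ⟨hpp⟩
  obtain ⟨hUp, hUidx⟩ := pos_sylow D hD F p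
  set U' := (D.posUnipotent F).subgroupOf (D.group F) with hU'
  set V' := (D.negUnipotent F).subgroupOf (D.group F) with hV'
  have hUG := posUnipotent_le_group D hD F
  have hVG : D.negUnipotent F ≤ D.group F := negUnipotent_le_group D hD F
  have hcardV' : Nat.card V' = Nat.card U' := by
    rw [hU', hV', Nat.card_congr (Subgroup.subgroupOfEquivOfLe hUG).toEquiv,
      Nat.card_congr (Subgroup.subgroupOfEquivOfLe hVG).toEquiv, card_neg_eq_card_pos D hD F]
  -- step 1: conjugate `θ(U)` back to `U`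
  have hθinj : Function.Injective θ.toMonoidHom := θ.injective
  have hc1 : Nat.card (U'.map θ.toMonoidHom) = Nat.card U' := Subgroup.card_map_of_injective hθinj
  obtain ⟨x, hx⟩ := exists_conj_of_card_eq p U' (U'.map θ.toMonoidHom) hUp hUidx hc1
  set θ₁ : ↥(D.group F) ≃* ↥(D.group F) := θ.trans (MulAut.conj x⁻¹) with hθ₁
  have hθ₁a : ∀ z, θ₁ z = x⁻¹ * θ z * x := by
    intro z
    rw [hθ₁, MulEquiv.trans_apply, MulAut.conj_apply, inv_inv]
  have hθ₁U : ∀ z, θ₁ z ∈ U' ↔ z ∈ U' := by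
    intro z
    rw [hθ₁a, ← hx (θ z)]
    constructor
    · rintro ⟨z', hz', e⟩
      have : z' = z := θ.injective e
      rwa [← this]
    · intro hz
      exact ⟨z, hz, rfl⟩
  -- step 2: `θ₁(V)` is a conjugate of `U` meeting `U` trivially
  have hθ₁inj : Function.Injective θ₁.toMonoidHom := θ₁.injective
  have hc2 : Nat.card (V'.map θ₁.toMonoidHom) = Nat.card U' := by
    rw [← hcardV']
    exact Subgroup.card_map_of_injective hθ₁inj
  obtain ⟨g, hgc⟩ := exists_conj_of_card_eq p U' (V'.map θ₁.toMonoidHom) hUp hUidx hc2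
  have hθ₁V : ∀ z, z ∈ V' ↔ g⁻¹ * θ₁ z * g ∈ U' := by
    intro z
    rw [← hgc (θ₁ z)]
    constructor
    · intro hz
      exact ⟨z, hz, rfl⟩
    · rintro ⟨z', hz', e⟩
      have : z' = z := θ₁.injective e
      rwa [← this]
  have hUV : ∀ z, z ∈ U' → z ∈ V' → z = 1 := by
    intro z hzU hzV
    have h1 : (z : GL D.Idx F) ∈ D.borelSubgroup F ⊓ D.negUnipotent F :=
      ⟨pos_le_borel D F (Subgroup.mem_subgroupOf.1 hzU), Subgroup.mem_subgroupOf.1 hzV⟩
    rw [borel_inf_neg D hD F, Subgroup.mem_bot] at h1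
    exact Subtype.ext h1
  have hinf : ∀ u ∈ D.posUnipotent F, (g : GL D.Idx F) * u * (g : GL D.Idx F)⁻¹ ∈ D.posUnipotent F → u = 1 := by
    intro u hu hgu
    set u' : ↥(D.group F) := ⟨u, hUG hu⟩ with hu'
    have hu'U : u' ∈ U' := Subgroup.mem_subgroupOf.2 hu
    have hyU : g * u' * g⁻¹ ∈ U' := Subgroup.mem_subgroupOf.2 hgu
    have hyQ : g * u' * g⁻¹ ∈ V'.map θ₁.toMonoidHom := by
      rw [hgc]
      have : g⁻¹ * (g * u' * g⁻¹) * g = u' := by group
      rw [this]
      exact hu'U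
    obtain ⟨z, hzV, hz⟩ := hyQ
    have hzU : z ∈ U' := by
      rw [← hθ₁U]
      have : θ₁ z = g * u' * g⁻¹ := hz
      rw [this]
      exact hyU
    have hz1 := hUV z hzU hzV
    have hz' : θ₁ z = g * u' * g⁻¹ := hz
    rw [hz1, map_one] at hz'
    have h1 : u' = 1 := by
      have : u' = g⁻¹ * (g * u' * g⁻¹) * g := by group
      rw [this, ← hz']
      group
    exact congrArg Subtype.val h1
  obtain ⟨b, hb, hbV⟩ := conj_pos_eq_conj_neg D hD F g g.2 hinf
  set b' : ↥(D.group F) := ⟨b, borel_le_group D hD F hb⟩ with hb'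
  set θ₀ : ↥(D.group F) ≃* ↥(D.group F) := θ₁.trans (MulAut.conj b'⁻¹) with hθ₀
  have hθ₀a : ∀ z, θ₀ z = b'⁻¹ * θ₁ z * b' := by
    intro z
    rw [hθ₀, MulEquiv.trans_apply, MulAut.conj_apply, inv_inv]
  refine ⟨x * b', θ₀, ?_, ?_, ?_⟩
  · intro y
    rw [hθ₀a, hθ₁a]
    group
  · intro z
    have h1 : ((θ₀ z : ↥(D.group F)) : GL D.Idx F) = b⁻¹ * ((θ₁ z : ↥(D.group F)) : GL D.Idx F) * b⁻¹⁻¹ := by
      rw [hθ₀a, inv_inv]
      rfl
    rw [h1, ← conj_mem_pos_iff D hD F b⁻¹ (inv_mem hb)]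
    exact hθ₁U z
  · intro z
    have h1 : ((θ₀ z : ↥(D.group F)) : GL D.Idx F) =
        b⁻¹ * ((g : GL D.Idx F) * ((g⁻¹ * θ₁ z * g : ↥(D.group F)) : GL D.Idx F) * (g : GL D.Idx F)⁻¹) * b := by
      rw [hθ₀a]
      have : θ₁ z = g * (g⁻¹ * θ₁ z * g) * g⁻¹ := by group
      conv_lhs => rw [this]
      rfl
    rw [h1, ← hbV]
    exact ((hθ₁V z).symm : _ ↔ z ∈ V')

end

end Cfsg.Agent.Lib.Helper72.Au
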