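import Cfsg.Agent.Lib.Helper18.AutDefs
import Cfsg.Agent.Lib.Helper36.ChevTwPerf
import Cfsg.Agent.Lib.Helper36.ChevBV
import Cfsg.Agent.Lib.Helper36.ChevBN

/-! # S2156 split, T2e: the permutations of the positive and of the negative fundamental root subgroups
agree (helper72, for helper18) -/

set_option autoImplicit false
set_option maxRecDepth 100000

namespace Cfsg.Agent.Lib.Helper72.Au

open Cfsg Cfsg.Lie Cfsg.Agent.Lib.Helper36 Cfsg.Agent.Lib.Helper18 Cfsg.Agent.Lib.Helper18.Au

/-- table check: `X_{p_a}` and `X_{-p_b}` commute for `a ≠ b` -/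
def chkSimpNeg (D : ChevalleyDatum) : Bool :=
  (List.range D.rank).all fun a => (List.range D.rank).all fun b =>
    (a == b) ||
      (decide (D.simple a < D.nroots) && decide (D.neg (D.simple b) < D.nroots) &&
        (D.neg (D.simple b) != D.simple a) && (D.neg (D.simple b) != D.neg (D.simple a)) &&
        (D.commTerms (D.simple a) (D.neg (D.simple b)) == []))

theorem chkSimpNeg_G2 : chkSimpNeg chevG2 = true := by decide +kernel
theorem chkSimpNeg_B2 : chkSimpNeg chevB2 = true := by decide +kernel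
theorem chkSimpNeg_D4 : chkSimpNeg chevD4 = true := by decide +kernel
theorem chkSimpNeg_F4 : chkSimpNeg chevF4 = true := by decide +kernel
theorem chkSimpNeg_E6 : chkSimpNeg chevE6 = true := by decide +kernel
theorem chkSimpNeg_E7 : chkSimpNeg chevE7 = true := by decide +kernel
theorem chkSimpNeg_E8 : chkSimpNeg chevE8 = true := by decide +kernel

theorem chkSimpNeg_all (D : ChevalleyDatum) (hD : D ∈ [chevG2, chevB2, chevD4, chevF4, chevE6, chevE7, chevE8]) :
    chkSimpNeg D = true :=
  seven_cases (P := fun D => chkSimpNeg D = true) D hD chkSimpNeg_G2 chkSimpNeg_B2 chkSimpNeg_D4 chkSimpNeg_F4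
    chkSimpNeg_E6 chkSimpNeg_E7 chkSimpNeg_E8

section
variable (D : ChevalleyDatum) (hD : D ∈ [chevG2, chevB2, chevD4, chevF4, chevE6, chevE7, chevE8])
variable (F : Type*) [Field F]

include hD in
/-- `X_{p_a}` and `X_{-p_b}` commute for `a ≠ b` -/
theorem commute_simple_neg (a b : ℕ) (ha : a < D.rank) (hb : b < D.rank) (hab : a ≠ b) (t u : F) :
    Commute (xGL D hD F (D.simple a) t) (xGL D hD F (D.neg (D.simple b)) u) := by
  have h := chkSimpNeg_all D hD
  unfold chkSimpNeg at h
  rw [List.all_eq_true] at h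
  have h1 := h a (List.mem_range.2 ha)
  rw [List.all_eq_true] at h1
  have h2 := h1 b (List.mem_range.2 hb)
  simp only [Bool.or_eq_true, beq_iff_eq, Bool.and_eq_true, decide_eq_true_eq, bne_iff_ne, ne_eq] at h2
  rcases h2 with h2 | ⟨⟨⟨⟨h3, h4⟩, h5⟩, h6⟩, h7⟩
  · exact absurd h2 hab
  · exact xGL_commute_of_nil D hD F _ _ h3 h4 h5 h6 h7 t u

include hD in
/-- `X_{p_i}` and `X_{-p_i}` do not commute -/
theorem not_commute_simple_neg (i : ℕ) (hi : i < D.rank)
    (h : ∀ t u : F, Commute (xGL D hD F (D.simple i) t) (xGL D hD F (D.neg (D.simple i)) u)) : False := by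
  have hp := (chkN2_spec D (chkN2_all D hD) i hi).1
  have hrel := (rank1Rel_all D hD F (D.simple i) hp).1 1
  have hn := nGL_eq D hD F (D.simple i) 1
  -- `n` commutes with `x_p(1)`
  have hc : Commute (nGL D hD F (D.simple i) 1) (xGL D hD F (D.simple i) 1) := by
    rw [hn]
    exact ((Commute.refl _).mul_left (h 1 _).symm).mul_left (Commute.refl _)
  have e : xGL D hD F (D.simple i) 1 = xGL D hD F (D.neg (D.simple i)) (-1) := by
    have h1 : nGL D hD F (D.simple i) 1 * xGL D hD F (D.simple i) 1 =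
        xGL D hD F (D.simple i) 1 * nGL D hD F (D.simple i) 1 := hc
    rw [h1] at hrel
    exact mul_right_cancel hrel
  exact xGL_neg_simple_not_mem_borel D hD F i hi (-1) (neg_ne_zero.2 one_ne_zero)
    (e ▸ pos_le_borel D F (xGL_mem_pos D hD F _ (isPosRoot_simple D hD i hi) 1))

include hD in
/-- T2e: the two permutations agree (`X_{p_i}` and `X_{-p_j}` commute iff `i ≠ j`). -/
theorem T2e_same (θ₀ : ↥(D.group F) ≃* ↥(D.group F)) (π π' : Equiv.Perm (Fin D.rank))
    (h : ∀ i : Fin D.rank, MapsRoot D hD F θ₀ (D.neg (D.simple i)) (D.neg (D.simple (π i))))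
    (h' : ∀ i : Fin D.rank, MapsRoot D hD F θ₀ (D.simple i) (D.simple (π' i))) : π = π' := by
  refine Equiv.ext fun i => ?_
  by_contra hne
  have hne' : ((π' i : Fin D.rank) : ℕ) ≠ ((π i : Fin D.rank) : ℕ) := fun e => hne (Fin.ext e.symm)
  apply not_commute_simple_neg D hD F i i.2
  intro t u
  obtain ⟨t', ht'⟩ := h' i t
  obtain ⟨u', hu'⟩ := h i u
  have hc := commute_simple_neg D hD F (π' i) (π i) (π' i).2 (π i).2 hne' t' u'
  have hc' : θ₀ (xGr D hD F (D.simple i) t) * θ₀ (xGr D hD F (D.neg (D.simple i)) u) =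
      θ₀ (xGr D hD F (D.neg (D.simple i)) u) * θ₀ (xGr D hD F (D.simple i) t) := by
    rw [ht', hu']
    apply Subtype.ext
    exact hc
  rw [← map_mul, ← map_mul] at hc'
  have := congrArg Subtype.val (θ₀.injective hc')
  exact this

end

end Cfsg.Agent.Lib.Helper72.Au
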