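import Cfsg.Agent.Lib.Helper72.StB2
import Cfsg.Agent.Lib.Helper80.St_T0

/-! # ST-T4 (helper6's Steinberg hive, wave 2): the permutation character of `P_J` on `B` (helper72) -/

set_option autoImplicit false

namespace Cfsg.Agent.Lib.Helper6.St

open Cfsg Cfsg.Agent.Lib.Helper6 Cfsg.Agent.Lib.Helper6.Exch

section G
variable {G : Type*} [Group G] (P : Cfsg.BNPair G)

/-- `B ∩ ḋ B ḋ⁻¹` as a subgroup of `B`, in the two formulations -/
theorem t4_Bw_subgroupOf (d : Wg P) :
    (Bw P d).subgroupOf P.B =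
      Cfsg.Agent.Lib.Helper72.StB.Bn P (Cfsg.Agent.Lib.Helper72.StB.rp P d) := by
  ext c
  rw [Subgroup.mem_subgroupOf, Cfsg.Agent.Lib.Helper72.StB.mem_Bn]
  unfold Bw Cfsg.Agent.Lib.Helper72.StB.rp
  rw [Subgroup.mem_inf, Subgroup.mem_map]
  constructor
  · rintro ⟨_, e, he, hce⟩
    have h1 : ((Quotient.out d : P.N) : G)⁻¹ * (c : G) * ((Quotient.out d : P.N) : G) = e := by
      rw [← hce]
      simp only [MulEquiv.coe_toMonoidHom, MulAut.conj_apply]
      group
    rw [h1]; exact he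
  · intro h
    refine ⟨c.2, _, h, ?_⟩
    simp only [MulEquiv.coe_toMonoidHom, MulAut.conj_apply]
    group

open Classical in
theorem fixedPointCharacter_parabolic_borel [Finite G] [Fintype (Wg P)] (J : Set P.S) (b : P.B) :
    fixedPointCharacter (P.parabolic (Subtype.val '' J)) (b : G) =
      ∑ d ∈ Finset.univ.filter (fun d => RRed (S0320.sig P) J d),
        fixedPointCharacter ((Bw P d).subgroupOf P.B) b := by
  have h1 : ∀ d : Wg P, fixedPointCharacter ((Bw P d).subgroupOf P.B) b =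
      (Nat.card (MulAction.fixedBy (P.B ⧸ Cfsg.Agent.Lib.Helper72.StB.Bn P
        (Cfsg.Agent.Lib.Helper72.StB.rp P d)) b) : ℂ) := by
    intro d
    rw [t4_Bw_subgroupOf]
    rfl
  simp only [h1]
  unfold fixedPointCharacter
  rw [Cfsg.Agent.Lib.Helper72.StB.card_fixedBy_parabolic P J b]
  push_cast
  rfl

end G

end Cfsg.Agent.Lib.Helper6.St
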