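import Cfsg.Agent.Lib.Helper20.G2cDefs
import Cfsg.Agent.S1025

/-! # G2c mini-hive (owner helper20; S2180): leaf G2C-UFACT `radical_fact` (helper72)

Every element of `U_b = ⟨X_7, X_8, X_9, X_10, X_11⟩` of `G₂(F)` is `x_7(s) x_8(s') T(c,d,e)`,
`T(c,d,e) = x_9(c) x_10(d) x_11(e)`.  Left-multiplication induction on the closure; the commutator formula
(`S1025`) is used for the pairs `(7,9)`, `(8,9)`, `(7,8)` and, with empty term list, for the commuting pairs. -/

set_option autoImplicit false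

namespace Cfsg.Agent.Lib.Helper20.G2c

open Cfsg Cfsg.Lie Cfsg.Agent.Lib.Helper36

variable (F : Type*) [Field F]

theorem ufact_add (r : ℕ) (a b : F) : xg F r (a + b) = xg F r a * xg F r b := xGL_add chevG2 hG2 F r a b

theorem ufact_zero (r : ℕ) : xg F r 0 = 1 := xGL_zero chevG2 hG2 F r

theorem ufact_inv (r : ℕ) (t : F) : (xg F r t)⁻¹ = xg F r (-t) := xGL_inv chevG2 hG2 F r t

/-- commuting root elements (empty list of commutator terms) -/
theorem ufact_commute (r s : ℕ) (hr : r < chevG2.nroots) (hs : s < chevG2.nroots) (h1 : s ≠ r)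
    (h2 : s ≠ chevG2.neg r) (hterms : chevG2.commTerms r s = []) (t u : F) :
    Commute (xg F s u) (xg F r t) := by
  have hcf := Cfsg.Agent.S1025.result (F := F) chevG2 hG2 r s hr hs h1 h2 t u
  have hw : chevG2.wordMat F (chevG2.commWord F r s t u) = 1 := by
    unfold ChevalleyDatum.commWord ChevalleyDatum.wordMat
    rw [hterms]
    simp
  rw [hw, mul_one] at hcf
  show xg F s u * xg F r t = xg F r t * xg F s u
  apply Units.ext
  rw [Units.val_mul, Units.val_mul, xGL_coe, xGL_coe]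
  exact hcf

/-- the commutator formula with a single term -/
theorem ufact_comm1 (r s g : ℕ) (k : ℤ) (i j : ℕ) (hr : r < chevG2.nroots) (hs : s < chevG2.nroots) (h1 : s ≠ r)
    (h2 : s ≠ chevG2.neg r) (hterms : chevG2.commTerms r s = [(g, k, i, j)]) (t u : F) :
    xg F s u * xg F r t = xg F r t * xg F s u * xg F g ((k : F) * (-t) ^ i * u ^ j) := by
  have hcf := Cfsg.Agent.S1025.result (F := F) chevG2 hG2 r s hr hs h1 h2 t u
  have hw : chevG2.wordMat F (chevG2.commWord F r s t u) = chevG2.x F g ((k : F) * (-t) ^ i * u ^ j) := by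
    unfold ChevalleyDatum.commWord ChevalleyDatum.wordMat
    rw [hterms]
    simp
  rw [hw] at hcf
  apply Units.ext
  rw [Units.val_mul, Units.val_mul, Units.val_mul, xGL_coe, xGL_coe, xGL_coe]
  exact hcf

theorem ufact_c910 (a b : F) : Commute (xg F 9 a) (xg F 10 b) :=
  ufact_commute F 10 9 (by decide) (by decide) (by decide) (by decide) (by decide) b a

theorem ufact_c911 (a b : F) : Commute (xg F 9 a) (xg F 11 b) :=
  ufact_commute F 11 9 (by decide) (by decide) (by decide) (by decide) (by decide) b a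

theorem ufact_c1011 (a b : F) : Commute (xg F 10 a) (xg F 11 b) :=
  ufact_commute F 11 10 (by decide) (by decide) (by decide) (by decide) (by decide) b a

theorem ufact_c107 (a b : F) : Commute (xg F 10 a) (xg F 7 b) :=
  ufact_commute F 7 10 (by decide) (by decide) (by decide) (by decide) (by decide) b a

theorem ufact_c117 (a b : F) : Commute (xg F 11 a) (xg F 7 b) :=
  ufact_commute F 7 11 (by decide) (by decide) (by decide) (by decide) (by decide) b a

theorem ufact_c108 (a b : F) : Commute (xg F 10 a) (xg F 8 b) :=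
  ufact_commute F 8 10 (by decide) (by decide) (by decide) (by decide) (by decide) b a

theorem ufact_c118 (a b : F) : Commute (xg F 11 a) (xg F 8 b) :=
  ufact_commute F 8 11 (by decide) (by decide) (by decide) (by decide) (by decide) b a

/-- `V = X_9 X_10 X_11` is abelian: `T` is additive -/
theorem ufact_T_mul (c d e c' d' e' : F) :
    T F c d e * T F c' d' e' = T F (c + c') (d + d') (e + e') := by
  unfold T
  rw [ufact_add, ufact_add, ufact_add,
    Commute.mul_mul_mul_comm ((ufact_c911 F c' e).symm.mul_right (ufact_c1011 F d' e).symm) _ _,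
    Commute.mul_mul_mul_comm (ufact_c910 F c' d).symm _ _]

theorem ufact_T9 (t : F) : xg F 9 t = T F t 0 0 := by
  unfold T
  rw [ufact_zero, ufact_zero, mul_one, mul_one]

theorem ufact_T10 (t : F) : xg F 10 t = T F 0 t 0 := by
  unfold T
  rw [ufact_zero, ufact_zero, mul_one, one_mul]

theorem ufact_T11 (t : F) : xg F 11 t = T F 0 0 t := by
  unfold T
  rw [ufact_zero, ufact_zero, one_mul, one_mul]

/-- `X_7` normalises `V` -/
theorem ufact_T7 (c d e s : F) : ∃ d' : F, T F c d e * xg F 7 s = xg F 7 s * T F c d' e := by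
  have hk := ufact_comm1 F 7 9 10 3 1 1 (by decide) (by decide) (by decide) (by decide) (by decide) s c
  refine ⟨((3 : ℤ) : F) * (-s) ^ 1 * c ^ 1 + d, ?_⟩
  unfold T
  calc xg F 9 c * xg F 10 d * xg F 11 e * xg F 7 s
      = xg F 9 c * xg F 10 d * (xg F 11 e * xg F 7 s) := by rw [mul_assoc]
    _ = xg F 9 c * xg F 10 d * (xg F 7 s * xg F 11 e) := by rw [(ufact_c117 F e s).eq]
    _ = xg F 9 c * (xg F 10 d * xg F 7 s) * xg F 11 e := by simp only [mul_assoc]
    _ = xg F 9 c * (xg F 7 s * xg F 10 d) * xg F 11 e := by rw [(ufact_c107 F d s).eq]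
    _ = (xg F 9 c * xg F 7 s) * xg F 10 d * xg F 11 e := by simp only [mul_assoc]
    _ = (xg F 7 s * xg F 9 c * xg F 10 (((3 : ℤ) : F) * (-s) ^ 1 * c ^ 1)) * xg F 10 d * xg F 11 e := by rw [hk]
    _ = xg F 7 s * (xg F 9 c * (xg F 10 (((3 : ℤ) : F) * (-s) ^ 1 * c ^ 1) * xg F 10 d) * xg F 11 e) := by
        simp only [mul_assoc]
    _ = xg F 7 s * (xg F 9 c * xg F 10 (((3 : ℤ) : F) * (-s) ^ 1 * c ^ 1 + d) * xg F 11 e) := by
        rw [← ufact_add]

/-- `X_8` normalises `V` -/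
theorem ufact_T8 (c d e s : F) : ∃ e' : F, T F c d e * xg F 8 s = xg F 8 s * T F c d e' := by
  have hk := ufact_comm1 F 8 9 11 3 1 1 (by decide) (by decide) (by decide) (by decide) (by decide) s c
  refine ⟨((3 : ℤ) : F) * (-s) ^ 1 * c ^ 1 + e, ?_⟩
  unfold T
  calc xg F 9 c * xg F 10 d * xg F 11 e * xg F 8 s
      = xg F 9 c * xg F 10 d * (xg F 11 e * xg F 8 s) := by rw [mul_assoc]
    _ = xg F 9 c * xg F 10 d * (xg F 8 s * xg F 11 e) := by rw [(ufact_c118 F e s).eq]
    _ = xg F 9 c * (xg F 10 d * xg F 8 s) * xg F 11 e := by simp only [mul_assoc]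
    _ = xg F 9 c * (xg F 8 s * xg F 10 d) * xg F 11 e := by rw [(ufact_c108 F d s).eq]
    _ = (xg F 9 c * xg F 8 s) * xg F 10 d * xg F 11 e := by simp only [mul_assoc]
    _ = (xg F 8 s * xg F 9 c * xg F 11 (((3 : ℤ) : F) * (-s) ^ 1 * c ^ 1)) * xg F 10 d * xg F 11 e := by rw [hk]
    _ = xg F 8 s * (xg F 9 c * (xg F 11 (((3 : ℤ) : F) * (-s) ^ 1 * c ^ 1) * xg F 10 d) * xg F 11 e) := by
        simp only [mul_assoc]
    _ = xg F 8 s * (xg F 9 c * (xg F 10 d * xg F 11 (((3 : ℤ) : F) * (-s) ^ 1 * c ^ 1)) * xg F 11 e) := by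
        rw [(ufact_c1011 F d _).symm.eq]
    _ = xg F 8 s * (xg F 9 c * xg F 10 d * (xg F 11 (((3 : ℤ) : F) * (-s) ^ 1 * c ^ 1) * xg F 11 e)) := by
        simp only [mul_assoc]
    _ = xg F 8 s * (xg F 9 c * xg F 10 d * xg F 11 (((3 : ℤ) : F) * (-s) ^ 1 * c ^ 1 + e)) := by
        rw [← ufact_add]

/-- `[X_7, X_8] ⊆ V` -/
theorem ufact_87 (t u : F) : ∃ c d e : F, xg F 8 u * xg F 7 t = xg F 7 t * xg F 8 u * T F c d e := by
  have hcf := Cfsg.Agent.S1025.result (F := F) chevG2 hG2 7 8 (by decide) (by decide) (by decide) (by decide) t u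
  have hterms : chevG2.commTerms 7 8 = [(9, -2, 1, 1), (10, -3, 2, 1), (11, 3, 1, 2)] := by decide
  have hw : chevG2.wordMat F (chevG2.commWord F 7 8 t u) =
      chevG2.x F 9 (((-2 : ℤ) : F) * (-t) ^ 1 * u ^ 1) * chevG2.x F 10 (((-3 : ℤ) : F) * (-t) ^ 2 * u ^ 1) *
        chevG2.x F 11 (((3 : ℤ) : F) * (-t) ^ 1 * u ^ 2) := by
    unfold ChevalleyDatum.commWord ChevalleyDatum.wordMat
    rw [hterms]
    simp only [List.map_cons, List.map_nil, List.prod_cons, List.prod_nil, mul_one, mul_assoc]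
  rw [hw] at hcf
  refine ⟨((-2 : ℤ) : F) * (-t) ^ 1 * u ^ 1, ((-3 : ℤ) : F) * (-t) ^ 2 * u ^ 1, ((3 : ℤ) : F) * (-t) ^ 1 * u ^ 2, ?_⟩
  unfold T
  apply Units.ext
  simp only [Units.val_mul, xGL_coe]
  rw [hcf]

/-- the normal form -/
def ufact_P (u : GL chevG2.Idx F) : Prop := ∃ s s' c d e : F, u = xg F 7 s * xg F 8 s' * T F c d e

theorem ufact_P_one : ufact_P F 1 := by
  refine ⟨0, 0, 0, 0, 0, ?_⟩
  rw [← ufact_T9, ufact_zero, ufact_zero, ufact_zero, one_mul, one_mul]

theorem ufact_P7 (t : F) (y : GL chevG2.Idx F) (hy : ufact_P F y) : ufact_P F (xg F 7 t * y) := by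
  obtain ⟨s, s', c, d, e, rfl⟩ := hy
  refine ⟨t + s, s', c, d, e, ?_⟩
  rw [ufact_add]
  simp only [mul_assoc]

theorem ufact_P8 (t : F) (y : GL chevG2.Idx F) (hy : ufact_P F y) : ufact_P F (xg F 8 t * y) := by
  obtain ⟨s, s', c, d, e, rfl⟩ := hy
  obtain ⟨c1, d1, e1, h87⟩ := ufact_87 F s t
  obtain ⟨e2, h8⟩ := ufact_T8 F c1 d1 e1 s'
  refine ⟨s, t + s', c1 + c, d1 + d, e2 + e, ?_⟩
  calc xg F 8 t * (xg F 7 s * xg F 8 s' * T F c d e)
      = (xg F 8 t * xg F 7 s) * xg F 8 s' * T F c d e := by simp only [mul_assoc]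
    _ = (xg F 7 s * xg F 8 t * T F c1 d1 e1) * xg F 8 s' * T F c d e := by rw [h87]
    _ = xg F 7 s * xg F 8 t * (T F c1 d1 e1 * xg F 8 s') * T F c d e := by simp only [mul_assoc]
    _ = xg F 7 s * xg F 8 t * (xg F 8 s' * T F c1 d1 e2) * T F c d e := by rw [h8]
    _ = xg F 7 s * (xg F 8 t * xg F 8 s') * (T F c1 d1 e2 * T F c d e) := by simp only [mul_assoc]
    _ = xg F 7 s * xg F 8 (t + s') * T F (c1 + c) (d1 + d) (e2 + e) := by rw [← ufact_add, ufact_T_mul]

theorem ufact_PT (c0 d0 e0 : F) (y : GL chevG2.Idx F) (hy : ufact_P F y) : ufact_P F (T F c0 d0 e0 * y) := by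
  obtain ⟨s, s', c, d, e, rfl⟩ := hy
  obtain ⟨d1, h7⟩ := ufact_T7 F c0 d0 e0 s
  obtain ⟨e1, h8⟩ := ufact_T8 F c0 d1 e0 s'
  refine ⟨s, s', c0 + c, d1 + d, e1 + e, ?_⟩
  calc T F c0 d0 e0 * (xg F 7 s * xg F 8 s' * T F c d e)
      = (T F c0 d0 e0 * xg F 7 s) * xg F 8 s' * T F c d e := by simp only [mul_assoc]
    _ = (xg F 7 s * T F c0 d1 e0) * xg F 8 s' * T F c d e := by rw [h7]
    _ = xg F 7 s * (T F c0 d1 e0 * xg F 8 s') * T F c d e := by simp only [mul_assoc]
    _ = xg F 7 s * (xg F 8 s' * T F c0 d1 e1) * T F c d e := by rw [h8]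
    _ = xg F 7 s * xg F 8 s' * (T F c0 d1 e1 * T F c d e) := by simp only [mul_assoc]
    _ = xg F 7 s * xg F 8 s' * T F (c0 + c) (d1 + d) (e1 + e) := by rw [ufact_T_mul]

/-- the roots of `U_b` are `7, …, 11` -/
theorem ufact_roots (r : ℕ) (hp : chevG2.IsPosRoot r) (hn : ¬ chevG2.InRootSub {1} r) :
    r = 7 ∨ r = 8 ∨ r = 9 ∨ r = 10 ∨ r = 11 := by
  have hr : r < 12 := hp.1
  interval_cases r
  · exact absurd hp (by decide)
  · exact absurd hp (by decide)
  · exact absurd hp (by decide)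
  · exact absurd hp (by decide)
  · exact absurd hp (by decide)
  · exact absurd hp (by decide)
  · exfalso
    apply hn
    refine ⟨by decide, fun i hi hni => ?_⟩
    have hi2 : i < 2 := hi
    interval_cases i
    · decide
    · exact absurd (Set.mem_singleton 1) hni
  · simp
  · simp
  · simp
  · simp
  · simp

theorem ufact_Pgen (r : ℕ) (hr : r = 7 ∨ r = 8 ∨ r = 9 ∨ r = 10 ∨ r = 11) (t : F) (y : GL chevG2.Idx F)
    (hy : ufact_P F y) : ufact_P F (xg F r t * y) := by
  rcases hr with rfl | rfl | rfl | rfl | rfl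
  · exact ufact_P7 F t y hy
  · exact ufact_P8 F t y hy
  · rw [ufact_T9]; exact ufact_PT F _ _ _ y hy
  · rw [ufact_T10]; exact ufact_PT F _ _ _ y hy
  · rw [ufact_T11]; exact ufact_PT F _ _ _ y hy

/-- G2C-UFACT -/
theorem radical_fact (u : GL chevG2.Idx F) (hu : u ∈ chevG2.unipotentRadical F {1}) :
    ∃ s s' c d e : F, u = xg F 7 s * xg F 8 s' * T F c d e := by
  show ufact_P F u
  unfold ChevalleyDatum.unipotentRadical at hu
  induction hu using Subgroup.closure_induction_left with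
  | one => exact ufact_P_one F
  | mul_left x hx y _ ih =>
    obtain ⟨r, t, hp, hn, hx⟩ := hx
    have hx' : x = xg F r t := Units.ext hx
    rw [hx']
    exact ufact_Pgen F r (ufact_roots r hp hn) t y ih
  | inv_mul_cancel x hx y _ ih =>
    obtain ⟨r, t, hp, hn, hx⟩ := hx
    have hx' : x = xg F r t := Units.ext hx
    rw [hx', ufact_inv]
    exact ufact_Pgen F r (ufact_roots r hp hn) (-t) y ih

end Cfsg.Agent.Lib.Helper20.G2c
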