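import Mathlib

set_option autoImplicit false

namespace Cfsg.Agent.Lib.Helper72

open scoped Pointwise

variable {G : Type*} [Group G]

/-- If `P` is a Sylow subgroup normal in `A` and `Q` is another Sylow subgroup inside `A`, then `Q = P`. -/
theorem sylow_eq_of_le_of_le_normalizer [Finite G] {p : ℕ} [Fact p.Prime] (P Q : Sylow p G)
    (A : Subgroup G) (hP : (P : Subgroup G) ≤ A) (hQ : (Q : Subgroup G) ≤ A)
    (hA : A ≤ Subgroup.normalizer ((P : Subgroup G) : Set G)) : Q = P := by
  have hn : ((P.subtype hP : Sylow p A) : Subgroup A).Normal := by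
    rw [Sylow.coe_subtype]
    exact (Subgroup.normal_subgroupOf_iff_le_normalizer hP).mpr hA
  have hu : Unique (Sylow p A) := Sylow.unique_of_normal (P.subtype hP) hn
  have : Q.subtype hQ = P.subtype hP := Subsingleton.elim _ _
  exact Sylow.subtype_injective this

/-- The number of Sylow subgroups of a quotient `G ⧸ K` is the index of the normalizer of `P ⊔ K`. -/
theorem card_sylow_quotient [Finite G] {p : ℕ} [Fact p.Prime] (K : Subgroup G) [K.Normal]
    (P : Sylow p G) :
    Nat.card (Sylow p (G ⧸ K)) =
      (Subgroup.normalizer (((P : Subgroup G) ⊔ K : Subgroup G) : Set G)).index := by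
  have hf : Function.Surjective (QuotientGroup.mk' K) := QuotientGroup.mk'_surjective K
  rw [Sylow.card_eq_index_normalizer (P.mapSurjective hf)]
  rw [← Subgroup.index_comap_of_surjective _ hf]
  congr 1
  have h1 := Subgroup.comap_normalizer_eq_of_surjective
    ((P : Subgroup G).map (QuotientGroup.mk' K)) hf
  have h2 : ((P : Subgroup G).map (QuotientGroup.mk' K)).comap (QuotientGroup.mk' K) =
      (P : Subgroup G) ⊔ K := by
    rw [Subgroup.comap_map_eq, QuotientGroup.ker_mk']
  rw [h2] at h1
  rw [← h1]
  rfl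

/-- A Sylow `p`-subgroup lies in every normal subgroup of index prime to `p`. -/
theorem sylow_le_of_normal_of_not_dvd_index [Finite G] {p : ℕ} [Fact p.Prime] (H : Subgroup G)
    [H.Normal] (hp : ¬ p ∣ H.index) (P : Sylow p G) : (P : Subgroup G) ≤ H := by
  intro x hx
  obtain ⟨k, hk⟩ := (IsPGroup.iff_orderOf.mp P.isPGroup') ⟨x, hx⟩
  rw [Subgroup.orderOf_mk] at hk
  have h1 : orderOf (QuotientGroup.mk' H x) ∣ p ^ k := hk ▸ orderOf_map_dvd _ x
  have h2 : orderOf (QuotientGroup.mk' H x) ∣ H.index := by
    rw [Subgroup.index_eq_card]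
    exact orderOf_dvd_natCard _
  have hcop : Nat.Coprime (p ^ k) H.index :=
    Nat.Coprime.pow_left k ((Nat.Prime.coprime_iff_not_dvd Fact.out).mpr hp)
  have h3 : orderOf (QuotientGroup.mk' H x) = 1 :=
    Nat.eq_one_of_dvd_coprimes hcop h1 h2
  rw [orderOf_eq_one_iff] at h3
  exact (QuotientGroup.eq_one_iff x).mp h3

/-- A normal subgroup of index prime to `p` has the same number of Sylow `p`-subgroups. -/
theorem card_sylow_of_normal_of_not_dvd_index [Finite G] {p : ℕ} [Fact p.Prime] (H : Subgroup G)
    [H.Normal] (hp : ¬ p ∣ H.index) : Nat.card (Sylow p H) = Nat.card (Sylow p G) := by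
  symm
  apply Nat.card_eq_of_bijective
    (fun P : Sylow p G => P.subtype (sylow_le_of_normal_of_not_dvd_index H hp P))
  constructor
  · intro P Q h
    exact Sylow.subtype_injective h
  · intro P'
    obtain ⟨Q, hQ⟩ := P'.exists_comap_subtype_eq
    exact ⟨Q, Sylow.ext hQ⟩

/-- Passing to the quotient by the center does not change the number of Sylow subgroups. -/
theorem card_sylow_quotient_center [Finite G] {p : ℕ} [Fact p.Prime] :
    Nat.card (Sylow p (G ⧸ Subgroup.center G)) = Nat.card (Sylow p G) := by
  obtain ⟨P⟩ := (inferInstance : Nonempty (Sylow p G))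
  rw [card_sylow_quotient (Subgroup.center G) P, Sylow.card_eq_index_normalizer P]
  congr 1
  apply le_antisymm
  · intro g hg
    rw [← Sylow.smul_eq_iff_mem_normalizer]
    apply sylow_eq_of_le_of_le_normalizer P (g • P) ((P : Subgroup G) ⊔ Subgroup.center G)
      le_sup_left
    · intro y hy
      rw [Sylow.coe_subgroup_smul, Subgroup.mem_pointwise_smul_iff_inv_smul_mem] at hy
      simp only [MulAut.smul_def, ← map_inv, MulAut.conj_apply, inv_inv] at hy
      have h1 : g⁻¹ * y * g ∈ (P : Subgroup G) ⊔ Subgroup.center G :=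
        (le_sup_left : (P : Subgroup G) ≤ _) hy
      have h2 := (Subgroup.mem_normalizer_iff.mp hg (g⁻¹ * y * g)).mp h1
      have h3 : g * (g⁻¹ * y * g) * g⁻¹ = y := by group
      rwa [h3] at h2
    · apply sup_le
      · exact Subgroup.le_normalizer
      · exact (Subgroup.center_le_normalizer _)
  · have h := Subgroup.normalizer_inf_normalizer_le_normalizer_sup (P : Subgroup G)
      (Subgroup.center G)
    refine le_trans ?_ h
    rw [Subgroup.normalizer_eq_top (H := Subgroup.center G), inf_top_eq, P.coe_coe]

end Cfsg.Agent.Lib.Helper72
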