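import Mathlib
import Cfsg.Agent.Lib.Helper72.SylowCount

set_option autoImplicit false

namespace Cfsg.Agent.Lib.Helper72

open scoped Pointwise

variable {G : Type*} [Group G]

/-- `|H ⊔ K : H| * |H ⊓ K| = |K|` for `K` normal. -/
theorem relIndex_sup_mul_card_inf [Finite G] (H K : Subgroup G) [K.Normal] :
    H.relIndex (H ⊔ K) * Nat.card ↥(H ⊓ K) = Nat.card K := by
  have h1 : Nat.card H * H.relIndex (H ⊔ K) = Nat.card ↥(H ⊔ K) := by
    have := Subgroup.relIndex_mul_relIndex ⊥ H (H ⊔ K) bot_le le_sup_left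
    rwa [Subgroup.relIndex_bot_left, Subgroup.relIndex_bot_left] at this
  have h2 : Nat.card K * K.relIndex H = Nat.card ↥(H ⊔ K) := by
    have := Subgroup.relIndex_mul_relIndex ⊥ K (H ⊔ K) bot_le le_sup_right
    rwa [Subgroup.relIndex_bot_left, Subgroup.relIndex_bot_left, Subgroup.relIndex_sup_right] at this
  have h3 : Nat.card ↥(H ⊓ K) * K.relIndex H = Nat.card H := by
    have := Subgroup.relIndex_mul_relIndex ⊥ (H ⊓ K) H bot_le inf_le_left
    rwa [Subgroup.relIndex_bot_left, Subgroup.relIndex_bot_left, Subgroup.inf_relIndex_left] at this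
  have hr : 0 < K.relIndex H := by
    have : K.IsFiniteRelIndex H := Subgroup.isFiniteRelIndex_of_finiteIndex
    exact Nat.pos_of_ne_zero Subgroup.relIndex_ne_zero
  have : (H.relIndex (H ⊔ K) * Nat.card ↥(H ⊓ K)) * K.relIndex H = Nat.card K * K.relIndex H := by
    rw [h2, ← h1, ← h3]; ring
  exact Nat.eq_of_mul_eq_mul_right hr this

/-- Frattini: the normalizer of `P ⊔ K` is `N(P) ⊔ K`. -/
theorem normalizer_sylow_sup_eq [Finite G] {p : ℕ} [Fact p.Prime] (K : Subgroup G) [K.Normal]
    (P : Sylow p G) :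
    Subgroup.normalizer (((P : Subgroup G) ⊔ K : Subgroup G) : Set G) =
      Subgroup.normalizer (P : Set G) ⊔ K := by
  apply le_antisymm
  · intro g hg
    have hle : ((g • P : Sylow p G) : Subgroup G) ≤ (P : Subgroup G) ⊔ K := by
      intro y hy
      rw [Sylow.coe_subgroup_smul, Subgroup.mem_pointwise_smul_iff_inv_smul_mem] at hy
      simp only [MulAut.smul_def, ← map_inv, MulAut.conj_apply, inv_inv] at hy
      have h1 : g⁻¹ * y * g ∈ (P : Subgroup G) ⊔ K :=
        (le_sup_left : (P : Subgroup G) ≤ _) hy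
      have h2 := (Subgroup.mem_normalizer_iff.mp hg (g⁻¹ * y * g)).mp h1
      have h3 : g * (g⁻¹ * y * g) * g⁻¹ = y := by group
      rwa [h3] at h2
    obtain ⟨a, ha⟩ := MulAction.exists_smul_eq (↥((P : Subgroup G) ⊔ K))
      (P.subtype (le_sup_left : (P : Subgroup G) ≤ (P : Subgroup G) ⊔ K))
      ((g • P : Sylow p G).subtype hle)
    rw [Sylow.smul_subtype] at ha
    have ha' : (a : G) • P = g • P := Sylow.subtype_injective ha
    have hmem : (a : G)⁻¹ * g ∈ Subgroup.normalizer (P : Set G) := by
      rw [← Sylow.smul_eq_iff_mem_normalizer, mul_smul, ← ha', smul_smul, inv_mul_cancel, one_smul]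
    have hg' : g = (a : G) * ((a : G)⁻¹ * g) := by group
    rw [hg']
    apply Subgroup.mul_mem
    · have : (P : Subgroup G) ⊔ K ≤ Subgroup.normalizer (P : Set G) ⊔ K :=
        sup_le_sup_right (by rw [← P.coe_coe]; exact Subgroup.le_normalizer) K
      exact this a.2
    · exact (le_sup_left : Subgroup.normalizer (P : Set G) ≤ _) hmem
  · apply sup_le
    · have h := Subgroup.normalizer_inf_normalizer_le_normalizer_sup (P : Subgroup G) K
      refine le_trans ?_ h
      rw [Subgroup.normalizer_eq_top (H := K), inf_top_eq, P.coe_coe]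
    · exact le_trans le_sup_right Subgroup.le_normalizer

/-- Passing to a quotient by a normal subgroup `K` divides the number of Sylow `p`-subgroups by a
divisor of `|K|` which is congruent to `1` modulo `p`. -/
theorem card_sylow_eq_card_sylow_quotient_mul [Finite G] {p : ℕ} [Fact p.Prime] (K : Subgroup G)
    [K.Normal] :
    ∃ m : ℕ, Nat.card (Sylow p G) = Nat.card (Sylow p (G ⧸ K)) * m ∧ m ∣ Nat.card K ∧
      m ≡ 1 [MOD p] := by
  obtain ⟨P⟩ := (inferInstance : Nonempty (Sylow p G))
  have hL := normalizer_sylow_sup_eq K P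
  have hNL : Subgroup.normalizer (P : Set G) ≤
      Subgroup.normalizer (((P : Subgroup G) ⊔ K : Subgroup G) : Set G) := by
    rw [hL]; exact le_sup_left
  have hPL : (P : Subgroup G) ≤
      Subgroup.normalizer (((P : Subgroup G) ⊔ K : Subgroup G) : Set G) :=
    le_trans le_sup_left Subgroup.le_normalizer
  refine ⟨(Subgroup.normalizer (P : Set G)).relIndex
    (Subgroup.normalizer (((P : Subgroup G) ⊔ K : Subgroup G) : Set G)), ?_, ?_, ?_⟩
  · rw [Sylow.card_eq_index_normalizer P, card_sylow_quotient K P, mul_comm,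
      Subgroup.relIndex_mul_index hNL]
  · rw [hL]
    exact Dvd.intro _ (relIndex_sup_mul_card_inf (Subgroup.normalizer (P : Set G)) K)
  · have h1 := Sylow.card_eq_index_normalizer (P.subtype hPL)
    have h2 : Subgroup.normalizer ((P.subtype hPL : Sylow p _) : Set _) =
        (Subgroup.normalizer (P : Set G)).subgroupOf
          (Subgroup.normalizer (((P : Subgroup G) ⊔ K : Subgroup G) : Set G)) := by
      rw [← P.coe_coe, Subgroup.subgroupOf_normalizer_eq hPL, ← Sylow.coe_subtype, Sylow.coe_coe]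
    rw [h2] at h1
    have h3 := card_sylow_modEq_one p
      (↥(Subgroup.normalizer (((P : Subgroup G) ⊔ K : Subgroup G) : Set G)))
    rw [h1] at h3
    exact h3

end Cfsg.Agent.Lib.Helper72
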