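import Mathlib
import Cfsg.Agent.Lib.Helper72.SylowStep

set_option autoImplicit false

namespace Cfsg.Agent.Lib.Helper72

open scoped Pointwise

variable {G : Type*} [Group G]

/-- `|K : H ⊓ K| * |H ⊓ K| = |K|`. -/
theorem relIndex_mul_card_inf [Finite G] (H K : Subgroup G) :
    H.relIndex K * Nat.card ↥(H ⊓ K) = Nat.card K := by
  have := Subgroup.relIndex_mul_relIndex ⊥ (H ⊓ K) K bot_le inf_le_right
  rw [Subgroup.relIndex_bot_left, Subgroup.relIndex_bot_left, Subgroup.inf_relIndex_right] at this
  rw [mul_comm]; exact this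

/-- For `K` normal, `|H ⊔ K : H| = |K : H ⊓ K|`. -/
theorem relIndex_sup_eq_relIndex [Finite G] (H K : Subgroup G) [K.Normal] :
    H.relIndex (H ⊔ K) = H.relIndex K := by
  have h1 := relIndex_sup_mul_card_inf H K
  have h2 := relIndex_mul_card_inf H K
  have hpos : 0 < Nat.card ↥(H ⊓ K) := Nat.card_pos
  exact Nat.eq_of_mul_eq_mul_right hpos (h1.trans h2.symm)

/-- The number of Sylow subgroups in terms of an explicit Sylow subgroup and a normal subgroup. -/
theorem card_sylow_eq_card_sylow_quotient_mul_relIndex [Finite G] {p : ℕ} [Fact p.Prime]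
    (K : Subgroup G) [K.Normal] (P : Sylow p G) :
    Nat.card (Sylow p G) =
      Nat.card (Sylow p (G ⧸ K)) * (Subgroup.normalizer (P : Set G)).relIndex K := by
  have hL := normalizer_sylow_sup_eq K P
  have hNL : Subgroup.normalizer (P : Set G) ≤
      Subgroup.normalizer (((P : Subgroup G) ⊔ K : Subgroup G) : Set G) := by
    rw [hL]; exact le_sup_left
  rw [Sylow.card_eq_index_normalizer P, card_sylow_quotient K P, mul_comm,
    ← relIndex_sup_eq_relIndex, ← hL, Subgroup.relIndex_mul_index hNL]

/-- The intersection of a Sylow subgroup with a normal subgroup, as a Sylow subgroup of the latter. -/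
noncomputable def sylowInfNormal [Finite G] {p : ℕ} [Fact p.Prime] (K : Subgroup G) [K.Normal]
    (P : Sylow p G) : Sylow p K :=
  IsPGroup.toSylow (P := ((P : Subgroup G) ⊓ K).subgroupOf K)
    ((P.isPGroup'.to_le inf_le_left).comap_subtype) (by
      have h1 : (((P : Subgroup G) ⊓ K).subgroupOf K).index = (P : Subgroup G).relIndex K := by
        rw [← Subgroup.inf_relIndex_right]; rfl
      rw [h1, ← relIndex_sup_eq_relIndex]
      intro h
      exact P.not_dvd_index (h.trans (Subgroup.relIndex_dvd_index_of_le le_sup_left)))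

theorem coe_sylowInfNormal [Finite G] {p : ℕ} [Fact p.Prime] (K : Subgroup G) [K.Normal]
    (P : Sylow p G) :
    ((sylowInfNormal K P : Sylow p K) : Subgroup K) = ((P : Subgroup G) ⊓ K).subgroupOf K := rfl

/-- The number of Sylow subgroups of a normal subgroup `K` is `|K : N_K(P ⊓ K)|`. -/
theorem card_sylow_normal_eq_relIndex [Finite G] {p : ℕ} [Fact p.Prime] (K : Subgroup G) [K.Normal]
    (P : Sylow p G) :
    Nat.card (Sylow p K) =
      (Subgroup.normalizer ((((P : Subgroup G) ⊓ K : Subgroup G)) : Set G)).relIndex K := by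
  rw [Sylow.card_eq_index_normalizer (sylowInfNormal K P), ← Sylow.coe_coe, coe_sylowInfNormal,
    ← Subgroup.subgroupOf_normalizer_eq inf_le_right]
  rfl

end Cfsg.Agent.Lib.Helper72
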