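import Cfsg.Agent.Lib.Helper6.Uni.Defs
import Cfsg.Agent.Lib.Helper18.StbGlue

/-! # S2314 hive, leaf UNI-C2: the longest word of `W_J` maps the positive roots of `Φ_J` to negative roots -/

set_option autoImplicit false

namespace Cfsg.Agent.Lib.Helper6.Uni

open Cfsg Cfsg.Lie Cfsg.Agent.Lib.Helper36 Cfsg.Agent.Lib.Helper18.Stb Cfsg.Agent.Lib.Helper6

section
variable (D : ChevalleyDatum) (hD : D ∈ [chevG2, chevB2, chevD4, chevF4, chevE6, chevE7, chevE8])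

/-- `J`-supported version of `wordFun_nonpos` -/
theorem c2_wordFun_nonpos (J : Set ℕ) (l : List ℕ) (hl : ∀ i ∈ l, i < D.rank)
    (hu : ∀ j ∈ J, j < D.rank → ∀ k < D.rank, wordFun D l (unitFun j) k ≤ 0) (f : ℕ → ℤ)
    (hf : ∀ j < D.rank, 0 ≤ f j) (hz : ∀ j < D.rank, j ∉ J → f j = 0) :
    ∀ k < D.rank, wordFun D l f k ≤ 0 := by
  classical
  intro k hk
  rw [wordFun_eqBelow D l hl f _ (eqBelow_sum_unit D.rank f) k hk, wordFun_sum, Finset.sum_apply]
  apply Finset.sum_nonpos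
  intro j hj
  have hj' := Finset.mem_range.1 hj
  simp only [Pi.smul_apply, smul_eq_mul]
  by_cases hjJ : j ∈ J
  · exact mul_nonpos_of_nonneg_of_nonpos (hf j hj') (hu j hjJ hj' k hk)
  · rw [hz j hj' hjJ, zero_mul]

include hD in
/-- UNI-C2. -/
theorem wRoot_wJ_neg (J : Set ℕ) (l : List ℕ) (hl : ∀ i ∈ l, i < D.rank)
    (hu : ∀ j ∈ J, j < D.rank → ∀ k < D.rank, wordFun D l (unitFun j) k ≤ 0)
    (r : ℕ) (hr : D.IsPosRoot r) (hrJ : D.InRootSub J r) : D.IsNegRoot (wRoot D l r) := by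
  have hf := wfFast_all D hD
  have hlt := wRoot_lt D hD l hl r hr.1
  rw [isNegRoot_iff D hf _ hlt]
  intro j hj
  have := cor_wRoot D hD l hl r hr.1 j hj
  simp only at this
  rw [this]
  exact c2_wordFun_nonpos D J l hl hu _ ((isPosRoot_iff D hf r hr.1).1 hr)
    (fun i hi hiJ => hrJ.2 i hi hiJ) j hj

end

end Cfsg.Agent.Lib.Helper6.Uni
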