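import Cfsg.Agent.Lib.Helper6.Uni.Defs
import Cfsg.Agent.Lib.Helper18.StbGlue
import Cfsg.Agent.S1048
import Cfsg.Agent.Lib.Helper21.SupNormalizer

/-! # S2314 hive, leaf UNI-C3: the cell of `n_J` is large -/

set_option autoImplicit false

namespace Cfsg.Agent.Lib.Helper6.Uni

open Cfsg Cfsg.Lie Cfsg.Agent.Lib.Helper36 Cfsg.Agent.Lib.Helper18.Stb Cfsg.Agent.Lib.Helper6

section
variable (D : ChevalleyDatum) (hD : D ∈ [chevG2, chevB2, chevD4, chevF4, chevE6, chevE7, chevE8])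

/-- the subgroup `U^J` generated by the root subgroups of the positive roots of `Φ_J` -/
def c3_UL (F : Type*) [Field F] (J : Set ℕ) : Subgroup (GL D.Idx F) :=
  Subgroup.closure {g | ∃ (r : ℕ) (t : F), D.IsPosRoot r ∧ D.InRootSub J r ∧
    (g : Matrix D.Idx D.Idx F) = D.x F r t}

theorem c3_UL_le_pos (F : Type*) [Field F] (J : Set ℕ) : c3_UL D F J ≤ D.posUnipotent F := by
  unfold c3_UL ChevalleyDatum.posUnipotent
  apply Subgroup.closure_mono
  rintro g ⟨r, t, hr, -, hg⟩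
  exact ⟨r, t, hr, hg⟩

theorem c3_radical_le_pos (F : Type*) [Field F] (J : Set ℕ) :
    D.unipotentRadical F J ≤ D.posUnipotent F := by
  unfold ChevalleyDatum.unipotentRadical ChevalleyDatum.posUnipotent
  apply Subgroup.closure_mono
  rintro g ⟨r, t, hr, -, hg⟩
  exact ⟨r, t, hr, hg⟩

/-- `U = U_J U^J` -/
theorem c3_pos_le_sup (F : Type*) [Field F] (J : Set ℕ) :
    D.posUnipotent F ≤ D.unipotentRadical F J ⊔ c3_UL D F J := by
  classical
  unfold ChevalleyDatum.posUnipotent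
  rw [Subgroup.closure_le]
  rintro g ⟨r, t, hr, hg⟩
  by_cases hrJ : D.InRootSub J r
  · exact (le_sup_right : c3_UL D F J ≤ _) (Subgroup.subset_closure ⟨r, t, hr, hrJ, hg⟩)
  · exact (le_sup_left : D.unipotentRadical F J ≤ _) (Subgroup.subset_closure ⟨r, t, hr, hrJ, hg⟩)

include hD in
/-- `|U| ≤ |U_J| |U^J|` -/
theorem c3_card_pos_le (F : Type*) [Field F] [Finite F] (J : Set ℕ) :
    Nat.card (D.posUnipotent F) ≤ Nat.card (D.unipotentRadical F J) * Nat.card (c3_UL D F J) := by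
  classical
  have : Fintype F := Fintype.ofFinite F
  have hn : c3_UL D F J ≤ Subgroup.normalizer (D.unipotentRadical F J : Set (GL D.Idx F)) := by
    refine (c3_UL_le_pos D F J).trans (le_trans ?_ (Cfsg.Agent.S1048.result D hD J).1)
    unfold ChevalleyDatum.parabolicSubgroup
    exact (pos_le_borel D F).trans le_sup_left
  have h1 := Cfsg.Agent.Lib.Helper21.card_sup_dvd (X := D.unipotentRadical F J) hn
  have h2 : Nat.card (D.posUnipotent F) ≤
      Nat.card ↥(D.unipotentRadical F J ⊔ c3_UL D F J) :=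
    Subgroup.card_le_of_le (c3_pos_le_sup D F J)
  exact h2.trans (Nat.le_of_dvd (Nat.mul_pos Nat.card_pos Nat.card_pos) h1)

include hD in
/-- `n U^J n⁻¹ ≤ V` -/
theorem c3_conj_UL_mem_neg (F : Type*) [Field F] (J : Set ℕ) (l : List ℕ)
    (hl : ∀ i ∈ l, i < D.rank)
    (hneg : ∀ r, D.IsPosRoot r → D.InRootSub J r → D.IsNegRoot (wRoot D l r))
    (u : GL D.Idx F) (hu : u ∈ c3_UL D F J) :
    nWordGL D hD F l * u * (nWordGL D hD F l)⁻¹ ∈ D.negUnipotent F := by
  have hle : (c3_UL D F J).map (MulAut.conj (nWordGL D hD F l)).toMonoidHom ≤ D.negUnipotent F := by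
    unfold c3_UL
    rw [MonoidHom.map_closure, Subgroup.closure_le]
    rintro g ⟨x, ⟨r, t, hr, hrJ, hx⟩, rfl⟩
    have ex : x = xGL D hD F r t := Units.ext (by rw [hx, xGL_coe])
    obtain ⟨ε, -, hc⟩ := nWordGL_conj D hD F l hl r hr.1
    have : (MulAut.conj (nWordGL D hD F l)).toMonoidHom x =
        xGL D hD F (wRoot D l r) (ε * t) := by
      rw [ex, ← hc t]
      rfl
    rw [this]
    unfold ChevalleyDatum.negUnipotent
    exact Subgroup.subset_closure ⟨wRoot D l r, ε * t, hneg r hr hrJ, xGL_coe D hD F _ _⟩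
  exact hle ⟨u, hu, rfl⟩

include hD in
/-- UNI-C3. The cell of `n_J` is large. -/
theorem card_cell_ge (F : Type*) [Field F] [Finite F] (J : Set ℕ) (l : List ℕ) (hl : ∀ i ∈ l, i < D.rank)
    (hneg : ∀ r, D.IsPosRoot r → D.InRootSub J r → D.IsNegRoot (wRoot D l r)) :
    Nat.card (D.borelSubgroup F) * Nat.card (D.posUnipotent F) ≤
      Nat.card (D.unipotentRadical F J) * Nat.card (cell D F (nWordGL D hD F l)) := by
  classical
  have : Fintype F := Fintype.ofFinite F
  set n0 := nWordGL D hD F l with hn0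
  -- the injection `B × U^J → B n B`
  let f : ↥(D.borelSubgroup F) × ↥(c3_UL D F J) → cell D F n0 := fun p =>
    ⟨(p.1 : GL D.Idx F) * n0 * (p.2 : GL D.Idx F), (p.1 : GL D.Idx F), p.1.2, (p.2 : GL D.Idx F),
      pos_le_borel D F (c3_UL_le_pos D F J p.2.2), rfl⟩
  have hinj : Function.Injective f := by
    rintro ⟨⟨b, hb⟩, ⟨u, hu⟩⟩ ⟨⟨b', hb'⟩, ⟨u', hu'⟩⟩ h
    have e : b * n0 * u = b' * n0 * u' := congrArg Subtype.val h
    have e1 : b'⁻¹ * b = n0 * (u' * u⁻¹) * n0⁻¹ := by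
      have : b = b' * n0 * u' * u⁻¹ * n0⁻¹ := by
        rw [← e]; group
      rw [this]; group
    have hV : n0 * (u' * u⁻¹) * n0⁻¹ ∈ D.negUnipotent F :=
      c3_conj_UL_mem_neg D hD F J l hl hneg _ (mul_mem hu' (inv_mem hu))
    have hB : n0 * (u' * u⁻¹) * n0⁻¹ ∈ D.borelSubgroup F := by
      rw [← e1]; exact mul_mem (inv_mem hb') hb
    have h1 : n0 * (u' * u⁻¹) * n0⁻¹ ∈ D.borelSubgroup F ⊓ D.negUnipotent F := ⟨hB, hV⟩
    rw [borel_inf_neg D hD F, Subgroup.mem_bot] at h1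
    have hb1 : b'⁻¹ * b = 1 := by rw [e1, h1]
    have hu1 : u' * u⁻¹ = 1 := by
      have : u' * u⁻¹ = n0⁻¹ * (n0 * (u' * u⁻¹) * n0⁻¹) * n0 := by group
      rw [this, h1]; group
    have ebb : b = b' := (inv_mul_eq_one.1 hb1).symm
    have euu : u = u' := (mul_inv_eq_one.1 hu1).symm
    subst ebb euu
    rfl
  have h3 : Nat.card (D.borelSubgroup F) * Nat.card (c3_UL D F J) ≤ Nat.card (cell D F n0) := by
    rw [← Nat.card_prod]
    exact Nat.card_le_card_of_injective f hinj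
  have h4 := c3_card_pos_le D hD F J
  calc Nat.card (D.borelSubgroup F) * Nat.card (D.posUnipotent F)
      ≤ Nat.card (D.borelSubgroup F) *
        (Nat.card (D.unipotentRadical F J) * Nat.card (c3_UL D F J)) := Nat.mul_le_mul_left _ h4
    _ = Nat.card (D.unipotentRadical F J) *
        (Nat.card (D.borelSubgroup F) * Nat.card (c3_UL D F J)) := by ring
    _ ≤ Nat.card (D.unipotentRadical F J) * Nat.card (cell D F n0) := Nat.mul_le_mul_left _ h3

end

end Cfsg.Agent.Lib.Helper6.Uni
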