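import Mathlib
import Cfsg.Agent.Lib.Helper37.FusDefs

/-!
# FUS-C sub-hive, leaf FUSC-B0: a minimal nonzero invariant nondegenerate subspace without fixed vectors
-/

set_option autoImplicit false

namespace Cfsg.Agent.Lib.Helper37.Fus

open Polynomial

universe u v

variable {F : Type u} [Field F]

section partB

variable {V : Type v} [AddCommGroup V] [Module F V]

/-- `range (a - 1)` contains no nonzero fixed vector -/
theorem fusCB0_fpf (a : V →ₗ[F] V) (n : ℕ) (hnF : (n : F) ≠ 0) (han : a ^ n = 1)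
    (w : V) (hw : w ∈ LinearMap.range (a - 1)) (hfix : a w = w) : w = 0 := by
  obtain ⟨x, rfl⟩ := hw
  have h1 : (∑ i ∈ Finset.range n, a ^ i) * (a - 1) = 0 := by
    rw [geom_sum_mul, han, sub_self]
  have h2 : (∑ i ∈ Finset.range n, a ^ i) ((a - 1) x) = 0 := by
    have := LinearMap.congr_fun h1 x
    simpa using this
  have h3 : ∀ i : ℕ, (a ^ i) ((a - 1) x) = (a - 1) x := by
    intro i
    rw [Module.End.pow_apply]
    exact Function.iterate_fixed hfix i
  rw [LinearMap.sum_apply, Finset.sum_congr (Eq.refl _) (fun i _ => h3 i), Finset.sum_const,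
    Finset.card_range, ← Nat.cast_smul_eq_nsmul F] at h2
  exact (smul_eq_zero.mp h2).resolve_left hnF

/-- `range (a - 1)` is nondegenerate -/
theorem fusCB0_nondeg (B : LinearMap.BilinForm F V)
    (hnd : ∀ u, (∀ v, B u v = 0) → u = 0)
    (a : V →ₗ[F] V) (ha : ∀ u v, B (a u) (a v) = B u v) (n : ℕ)
    (hnF : (n : F) ≠ 0) (han : a ^ n = 1)
    (u : V) (hu : u ∈ LinearMap.range (a - 1))
    (h : ∀ v ∈ LinearMap.range (a - 1), B u v = 0) : u = 0 := by
  have hn0 : n ≠ 0 := by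
    rintro rfl
    exact hnF (by simp)
  obtain ⟨m, rfl⟩ := Nat.exists_eq_succ_of_ne_zero hn0
  -- `B u (a x) = B u x`
  have h1 : ∀ x, B u (a x) = B u x := by
    intro x
    have := h ((a - 1) x) ⟨x, Eq.refl _⟩
    rw [LinearMap.sub_apply, Module.End.one_apply, map_sub, sub_eq_zero] at this
    exact this
  have han' : ∀ y, a ((a ^ m) y) = y := by
    intro y
    have := LinearMap.congr_fun han y
    rw [pow_succ', Module.End.mul_apply, Module.End.one_apply] at this
    exact this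
  -- `a^m u = u`
  have h2 : (a ^ m) u = u := by
    have : (a ^ m) u - u = 0 := by
      apply hnd
      intro x
      rw [map_sub, LinearMap.sub_apply, sub_eq_zero]
      calc B ((a ^ m) u) x = B (a ((a ^ m) u)) (a x) := (ha _ _).symm
        _ = B u (a x) := by rw [han' u]
        _ = B u x := h1 x
    exact sub_eq_zero.mp this
  have h3 : a u = u := by
    have := han' u
    rw [h2] at this
    exact this
  exact fusCB0_fpf a (m + 1) hnF han u hu h3

/-- FUSC-B0 : a minimal nonzero invariant nondegenerate subspace without fixed vectors. -/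
theorem fusC_exists_block [FiniteDimensional F V] (B : LinearMap.BilinForm F V)
    (hs : ∀ u v, B u v = B v u) (hnd : ∀ u, (∀ v, B u v = 0) → u = 0)
    (a : V →ₗ[F] V) (ha : ∀ u v, B (a u) (a v) = B u v) (n : ℕ)
    (hnF : (n : F) ≠ 0) (han : a ^ n = 1) (ha1 : a ≠ 1) :
    ∃ W : Submodule F V, W ≠ ⊥ ∧ (∀ w ∈ W, a w ∈ W) ∧
      (∀ u ∈ W, (∀ v ∈ W, B u v = 0) → u = 0) ∧ (∀ w ∈ W, a w = w → w = 0) ∧
      ∀ U : Submodule F V, U ≤ W → U ≠ ⊥ → (∀ u ∈ U, a u ∈ U) →
        (∀ u ∈ U, (∀ v ∈ U, B u v = 0) → u = 0) → U = W := by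
  classical
  set V' : Submodule F V := LinearMap.range (a - 1) with hV'
  -- the candidates
  let Q : Submodule F V → Prop := fun W =>
    W ≠ ⊥ ∧ W ≤ V' ∧ (∀ w ∈ W, a w ∈ W) ∧ (∀ u ∈ W, (∀ v ∈ W, B u v = 0) → u = 0)
  have hQV' : Q V' := by
    refine ⟨?_, le_rfl, ?_, ?_⟩
    · intro h0
      apply ha1
      have : a - 1 = 0 := LinearMap.range_eq_bot.mp h0
      exact sub_eq_zero.mp this
    · rintro w ⟨x, rfl⟩
      refine ⟨a x, ?_⟩
      simp [LinearMap.sub_apply, map_sub]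
    · intro u hu h
      exact fusCB0_nondeg B hnd a ha n hnF han u hu h
  have hne : {k : ℕ | ∃ W : Submodule F V, Q W ∧ Module.finrank F W = k}.Nonempty :=
    ⟨_, V', hQV', Eq.refl _⟩
  obtain ⟨k, ⟨W, hQW, rfl⟩, hmin⟩ := WellFounded.has_min wellFounded_lt _ hne
  refine ⟨W, hQW.1, hQW.2.2.1, hQW.2.2.2, ?_, ?_⟩
  · intro w hw hfix
    exact fusCB0_fpf a n hnF han w (hQW.2.1 hw) hfix
  · intro U hUW hU0 hUa hUnd
    have hQU : Q U := ⟨hU0, hUW.trans hQW.2.1, hUa, hUnd⟩
    have h1 : ¬ Module.finrank F U < Module.finrank F W := hmin _ ⟨U, hQU, Eq.refl _⟩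
    exact Submodule.eq_of_le_of_finrank_le hUW (not_lt.mp h1)

end partB

end Cfsg.Agent.Lib.Helper37.Fus
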