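import Mathlib
import Cfsg.Agent.Lib.Helper37.FusDefs

/-!
# FUS-C sub-hive, leaf FUSC-B1: a minimal block is cyclic, generated by an anisotropic vector
(plus the shared Maschke-complement lemmas `fusCB1_*`, reused by FUSC-B2)
-/

set_option autoImplicit false

namespace Cfsg.Agent.Lib.Helper37.Fus

open Polynomial

universe u v

variable {F : Type u} [Field F]

section partB

variable {V : Type v} [AddCommGroup V] [Module F V]

/-- an endomorphism of order prime to the characteristic is semisimple -/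
theorem fusCB1_semisimple (a : V →ₗ[F] V) (n : ℕ) (hnF : (n : F) ≠ 0) (han : a ^ n = 1) :
    Module.End.IsSemisimple a := by
  apply Module.End.isSemisimple_of_squarefree_aeval_eq_zero (p := (X ^ n - 1 : F[X]))
  · exact (X_pow_sub_one_separable_iff.mpr hnF).squarefree
  · simp [han]

/-- relative invariant complement -/
theorem fusCB1_compl (a : V →ₗ[F] V) (hss : Module.End.IsSemisimple a) (Z K : Submodule F V) (hKZ : K ≤ Z)
    (hZa : ∀ z ∈ Z, a z ∈ Z) (hKa : ∀ z ∈ K, a z ∈ K) :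
    ∃ C : Submodule F V, C ≤ Z ∧ (∀ z ∈ C, a z ∈ C) ∧ K ⊓ C = ⊥ ∧ K ⊔ C = Z := by
  obtain ⟨q, hq, hc⟩ := (Module.End.isSemisimple_iff.mp hss) K
    ((Module.End.mem_invtSubmodule_iff_forall_mem_of_mem a).mpr hKa)
  have hq' : ∀ x ∈ q, a x ∈ q := (Module.End.mem_invtSubmodule_iff_forall_mem_of_mem a).mp hq
  refine ⟨q ⊓ Z, inf_le_right, ?_, ?_, ?_⟩
  · intro z hz
    exact ⟨hq' z hz.1, hZa z hz.2⟩
  · rw [← inf_assoc, hc.inf_eq_bot, bot_inf_eq]
  · rw [← sup_inf_assoc_of_le q hKZ, hc.sup_eq_top, top_inf_eq]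

/-- powers preserve invariant subspaces -/
theorem fusCB1_pow_mem (a : V →ₗ[F] V) (W : Submodule F V) (hWa : ∀ w ∈ W, a w ∈ W) (k : ℕ)
    (w : V) (hw : w ∈ W) : (a ^ k) w ∈ W := by
  induction k with
  | zero => simpa using hw
  | succ k ih =>
    rw [pow_succ', Module.End.mul_apply]
    exact hWa _ ih

/-- polynomials preserve invariant subspaces -/
theorem fusCB1_aeval_mem (a : V →ₗ[F] V) (W : Submodule F V) (hWa : ∀ w ∈ W, a w ∈ W) (f : F[X])
    (w : V) (hw : w ∈ W) : aeval a f w ∈ W := by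
  rw [aeval_eq_sum_range, LinearMap.sum_apply]
  refine W.sum_mem fun i _ => ?_
  rw [LinearMap.smul_apply]
  exact W.smul_mem _ (fusCB1_pow_mem a W hWa i w hw)

/-- `a` commutes with `f(a)` -/
theorem fusCB1_comm (a : V →ₗ[F] V) (f : F[X]) (w : V) : aeval a f (a w) = a (aeval a f w) := by
  have h1 : aeval a (f * X) = aeval a (X * f) := by rw [mul_comm]
  rw [map_mul, map_mul, aeval_X] at h1
  have := LinearMap.congr_fun h1 w
  simpa [Module.End.mul_apply] using this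

/-- the cyclic submodule `F[a] w₁` -/
def fusCB1_cyc (a : V →ₗ[F] V) (w₁ : V) : Submodule F V where
  carrier := {w | ∃ f : F[X], w = aeval a f w₁}
  add_mem' := by
    rintro _ _ ⟨f, rfl⟩ ⟨g, rfl⟩
    exact ⟨f + g, by rw [map_add, LinearMap.add_apply]⟩
  zero_mem' := ⟨0, by simp⟩
  smul_mem' := by
    rintro c _ ⟨f, rfl⟩
    exact ⟨c • f, by rw [map_smul, LinearMap.smul_apply]⟩

theorem fusCB1_mem_cyc (a : V →ₗ[F] V) (w₁ w : V) :
    w ∈ fusCB1_cyc a w₁ ↔ ∃ f : F[X], w = aeval a f w₁ := Iff.rfl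

/-- the radical of a subspace -/
def fusCB1_rad (B : LinearMap.BilinForm F V) (Z : Submodule F V) : Submodule F V where
  carrier := {z | z ∈ Z ∧ ∀ v ∈ Z, B z v = 0}
  add_mem' := by
    rintro x y ⟨hx, hx'⟩ ⟨hy, hy'⟩
    exact ⟨Z.add_mem hx hy, fun v hv => by
      rw [map_add, LinearMap.add_apply, hx' v hv, hy' v hv, add_zero]⟩
  zero_mem' := ⟨Z.zero_mem, fun v _ => by simp⟩
  smul_mem' := by
    rintro c x ⟨hx, hx'⟩
    exact ⟨Z.smul_mem c hx, fun v hv => by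
      rw [map_smul, LinearMap.smul_apply, hx' v hv, smul_zero]⟩

theorem fusCB1_mem_rad (B : LinearMap.BilinForm F V) (Z : Submodule F V) (z : V) :
    z ∈ fusCB1_rad B Z ↔ z ∈ Z ∧ ∀ v ∈ Z, B z v = 0 := Iff.rfl

/-- FUSC-B1 : a minimal block is cyclic, generated by an anisotropic vector
(Maschke: `Module.End.isSemisimple_of_squarefree_aeval_eq_zero`, `Module.End.isSemisimple_iff`). -/
theorem fusC_cyclic [FiniteDimensional F V] (h2 : (2 : F) ≠ 0) (B : LinearMap.BilinForm F V)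
    (hs : ∀ u v, B u v = B v u)
    (a : V →ₗ[F] V) (ha : ∀ u v, B (a u) (a v) = B u v) (n : ℕ)
    (hnF : (n : F) ≠ 0) (han : a ^ n = 1)
    (W : Submodule F V) (hW0 : W ≠ ⊥) (hWa : ∀ w ∈ W, a w ∈ W)
    (hWnd : ∀ u ∈ W, (∀ v ∈ W, B u v = 0) → u = 0)
    (hmin : ∀ U : Submodule F V, U ≤ W → U ≠ ⊥ → (∀ u ∈ U, a u ∈ U) →
        (∀ u ∈ U, (∀ v ∈ U, B u v = 0) → u = 0) → U = W) :
    ∃ w₁ ∈ W, B w₁ w₁ ≠ 0 ∧ ∀ w ∈ W, ∃ f : F[X], w = aeval a f w₁ := by
  classical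
  have hss := fusCB1_semisimple a n hnF han
  have hn0 : n ≠ 0 := by
    rintro rfl
    exact hnF (by simp)
  obtain ⟨m, rfl⟩ := Nat.exists_eq_succ_of_ne_zero hn0
  have han' : ∀ y, a ((a ^ m) y) = y := by
    intro y
    have := LinearMap.congr_fun han y
    rw [pow_succ', Module.End.mul_apply, Module.End.one_apply] at this
    exact this
  -- an anisotropic vector
  have haniso : ∃ w₁ ∈ W, B w₁ w₁ ≠ 0 := by
    by_contra hcon
    push Not at hcon
    apply hW0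
    rw [eq_bot_iff]
    intro u hu
    rw [Submodule.mem_bot]
    apply hWnd u hu
    intro v hv
    have h1 := hcon (u + v) (W.add_mem hu hv)
    simp only [map_add, LinearMap.add_apply] at h1
    rw [hcon u hu, hcon v hv, hs v u] at h1
    have h3 : (2 : F) * B u v = 0 := by linear_combination h1
    exact (mul_eq_zero.mp h3).resolve_left h2
  obtain ⟨w₁, hw₁, hB⟩ := haniso
  refine ⟨w₁, hw₁, hB, ?_⟩
  set Z := fusCB1_cyc a w₁ with hZ
  have hZW : Z ≤ W := by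
    rintro _ ⟨f, rfl⟩
    exact fusCB1_aeval_mem a W hWa f w₁ hw₁
  have hZa : ∀ z ∈ Z, a z ∈ Z := by
    rintro _ ⟨f, rfl⟩
    refine ⟨X * f, ?_⟩
    rw [map_mul, aeval_X, Module.End.mul_apply]
  have hw₁Z : w₁ ∈ Z := ⟨1, by simp⟩
  set R := fusCB1_rad B Z with hR
  have hRZ : R ≤ Z := fun z hz => hz.1
  have hRa : ∀ z ∈ R, a z ∈ R := by
    rintro z ⟨hz, hz'⟩
    refine ⟨hZa z hz, ?_⟩
    intro v hv
    calc B (a z) v = B (a z) (a ((a ^ m) v)) := by rw [han' v]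
      _ = B z ((a ^ m) v) := ha _ _
      _ = 0 := hz' _ (fusCB1_pow_mem a Z hZa m v hv)
  obtain ⟨C, hCZ, hCa, hRC, hRCZ⟩ := fusCB1_compl a hss Z R hRZ hZa hRa
  have hCnd : ∀ u ∈ C, (∀ v ∈ C, B u v = 0) → u = 0 := by
    intro u hu h
    have huR : u ∈ R := by
      refine ⟨hCZ hu, ?_⟩
      intro z hz
      rw [← hRCZ] at hz
      obtain ⟨r, hr, c, hc, rfl⟩ := Submodule.mem_sup.mp hz
      rw [map_add, h c hc, add_zero, hs]
      exact hr.2 u (hCZ hu)
    have : u ∈ R ⊓ C := ⟨huR, hu⟩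
    rw [hRC] at this
    exact (Submodule.mem_bot F).mp this
  have hC0 : C ≠ ⊥ := by
    intro hC
    rw [hC, sup_bot_eq] at hRCZ
    have : w₁ ∈ R := by rw [hRCZ]; exact hw₁Z
    exact hB (this.2 w₁ hw₁Z)
  have hCW : C = W := hmin C (hCZ.trans hZW) hC0 hCa hCnd
  intro w hw
  have : w ∈ Z := hCZ (hCW ▸ hw)
  exact this

end partB

end Cfsg.Agent.Lib.Helper37.Fus
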