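import Mathlib
import Cfsg.Agent.Lib.Helper37.FusDefs
import Cfsg.Agent.Lib.Helper72.FusCB1

/-!
# FUS-C sub-hive, leaf FUSC-B2: on a minimal block a selfadjoint `f(a)` is zero or injective
-/

set_option autoImplicit false

namespace Cfsg.Agent.Lib.Helper37.Fus

open Polynomial

universe u v

variable {F : Type u} [Field F]

section partB

variable {V : Type v} [AddCommGroup V] [Module F V]

/-- FUSC-B2 : on a minimal block a selfadjoint `f(a)` is zero or injective
(`W = ker s ⊥ range s`, `ker s ⊓ range s = ⊥` by semisimplicity of `s = aeval a f`). -/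
theorem fusC_dichotomy [FiniteDimensional F V] (B : LinearMap.BilinForm F V)
    (hs : ∀ u v, B u v = B v u)
    (a : V →ₗ[F] V) (ha : ∀ u v, B (a u) (a v) = B u v) (n : ℕ)
    (hnF : (n : F) ≠ 0) (han : a ^ n = 1)
    (W : Submodule F V) (hWa : ∀ w ∈ W, a w ∈ W)
    (hWnd : ∀ u ∈ W, (∀ v ∈ W, B u v = 0) → u = 0)
    (hmin : ∀ U : Submodule F V, U ≤ W → U ≠ ⊥ → (∀ u ∈ U, a u ∈ U) →
        (∀ u ∈ U, (∀ v ∈ U, B u v = 0) → u = 0) → U = W)
    (f : F[X]) (hf : ∀ u ∈ W, ∀ v ∈ W, B (aeval a f u) v = B u (aeval a f v)) :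
    (∀ w ∈ W, aeval a f w = 0) ∨ (∀ w ∈ W, aeval a f w = 0 → w = 0) := by
  classical
  have hss := fusCB1_semisimple a n hnF han
  set s : V →ₗ[F] V := aeval a f with hsdef
  set K : Submodule F V := W ⊓ LinearMap.ker s with hK
  have hKW : K ≤ W := inf_le_left
  have hKa : ∀ z ∈ K, a z ∈ K := by
    rintro z ⟨hz, hz'⟩
    refine ⟨hWa z hz, ?_⟩
    rw [SetLike.mem_coe, LinearMap.mem_ker] at hz' ⊢
    rw [hsdef, fusCB1_comm, ← hsdef, hz', map_zero]
  by_cases hK0 : K = ⊥
  · right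
    intro w hw hsw
    have : w ∈ K := ⟨hw, LinearMap.mem_ker.mpr hsw⟩
    rw [hK0] at this
    exact (Submodule.mem_bot F).mp this
  left
  obtain ⟨C, hCW, hCa, hKC, hKCW⟩ := fusCB1_compl a hss W K hKW hWa hKa
  have hCs : ∀ c ∈ C, s c ∈ C := fun c hc => fusCB1_aeval_mem a C hCa f c hc
  have hinj : Function.Injective (s.restrict hCs) := by
    rw [← LinearMap.ker_eq_bot, eq_bot_iff]
    intro c hc
    rw [LinearMap.mem_ker] at hc
    have h1 : s (c : V) = 0 := by
      have := congrArg Subtype.val hc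
      simpa using this
    have h2 : (c : V) ∈ K ⊓ C := ⟨⟨hCW c.2, LinearMap.mem_ker.mpr h1⟩, c.2⟩
    rw [hKC] at h2
    rw [Submodule.mem_bot]
    exact Subtype.ext ((Submodule.mem_bot F).mp h2)
  have hsurj : Function.Surjective (s.restrict hCs) := LinearMap.injective_iff_surjective.mp hinj
  have hKnd : ∀ u ∈ K, (∀ v ∈ K, B u v = 0) → u = 0 := by
    intro u hu h
    apply hWnd u (hKW hu)
    intro w hw
    rw [← hKCW] at hw
    obtain ⟨k, hk, c, hc, rfl⟩ := Submodule.mem_sup.mp hw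
    rw [map_add, h k hk, zero_add]
    obtain ⟨c', hc'⟩ := hsurj ⟨c, hc⟩
    have h1 : s (c' : V) = c := by
      have := congrArg Subtype.val hc'
      simpa using this
    have hsu : s u = 0 := LinearMap.mem_ker.mp hu.2
    rw [← h1, ← hf u (hKW hu) c' (hCW c'.2), hsu]
    simp
  have hKeq : K = W := hmin K hKW hK0 hKa hKnd
  intro w hw
  have : w ∈ K := hKeq ▸ hw
  exact LinearMap.mem_ker.mp this.2

end partB

end Cfsg.Agent.Lib.Helper37.Fus
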