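import Mathlib
import Cfsg.Agent.Lib.Helper70.PermFour

set_option autoImplicit false

namespace Cfsg.Agent.Lib.Helper72

open Equiv

/-- The symmetric group on at most four points is solvable. -/
theorem perm_solvable_of_card_le_four (α : Type*) [Finite α] (h : Nat.card α ≤ 4) :
    Group.IsSolvable (Perm α) := by
  classical
  have : Fintype α := Fintype.ofFinite α
  have hle : Fintype.card α ≤ Fintype.card (Fin 4) := by
    rw [← Nat.card_eq_fintype_card, Fintype.card_fin]; exact h
  obtain ⟨ι⟩ := Function.Embedding.nonempty_of_card_le hle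
  have := Cfsg.Agent.Lib.Helper70.perm4_solvable
  exact Group.isSolvable_of_isSolvable_injective (f := Perm.viaEmbeddingHom ι)
    (Perm.viaEmbeddingHom_injective ι)

/-- The permutations supported on a set of at most four points form a solvable group. -/
theorem range_ofSubtype_solvable {α : Type*} [DecidableEq α] [Fintype α] (T : Finset α)
    (hT : T.card ≤ 4) :
    Group.IsSolvable ↥((Perm.ofSubtype : Perm {x // x ∈ T} →* Perm α).range) := by
  have h1 : Group.IsSolvable (Perm {x // x ∈ T}) := by
    apply perm_solvable_of_card_le_four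
    rw [Nat.card_eq_fintype_card, Fintype.card_coe]
    exact hT
  exact Group.isSolvable_of_surjective
    (f := (Perm.ofSubtype : Perm {x // x ∈ T} →* Perm α).rangeRestrict)
    (MonoidHom.rangeRestrict_surjective _)

/-- Adjoining a commuting element to a solvable subgroup keeps it solvable. -/
theorem solvable_sup_zpowers {G : Type*} [Group G] (H : Subgroup G) (hH : Group.IsSolvable H)
    (c : G) (hc : ∀ h ∈ H, Commute h c) : Group.IsSolvable ↥(H ⊔ Subgroup.zpowers c) := by
  have hcomm : ∀ (m : H) (n : Subgroup.zpowers c),
      Commute (H.subtype m) ((Subgroup.zpowers c).subtype n) := by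
    rintro ⟨m, hm⟩ ⟨n, hn⟩
    obtain ⟨k, rfl⟩ := Subgroup.mem_zpowers_iff.mp hn
    exact (hc m hm).zpow_right k
  have hr := MonoidHom.noncommCoprod_range H.subtype (Subgroup.zpowers c).subtype hcomm
  rw [Subgroup.range_subtype, Subgroup.range_subtype] at hr
  rw [← hr]
  have : Group.IsSolvable (Subgroup.zpowers c) := by
    refine Group.isSolvable_of_comm (fun a b => ?_)
    obtain ⟨a, ha⟩ := a
    obtain ⟨b, hb⟩ := b
    obtain ⟨i, rfl⟩ := Subgroup.mem_zpowers_iff.mp ha
    obtain ⟨j, rfl⟩ := Subgroup.mem_zpowers_iff.mp hb
    apply Subtype.ext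
    exact (Commute.zpow_zpow (Commute.refl c) i j).eq
  exact Group.isSolvable_of_surjective
    (f := (MonoidHom.noncommCoprod H.subtype (Subgroup.zpowers c).subtype hcomm).rangeRestrict)
    (MonoidHom.rangeRestrict_surjective _)

/-- A subgroup of a solvable subgroup is solvable. -/
theorem solvable_of_le {G : Type*} [Group G] {H K : Subgroup G} (h : H ≤ K)
    (hK : Group.IsSolvable K) : Group.IsSolvable H :=
  Group.isSolvable_of_isSolvable_injective (f := Subgroup.inclusion h)
    (Subgroup.inclusion_injective h)

end Cfsg.Agent.Lib.Helper72
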