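import Mathlib
import Cfsg.Prelude.Def_GeometricClasses
import Cfsg.Agent.Lib.Helper44.OcDefs
import Cfsg.Agent.Lib.Helper37.OmegaIndex
import Cfsg.Agent.Lib.Helper37.ParabolicBridge
import Cfsg.Agent.S0756

/-! # Oc hive (helper44), leaf OC-CINV: `cent_invol_covers`

For an involutory isometry `x` (not scalar, `det x = 1`, even dimension) the centraliser of `x` in
`O(Q)` covers `O(Q) / Ω`: the `+1`-eigenspace of `x` contains two orthogonal non-singular vectors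
(otherwise `x = -1` or `x = - r_u`, of determinant `-1`), hence vectors of norm `1` and of
nonsquare norm; the reflections in these commute with `x` and realise all sign pairs. -/

set_option autoImplicit false
open scoped MatrixGroups
open Matrix

namespace Cfsg.Agent.Lib.Helper44.Oc

open Cfsg.Agent.Lib.Helper37

universe v

variable {F : Type v} [Field F] {ι : Type} [Fintype ι] [DecidableEq ι]

theorem cinv_sq_apply (X : Matrix ι ι F) (hXX : X * X = 1) (u : ι → F) : X *ᵥ (X *ᵥ u) = u := by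
  rw [Matrix.mulVec_mulVec, hXX, Matrix.one_mulVec]

theorem cinv_adj {Q : (ι → F) → F} {G : Matrix ι ι F} (hG : IsGram Q G) (X : Matrix ι ι F)
    (hXQ : ∀ u, Q (X *ᵥ u) = Q u) (hXX : X * X = 1) (u w : ι → F) :
    Matrix.toBilin' G (X *ᵥ u) w = Matrix.toBilin' G u (X *ᵥ w) := by
  have := hG.isometry_bilin X hXQ u (X *ᵥ w)
  rw [cinv_sq_apply X hXX] at this
  exact this

/-- an involutory isometry which is not `-1` fixes a non-singular vector -/
theorem cinv_exists_fixed {Q : (ι → F) → F} {G : Matrix ι ι F} (hG : IsGram Q G)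
    (hdet : G.det ≠ 0) (X : Matrix ι ι F) (hXQ : ∀ u, Q (X *ᵥ u) = Q u) (hXX : X * X = 1)
    (hne : X ≠ (-1 : F) • (1 : Matrix ι ι F)) :
    ∃ u, X *ᵥ u = u ∧ Q u ≠ 0 := by
  by_contra hcon
  push Not at hcon
  have hp : ∀ v, X *ᵥ (v + X *ᵥ v) = v + X *ᵥ v := fun v => by
    rw [Matrix.mulVec_add, cinv_sq_apply X hXX, add_comm]
  have hQp : ∀ v, Q (v + X *ᵥ v) = 0 := fun v => hcon _ (hp v)
  have hBpp : ∀ v w, Matrix.toBilin' G (v + X *ᵥ v) (w + X *ᵥ w) = 0 := by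
    intro v w
    have h1 := hG.Q_add (v + X *ᵥ v) (w + X *ᵥ w)
    have h2 : (v + X *ᵥ v) + (w + X *ᵥ w) = (v + w) + X *ᵥ (v + w) := by
      rw [Matrix.mulVec_add]; abel
    rw [h2, hQp, hQp, hQp] at h1
    linear_combination -h1
  have hBp : ∀ v w, Matrix.toBilin' G (v + X *ᵥ v) w = 0 := by
    intro v w
    have h1 := hBpp v w
    rw [map_add] at h1
    have h2 : Matrix.toBilin' G (v + X *ᵥ v) (X *ᵥ w) = Matrix.toBilin' G (v + X *ᵥ v) w := by
      rw [← cinv_adj hG X hXQ hXX, hp]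
    rw [h2] at h1
    have h3 : (2 : F) * Matrix.toBilin' G (v + X *ᵥ v) w = 0 := by linear_combination h1
    exact (mul_eq_zero.mp h3).resolve_left hG.two_ne
  have hpz : ∀ v, v + X *ᵥ v = 0 := by
    intro v
    by_contra hv
    obtain ⟨y, hy⟩ := hG.exists_bilin_ne_zero hdet _ hv
    exact hy (hBp v y)
  apply hne
  apply Matrix.mulVec_injective
  funext v
  rw [Matrix.smul_mulVec, Matrix.one_mulVec, neg_one_smul]
  exact eq_neg_of_add_eq_zero_right (hpz v)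

/-- an involutory isometry of determinant one in even dimension: the fixed space contains a
non-singular vector orthogonal to a given non-singular fixed vector -/
theorem cinv_exists_fixed_perp {Q : (ι → F) → F} {G : Matrix ι ι F} (hG : IsGram Q G)
    (hdet : G.det ≠ 0) (hcard : Even (Fintype.card ι)) (X : Matrix ι ι F)
    (hXQ : ∀ u, Q (X *ᵥ u) = Q u) (hXX : X * X = 1) (hdetX : X.det = 1)
    (u₁ : ι → F) (hu₁ : X *ᵥ u₁ = u₁) (hQu₁ : Q u₁ ≠ 0) :
    ∃ u, X *ᵥ u = u ∧ Q u ≠ 0 ∧ Matrix.toBilin' G u₁ u = 0 := by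
  by_contra hcon
  push Not at hcon
  -- the projection
  let f : (ι → F) → (ι → F) := fun v =>
    (v + X *ᵥ v) - (((Q u₁)⁻¹ * Matrix.toBilin' G u₁ v)) • u₁
  have hfdef : ∀ v, f v = (v + X *ᵥ v) - (((Q u₁)⁻¹ * Matrix.toBilin' G u₁ v)) • u₁ :=
    fun _ => rfl
  have hp : ∀ v, X *ᵥ (v + X *ᵥ v) = v + X *ᵥ v := fun v => by
    rw [Matrix.mulVec_add, cinv_sq_apply X hXX, add_comm]
  have hXf : ∀ v, X *ᵥ (f v) = f v := by
    intro v
    rw [hfdef, Matrix.mulVec_sub, hp, Matrix.mulVec_smul, hu₁]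
  have hu₁X : ∀ v, Matrix.toBilin' G u₁ (X *ᵥ v) = Matrix.toBilin' G u₁ v := by
    intro v
    rw [← cinv_adj hG X hXQ hXX, hu₁]
  have hBuf : ∀ v, Matrix.toBilin' G u₁ (f v) = 0 := by
    intro v
    rw [hfdef, map_sub, map_add, map_smul, hu₁X, hG.self u₁, smul_eq_mul]
    field_simp
    ring
  have hfadd : ∀ v w, f (v + w) = f v + f w := by
    intro v w
    rw [hfdef, hfdef, hfdef, Matrix.mulVec_add, map_add, mul_add, add_smul]
    abel
  have hQf : ∀ v, Q (f v) = 0 := by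
    intro v
    by_contra hne
    exact hcon (f v) (hXf v) hne (hBuf v)
  have hBff : ∀ v w, Matrix.toBilin' G (f v) (f w) = 0 := by
    intro v w
    have h1 := hG.Q_add (f v) (f w)
    rw [← hfadd, hQf, hQf, hQf] at h1
    linear_combination -h1
  have hBf : ∀ v w, Matrix.toBilin' G (f v) w = 0 := by
    intro v w
    have h1 := hBff v w
    rw [hfdef w, map_sub, map_add, map_smul, hG.symmB (f v) u₁, hBuf, smul_zero, sub_zero] at h1
    have h2 : Matrix.toBilin' G (f v) (X *ᵥ w) = Matrix.toBilin' G (f v) w := by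
      rw [← cinv_adj hG X hXQ hXX, hXf]
    rw [h2] at h1
    have h3 : (2 : F) * Matrix.toBilin' G (f v) w = 0 := by linear_combination h1
    exact (mul_eq_zero.mp h3).resolve_left hG.two_ne
  have hfz : ∀ v, f v = 0 := by
    intro v
    by_contra hv
    obtain ⟨y, hy⟩ := hG.exists_bilin_ne_zero hdet _ hv
    exact hy (hBf v y)
  have hXeq : X = -Cfsg.reflectionMatrix Q u₁ := by
    apply Matrix.mulVec_injective
    funext v
    rw [Matrix.neg_mulVec, hG.refl_mulVec]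
    have h1 := hfz v
    rw [hfdef, sub_eq_zero] at h1
    rw [← h1]
    abel
  have hd : X.det = -1 := by
    rw [hXeq, Matrix.det_neg, hG.det_refl u₁ hQu₁, hcard.neg_one_pow, one_mul]
  rw [hdetX] at hd
  apply hG.two_ne
  linear_combination hd

/-- the fixed space of such an involution represents every scalar -/
theorem cinv_exists_fixed_value [Finite F] {Q : (ι → F) → F} {G : Matrix ι ι F} (hG : IsGram Q G)
    (hdet : G.det ≠ 0) (hcard : Even (Fintype.card ι)) (X : Matrix ι ι F)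
    (hXQ : ∀ u, Q (X *ᵥ u) = Q u) (hXX : X * X = 1)
    (hne : X ≠ (-1 : F) • (1 : Matrix ι ι F)) (hdetX : X.det = 1) (c : F) :
    ∃ w, X *ᵥ w = w ∧ Q w = c := by
  obtain ⟨u₁, hu₁, hQu₁⟩ := cinv_exists_fixed hG hdet X hXQ hXX hne
  obtain ⟨u₂, hu₂, hQu₂, horth⟩ :=
    cinv_exists_fixed_perp hG hdet hcard X hXQ hXX hdetX u₁ hu₁ hQu₁
  obtain ⟨a, b, hab⟩ := Cfsg.Agent.S0756.exists_sq_add_sq hG.two_ne (Q u₁) (Q u₂) c hQu₁ hQu₂
  refine ⟨a • u₁ + b • u₂, ?_, ?_⟩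
  · rw [Matrix.mulVec_add, Matrix.mulVec_smul, Matrix.mulVec_smul, hu₁, hu₂]
  · rw [hG.Q_add, hG.Q_smul, hG.Q_smul]
    simp only [map_smul, LinearMap.smul_apply, smul_eq_mul, horth]
    linear_combination hab

/-- the reflection in a fixed vector commutes with the involution -/
theorem cinv_refl_comm {Q : (ι → F) → F} {G : Matrix ι ι F} (hG : IsGram Q G) (X : Matrix ι ι F)
    (hXQ : ∀ u, Q (X *ᵥ u) = Q u) (hXX : X * X = 1) (v : ι → F) (hv : X *ᵥ v = v) :
    Cfsg.reflectionMatrix Q v * X = X * Cfsg.reflectionMatrix Q v := by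
  apply Matrix.mulVec_injective
  funext w
  rw [← Matrix.mulVec_mulVec, ← Matrix.mulVec_mulVec, hG.refl_mulVec, hG.refl_mulVec,
    Matrix.mulVec_sub, Matrix.mulVec_smul, hv]
  have h1 : Matrix.toBilin' G v (X *ᵥ w) = Matrix.toBilin' G v w := by
    rw [← cinv_adj hG X hXQ hXX, hv]
  rw [h1]

/-- OC-CINV -/
theorem cent_invol_covers [Fintype F] (h2 : (2 : F) ≠ 0) (Q : (ι → F) → F)
    (hQ : Cfsg.Geo.IsNondegenerateQuadraticForm Q) (hcard : Even (Fintype.card ι))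
    (x : GL ι F) (hx : x ∈ Cfsg.isometryGroup F Q)
    (hxx : (x : Matrix ι ι F) * (x : Matrix ι ι F) = 1)
    (hns : ∀ z : F, (x : Matrix ι ι F) ≠ z • (1 : Matrix ι ι F)) (hdet : (x : Matrix ι ι F).det = 1)
    (h : GL ι F) (hh : h ∈ Cfsg.isometryGroup F Q) :
    ∃ c : GL ι F, c ∈ Cfsg.isometryGroup F Q ∧
      (c : Matrix ι ι F) * (x : Matrix ι ι F) = (x : Matrix ι ι F) * (c : Matrix ι ι F) ∧
      c * h ∈ Cfsg.Geo.omegaGL Q := by
  classical
  have hG : IsGram Q (Matrix.of (fun i j : ι =>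
      QuadraticMap.polar Q (Pi.single i 1) (Pi.single j 1))) :=
    isGram_of_quadraticForm h2 (toQF Q hQ)
  have hdetG : (Matrix.of (fun i j : ι =>
      QuadraticMap.polar Q (Pi.single i 1) (Pi.single j 1))).det ≠ 0 :=
    det_ne_zero_of_nondegenerate (toQF Q hQ) (toQF_nondeg Q hQ)
  obtain ⟨α, hα⟩ := FiniteField.exists_nonsquare (ringChar_ne_two_of_two_ne_zero h2) (F := F)
  have hXQ : ∀ u, Q ((x : Matrix ι ι F) *ᵥ u) = Q u := (mem_isometryGroup_iff' Q x).mp hx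
  obtain ⟨v₁, hv₁x, hv₁⟩ :=
    cinv_exists_fixed_value hG hdetG hcard _ hXQ hxx (hns (-1)) hdet 1
  obtain ⟨v₂, hv₂x, hv₂⟩ :=
    cinv_exists_fixed_value hG hdetG hcard _ hXQ hxx (hns (-1)) hdet α
  have hα0 : α ≠ 0 := by
    rintro rfl
    exact hα ⟨0, by simp⟩
  have hv₁0 : Q v₁ ≠ 0 := by rw [hv₁]; exact one_ne_zero
  have hv₂0 : Q v₂ ≠ 0 := by rw [hv₂]; exact hα0
  have a1 : signChar Q 1 (hG.reflG v₁ hv₁0) = -1 :=
    (hG.signChar_refl v₁ hv₁0 1).1 ⟨1, one_ne_zero, by rw [hv₁]; ring⟩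
  have a2 : signChar Q α (hG.reflG v₁ hv₁0) = 1 :=
    (hG.signChar_refl v₁ hv₁0 α).2 (by
      rintro ⟨t, _, ht⟩
      apply hα
      refine ⟨t, ?_⟩
      rw [← ht, hv₁]; ring)
  have b1 : signChar Q 1 (hG.reflG v₂ hv₂0) = 1 :=
    (hG.signChar_refl v₂ hv₂0 1).2 (by
      rintro ⟨t, ht0, ht⟩
      apply hα
      refine ⟨t⁻¹, ?_⟩
      rw [hv₂] at ht
      field_simp
      linear_combination ht)
  have b2 : signChar Q α (hG.reflG v₂ hv₂0) = -1 :=
    (hG.signChar_refl v₂ hv₂0 α).1 ⟨1, one_ne_zero, by rw [hv₂]; ring⟩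
  have e1 : IsGram.signPair Q α (hG.reflG v₁ hv₁0) = (-1, 1) := Prod.ext a1 a2
  have e2 : IsGram.signPair Q α (hG.reflG v₂ hv₂0) = (1, -1) := Prod.ext b1 b2
  have c1 : Cfsg.reflectionMatrix Q v₁ * (x : Matrix ι ι F)
      = (x : Matrix ι ι F) * Cfsg.reflectionMatrix Q v₁ :=
    cinv_refl_comm hG _ hXQ hxx v₁ hv₁x
  have c2 : Cfsg.reflectionMatrix Q v₂ * (x : Matrix ι ι F)
      = (x : Matrix ι ι F) * Cfsg.reflectionMatrix Q v₂ :=
    cinv_refl_comm hG _ hXQ hxx v₂ hv₂x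
  -- an element of the centraliser with the sign pair of `h`
  have key : ∀ s : ℤˣ × ℤˣ, ∃ c' : ↥(Cfsg.isometryGroup F Q),
      ((c' : GL ι F) : Matrix ι ι F) * (x : Matrix ι ι F)
        = (x : Matrix ι ι F) * ((c' : GL ι F) : Matrix ι ι F) ∧
      IsGram.signPair Q α c' = s := by
    rintro ⟨a, b⟩
    rcases Int.units_eq_one_or a with rfl | rfl <;> rcases Int.units_eq_one_or b with rfl | rfl
    · refine ⟨1, ?_, map_one _⟩
      simp
    · exact ⟨hG.reflG v₂ hv₂0, c2, e2⟩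
    · exact ⟨hG.reflG v₁ hv₁0, c1, e1⟩
    · refine ⟨hG.reflG v₁ hv₁0 * hG.reflG v₂ hv₂0, ?_, ?_⟩
      · show (Cfsg.reflectionMatrix Q v₁ * Cfsg.reflectionMatrix Q v₂) * (x : Matrix ι ι F)
          = (x : Matrix ι ι F) * (Cfsg.reflectionMatrix Q v₁ * Cfsg.reflectionMatrix Q v₂)
        rw [Matrix.mul_assoc, c2, ← Matrix.mul_assoc, c1, Matrix.mul_assoc]
      · rw [map_mul, e1, e2]
        rfl
  obtain ⟨c', hc'x, hc's⟩ := key (IsGram.signPair Q α ⟨h, hh⟩)
  refine ⟨(c' : GL ι F), c'.2, hc'x, ?_⟩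
  have hmem : c' * ⟨h, hh⟩ ∈ Cfsg.Omega F Q := by
    rw [← hG.ker_signPair hdetG α hα, MonoidHom.mem_ker, map_mul, hc's]
    exact Prod.ext (Int.units_mul_self _) (Int.units_mul_self _)
  exact Subgroup.mem_map.mpr ⟨c' * ⟨h, hh⟩, hmem, rfl⟩

end Cfsg.Agent.Lib.Helper44.Oc
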