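import Mathlib
import Cfsg.Agent.Lib.Helper45.RsDefs

/-! # Rs hive (helper45, S2361): leaves RS-ARITH `exists_hall_index` and RS-ARITH2 `exists_prime_dvd_k1` -/

set_option autoImplicit false

namespace Cfsg.Agent.Lib.Helper45.Rs

/-- the basic relations between `q = 3^(2m+1)`, `r = 3^(m+1)` and the four Hall numbers -/
theorem arith_rel (m : ℕ) :
    3 ^ (2 * m + 1) % 8 = 3 ∧ 3 ^ (m + 1) * 3 ^ (m + 1) = 3 * 3 ^ (2 * m + 1) ∧
      3 ^ (m + 1) ≤ 3 ^ (2 * m + 1) := by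
  refine ⟨?_, ?_, ?_⟩
  · have h9 : 9 ^ m % 8 = 1 := by
      rw [Nat.pow_mod]; norm_num
    have : 3 ^ (2 * m + 1) = 3 * 9 ^ m := by
      rw [pow_succ, pow_mul]; norm_num [mul_comm]
    rw [this]
    omega
  · ring
  · exact Nat.pow_le_pow_right (by norm_num) (by omega)

/-- abstract pairwise coprimality at a prime `l ≠ 2, 3` -/
theorem arith_coprime (l : ℕ) (hl : l.Prime) (h2 : l ≠ 2) (h3 : l ≠ 3) (q r k0 k1 k2 k3 : ℕ)
    (e0 : 2 * k0 + 1 = q) (e1 : 4 * k1 = q + 1) (e2 : k2 + r = q + 1) (e3 : k3 = q + r + 1)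
    (e4 : r * r = 3 * q) :
    ¬ (l ∣ k0 ∧ l ∣ k1) ∧ ¬ (l ∣ k0 ∧ l ∣ k2) ∧ ¬ (l ∣ k0 ∧ l ∣ k3) ∧ ¬ (l ∣ k1 ∧ l ∣ k2) ∧
      ¬ (l ∣ k1 ∧ l ∣ k3) ∧ ¬ (l ∣ k2 ∧ l ∣ k3) := by
  have : Fact l.Prime := ⟨hl⟩
  have n2 : (2 : ZMod l) ≠ 0 := by
    intro h
    have h' : ((2 : ℕ) : ZMod l) = 0 := by exact_mod_cast h
    rw [ZMod.natCast_eq_zero_iff] at h'
    exact h2 ((Nat.prime_dvd_prime_iff_eq hl Nat.prime_two).mp h')
  have n3 : (3 : ZMod l) ≠ 0 := by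
    intro h
    have h' : ((3 : ℕ) : ZMod l) = 0 := by exact_mod_cast h
    rw [ZMod.natCast_eq_zero_iff] at h'
    exact h3 ((Nat.prime_dvd_prime_iff_eq hl Nat.prime_three).mp h')
  have n1 : (1 : ZMod l) ≠ 0 := one_ne_zero
  have c0 : (2 : ZMod l) * k0 + 1 = q := by exact_mod_cast congrArg (Nat.cast : ℕ → ZMod l) e0
  have c1 : (4 : ZMod l) * k1 = q + 1 := by exact_mod_cast congrArg (Nat.cast : ℕ → ZMod l) e1
  have c2 : (k2 : ZMod l) + r = q + 1 := by exact_mod_cast congrArg (Nat.cast : ℕ → ZMod l) e2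
  have c3 : (k3 : ZMod l) = q + r + 1 := by exact_mod_cast congrArg (Nat.cast : ℕ → ZMod l) e3
  have c4 : (r : ZMod l) * r = 3 * q := by exact_mod_cast congrArg (Nat.cast : ℕ → ZMod l) e4
  have z : ∀ k : ℕ, l ∣ k → (k : ZMod l) = 0 := fun k h => (ZMod.natCast_eq_zero_iff k l).mpr h
  refine ⟨?_, ?_, ?_, ?_, ?_, ?_⟩
  · rintro ⟨ha, hb⟩
    have a := z _ ha; have b := z _ hb
    rw [a] at c0; rw [b] at c1
    apply n2
    linear_combination c0 - c1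
  · rintro ⟨ha, hb⟩
    have a := z _ ha; have b := z _ hb
    rw [a] at c0; rw [b] at c2
    -- q = 1, r = 2, r*r = 3
    apply n1
    have hq : (q : ZMod l) = 1 := by linear_combination -c0
    have hr : (r : ZMod l) = 2 := by linear_combination c2 + hq
    rw [hr, hq] at c4
    linear_combination c4
  · rintro ⟨ha, hb⟩
    have a := z _ ha; have b := z _ hb
    rw [a] at c0; rw [b] at c3
    apply n1
    have hq : (q : ZMod l) = 1 := by linear_combination -c0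
    have hr : (r : ZMod l) = -2 := by linear_combination -c3 - hq
    rw [hr, hq] at c4
    linear_combination c4
  · rintro ⟨ha, hb⟩
    have a := z _ ha; have b := z _ hb
    rw [a] at c1; rw [b] at c2
    apply n3
    have hq : (q : ZMod l) = -1 := by linear_combination -c1
    have hr : (r : ZMod l) = 0 := by linear_combination c2 + hq
    rw [hr, hq] at c4
    linear_combination c4
  · rintro ⟨ha, hb⟩
    have a := z _ ha; have b := z _ hb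
    rw [a] at c1; rw [b] at c3
    apply n3
    have hq : (q : ZMod l) = -1 := by linear_combination -c1
    have hr : (r : ZMod l) = 0 := by linear_combination -c3 - hq
    rw [hr, hq] at c4
    linear_combination c4
  · rintro ⟨ha, hb⟩
    have a := z _ ha; have b := z _ hb
    rw [a] at c2; rw [b] at c3
    have h2r : (2 : ZMod l) * r = 0 := by linear_combination c2 - c3
    have hr : (r : ZMod l) = 0 := (mul_eq_zero.mp h2r).resolve_left n2
    rw [hr] at c2 c4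
    have h3q : (3 : ZMod l) * q = 0 := by linear_combination -c4
    have hq : (q : ZMod l) = 0 := (mul_eq_zero.mp h3q).resolve_left n3
    rw [hq] at c2
    apply n1
    linear_combination -c2

/-- the `l`-part of `|²G₂(q)|` is the sum of the `l`-parts of the four Hall numbers, and `l` divides at most one of them -/
theorem arith_fact (m : ℕ) (l : ℕ) (hl : l.Prime) (h2 : l ≠ 2) (h3 : l ≠ 3) :
    ((3 ^ (2 * m + 1)) ^ 3 * (3 ^ (2 * m + 1) - 1) * ((3 ^ (2 * m + 1)) ^ 3 + 1)) ≠ 0 ∧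
    ((3 ^ (2 * m + 1)) ^ 3 * (3 ^ (2 * m + 1) - 1) * ((3 ^ (2 * m + 1)) ^ 3 + 1)).factorization l =
      (kk m 0).factorization l + (kk m 1).factorization l + (kk m 2).factorization l +
        (kk m 3).factorization l ∧
    ¬ (l ∣ kk m 0 ∧ l ∣ kk m 1) ∧ ¬ (l ∣ kk m 0 ∧ l ∣ kk m 2) ∧ ¬ (l ∣ kk m 0 ∧ l ∣ kk m 3) ∧
      ¬ (l ∣ kk m 1 ∧ l ∣ kk m 2) ∧ ¬ (l ∣ kk m 1 ∧ l ∣ kk m 3) ∧ ¬ (l ∣ kk m 2 ∧ l ∣ kk m 3) := by
  obtain ⟨h8, hrr, hrq⟩ := arith_rel m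
  have hk0 : kk m 0 = (3 ^ (2 * m + 1) - 1) / 2 := rfl
  have hk1 : kk m 1 = (3 ^ (2 * m + 1) + 1) / 4 := rfl
  have hk2 : kk m 2 = 3 ^ (2 * m + 1) - 3 ^ (m + 1) + 1 := rfl
  have hk3 : kk m 3 = 3 ^ (2 * m + 1) + 3 ^ (m + 1) + 1 := rfl
  have hq3 : ¬ l ∣ 3 ^ (2 * m + 1) := by
    intro h
    exact h3 ((Nat.prime_dvd_prime_iff_eq hl Nat.prime_three).mp (hl.dvd_of_dvd_pow h))
  have h8' : ¬ l ∣ 8 := by
    intro h
    have : l ∣ 2 ^ 3 := by norm_num; exact h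
    exact h2 ((Nat.prime_dvd_prime_iff_eq hl Nat.prime_two).mp (hl.dvd_of_dvd_pow this))
  have hqpos : 0 < 3 ^ (2 * m + 1) := by positivity
  generalize 3 ^ (2 * m + 1) = q at *
  generalize 3 ^ (m + 1) = r at *
  obtain ⟨k0, d0⟩ : ∃ k0, k0 = (q - 1) / 2 := ⟨_, rfl⟩
  obtain ⟨k1, d1⟩ : ∃ k1, k1 = (q + 1) / 4 := ⟨_, rfl⟩
  obtain ⟨k2, d2⟩ : ∃ k2, k2 = q - r + 1 := ⟨_, rfl⟩
  obtain ⟨k3, d3⟩ : ∃ k3, k3 = q + r + 1 := ⟨_, rfl⟩
  rw [← d0] at hk0
  rw [← d1] at hk1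
  rw [← d2] at hk2
  rw [← d3] at hk3
  rw [hk0, hk1, hk2, hk3]
  have e0 : 2 * k0 + 1 = q := by omega
  have e1 : 4 * k1 = q + 1 := by omega
  have e2 : k2 + r = q + 1 := by omega
  have e3 : k3 = q + r + 1 := d3
  have hk0pos : k0 ≠ 0 := by
    rintro rfl
    have : q = 1 := by omega
    omega
  have hk1pos : k1 ≠ 0 := by omega
  have hk2pos : k2 ≠ 0 := by omega
  have hk3pos : k3 ≠ 0 := by omega
  have hN : q ^ 3 * (q - 1) * (q ^ 3 + 1) = 8 * q ^ 3 * k0 * k1 * k2 * k3 := by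
    have hq1 : q - 1 = 2 * k0 := by omega
    rw [hq1]
    have hq31 : q ^ 3 + 1 = 4 * k1 * (k2 * k3) := by
      have hk : (k2 : ℤ) * k3 = (q : ℤ) ^ 2 - q + 1 := by
        have e2' : (k2 : ℤ) = q + 1 - r := by have := congrArg (Nat.cast : ℕ → ℤ) e2; push_cast at this; linarith
        have e3' : (k3 : ℤ) = q + r + 1 := by exact_mod_cast e3
        have e4' : (r : ℤ) * r = 3 * q := by exact_mod_cast hrr
        rw [e2', e3']
        linear_combination -e4'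
      have : ((q ^ 3 + 1 : ℕ) : ℤ) = ((4 * k1 * (k2 * k3) : ℕ) : ℤ) := by
        push_cast
        have e1' : (4 : ℤ) * k1 = q + 1 := by exact_mod_cast e1
        rw [mul_assoc, hk]
        linear_combination -((q : ℤ) ^ 2 - q + 1) * e1'
      exact_mod_cast this
    rw [hq31]
    ring
  rw [hN]
  have hq3pos : q ^ 3 ≠ 0 := by positivity
  have f8 : (8 : ℕ).factorization l = 0 := Nat.factorization_eq_zero_of_not_dvd h8'
  have fq : (q ^ 3).factorization l = 0 := by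
    apply Nat.factorization_eq_zero_of_not_dvd
    intro h
    exact hq3 (hl.dvd_of_dvd_pow h)
  refine ⟨by positivity, ?_, arith_coprime l hl h2 h3 q r k0 k1 k2 k3 e0 e1 e2 e3 hrr⟩
  rw [Nat.factorization_mul (by positivity) hk3pos, Nat.factorization_mul (by positivity) hk2pos,
    Nat.factorization_mul (by positivity) hk1pos, Nat.factorization_mul (by positivity) hk0pos,
    Nat.factorization_mul (by norm_num) hq3pos]
  simp only [Finsupp.add_apply, f8, fq]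
  ring

/-- RS-ARITH (Mathlib), part 1.  A prime `l > 3` dividing `|²G₂(q)| = q³(q-1)(q³+1)` divides one of the four Hall numbers. -/
theorem arith_exists_hall_dvd (m : ℕ) (hm : 1 ≤ m) (l : ℕ) (hl : l.Prime) (h2 : l ≠ 2) (h3 : l ≠ 3)
    (hdvd : l ∣ (3 ^ (2 * m + 1)) ^ 3 * (3 ^ (2 * m + 1) - 1) * ((3 ^ (2 * m + 1)) ^ 3 + 1)) :
    ∃ i : Fin 4, l ∣ kk m i := by
  obtain ⟨hN0, hfac, -⟩ := arith_fact m l hl h2 h3
  have hpos := hl.factorization_pos_of_dvd hN0 hdvd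
  rw [hfac] at hpos
  by_contra hcon
  push Not at hcon
  have z : ∀ i : Fin 4, (kk m i).factorization l = 0 := fun i =>
    Nat.factorization_eq_zero_of_not_dvd (hcon i)
  rw [z 0, z 1, z 2, z 3] at hpos
  exact absurd hpos (by norm_num)

/-- RS-ARITH (Mathlib), part 2.  ... and then to the full power. -/
theorem arith_hall_factorization (m : ℕ) (hm : 1 ≤ m) (l : ℕ) (hl : l.Prime) (h2 : l ≠ 2) (h3 : l ≠ 3) (i : Fin 4)
    (hdvd : l ∣ kk m i) :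
    ((3 ^ (2 * m + 1)) ^ 3 * (3 ^ (2 * m + 1) - 1) * ((3 ^ (2 * m + 1)) ^ 3 + 1)).factorization l =
      (kk m i).factorization l := by
  obtain ⟨-, hfac, n01, n02, n03, n12, n13, n23⟩ := arith_fact m l hl h2 h3
  rw [hfac]
  have zero : ∀ k : ℕ, ¬ l ∣ k → k.factorization l = 0 := fun k h =>
    Nat.factorization_eq_zero_of_not_dvd h
  fin_cases i
  · have v0 : l ∣ kk m 0 := hdvd
    rw [zero _ (fun h => n01 ⟨v0, h⟩), zero _ (fun h => n02 ⟨v0, h⟩), zero _ (fun h => n03 ⟨v0, h⟩)]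
    simp
  · have v1 : l ∣ kk m 1 := hdvd
    rw [zero _ (fun h => n01 ⟨h, v1⟩), zero _ (fun h => n12 ⟨v1, h⟩), zero _ (fun h => n13 ⟨v1, h⟩)]
    simp
  · have v2 : l ∣ kk m 2 := hdvd
    rw [zero _ (fun h => n02 ⟨h, v2⟩), zero _ (fun h => n12 ⟨h, v2⟩), zero _ (fun h => n23 ⟨v2, h⟩)]
    simp
  · have v3 : l ∣ kk m 3 := hdvd
    rw [zero _ (fun h => n03 ⟨h, v3⟩), zero _ (fun h => n13 ⟨h, v3⟩), zero _ (fun h => n23 ⟨h, v3⟩)]
    simp

/-- (first version of RS-ARITH, kept) a prime `l > 3` dividing `|²G₂(q)|` divides exactly one of the four Hall numbers,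
to the full power. -/
theorem exists_hall_index (m : ℕ) (hm : 1 ≤ m) (l : ℕ) (hl : l.Prime) (h2 : l ≠ 2) (h3 : l ≠ 3)
    (hdvd : l ∣ (3 ^ (2 * m + 1)) ^ 3 * (3 ^ (2 * m + 1) - 1) * ((3 ^ (2 * m + 1)) ^ 3 + 1)) :
    ∃ i : Fin 4, ((3 ^ (2 * m + 1)) ^ 3 * (3 ^ (2 * m + 1) - 1) * ((3 ^ (2 * m + 1)) ^ 3 + 1)).factorization l =
      (kk m i).factorization l := by
  obtain ⟨i, hi⟩ := arith_exists_hall_dvd m hm l hl h2 h3 hdvd
  exact ⟨i, arith_hall_factorization m hm l hl h2 h3 i hi⟩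

/-- RS-ARITH2 (Mathlib).  `(q+1)/4` has an odd prime divisor `l > 3`, it divides `q + 1`, and `q ≡ 3 (mod 8)`. -/
theorem exists_prime_dvd_k1 (m : ℕ) (hm : 1 ≤ m) :
    (∃ l : ℕ, l.Prime ∧ l ≠ 2 ∧ l ≠ 3 ∧ l ∣ kk m 1 ∧ l ∣ 3 ^ (2 * m + 1) + 1) ∧ 3 ^ (2 * m + 1) % 8 = 3 := by
  obtain ⟨h8, -, -⟩ := arith_rel m
  refine ⟨?_, h8⟩
  have hk1 : kk m 1 = (3 ^ (2 * m + 1) + 1) / 4 := rfl
  have h3 : 3 ^ (2 * m + 1) % 3 = 0 := by
    rw [pow_succ]; omega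
  have h27 : 27 ≤ 3 ^ (2 * m + 1) := by
    calc 27 = 3 ^ 3 := by norm_num
      _ ≤ 3 ^ (2 * m + 1) := Nat.pow_le_pow_right (by norm_num) (by omega)
  generalize 3 ^ (2 * m + 1) = q at *
  have e1 : 4 * kk m 1 = q + 1 := by omega
  have hne : kk m 1 ≠ 1 := by omega
  refine ⟨(kk m 1).minFac, Nat.minFac_prime hne, ?_, ?_, Nat.minFac_dvd _, ?_⟩
  · intro h
    have : (kk m 1).minFac ∣ kk m 1 := Nat.minFac_dvd _
    rw [h] at this
    omega
  · intro h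
    have : (kk m 1).minFac ∣ kk m 1 := Nat.minFac_dvd _
    rw [h] at this
    omega
  · exact Dvd.dvd.trans (Nat.minFac_dvd _) ⟨4, by omega⟩

end Cfsg.Agent.Lib.Helper45.Rs
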