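import Mathlib

set_option autoImplicit false

/-!
# Groups with fewer than `p ^ 2` Sylow `p`-subgroups

If a finite group `G` has fewer than `p ^ 2` Sylow `p`-subgroups, then any two distinct Sylow
`p`-subgroups meet in a subgroup of index `p`, and this common intersection is the same for all
pairs (it is `O_p(G)`), so `|P : O_p(G)| ≤ p`.
-/

namespace Cfsg.Agent.Lib.Helper72

open MulAction

variable {G : Type*} [Group G] [Finite G] {p : ℕ} [hp : Fact p.Prime]

/-- stabilizer of a Sylow `X` under the conjugation action of the Sylow `T` -/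
theorem stabilizer_sylow_eq (T X : Sylow p G) :
    MulAction.stabilizer (↥(T : Subgroup G)) X =
      ((T : Subgroup G) ⊓ (X : Subgroup G)).subgroupOf (T : Subgroup G) := by
  ext u
  rw [MulAction.mem_stabilizer_iff, Subgroup.mem_subgroupOf, Subgroup.smul_def,
    Sylow.smul_eq_iff_mem_normalizer]
  have key := IsPGroup.inf_normalizer_sylow T.2 X
  constructor
  · intro h
    have h1 : (u : G) ∈ (T : Subgroup G) ⊓ Subgroup.normalizer (X : Set G) :=
      ⟨u.2, h⟩
    rwa [key] at h1
  · intro h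
    have h1 : (u : G) ∈ (T : Subgroup G) ⊓ Subgroup.normalizer (X : Set G) := by
      rw [key]; exact h
    exact h1.2

theorem card_inf_mul_ncard_orbit (T X : Sylow p G) :
    Nat.card ↥((T : Subgroup G) ⊓ (X : Subgroup G)) *
      (MulAction.orbit (↥(T : Subgroup G)) X).ncard = Nat.card (T : Subgroup G) := by
  have h1 := Subgroup.card_mul_index (MulAction.stabilizer (↥(T : Subgroup G)) X)
  rw [MulAction.index_stabilizer, stabilizer_sylow_eq] at h1
  rw [← h1]
  congr 1
  exact (Nat.card_congr (Subgroup.subgroupOfEquivOfLe inf_le_left).toEquiv).symm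

theorem sylow_eq_of_le' {T X : Sylow p G} (h : (T : Subgroup G) ≤ X) : T = X := by
  apply Sylow.ext
  apply Subgroup.eq_of_le_of_card_ge h
  rw [Sylow.card_eq_multiplicity, Sylow.card_eq_multiplicity]

/-- With fewer than `p ^ 2` Sylow `p`-subgroups, each nontrivial orbit of a Sylow subgroup on the
set of Sylow subgroups has size `p` and distinct Sylow subgroups meet in index `p`. -/
theorem orbit_and_inf_of_card_lt_sq (hn : Nat.card (Sylow p G) < p ^ 2) {T X : Sylow p G}
    (h : T ≠ X) :
    (MulAction.orbit (↥(T : Subgroup G)) X).ncard = p ∧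
      Nat.card ↥((T : Subgroup G) ⊓ (X : Subgroup G)) * p = Nat.card (T : Subgroup G) := by
  have h1 := card_inf_mul_ncard_orbit T X
  have hT := Sylow.card_eq_multiplicity T
  set a := (Nat.card G).factorization p with ha
  set o := (MulAction.orbit (↥(T : Subgroup G)) X).ncard with ho
  set s := Nat.card ↥((T : Subgroup G) ⊓ (X : Subgroup G)) with hs
  have ho_dvd : o ∣ p ^ a := by rw [← hT, ← h1]; exact dvd_mul_left _ _
  obtain ⟨c, hc, hoc⟩ := (Nat.dvd_prime_pow hp.out).mp ho_dvd
  have ho_le : o ≤ Nat.card (Sylow p G) := by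
    rw [ho, ← Nat.card_coe_set_eq]
    exact Nat.card_le_card_of_injective (fun y => y.1) Subtype.val_injective
  have hc1 : c ≤ 1 := by
    by_contra hcon
    push Not at hcon
    have : p ^ 2 ≤ p ^ c := Nat.pow_le_pow_right hp.out.pos hcon
    rw [← hoc] at this
    omega
  have hc0 : c ≠ 0 := by
    intro hc0
    rw [hc0, pow_zero] at hoc
    rw [hoc, mul_one] at h1
    apply h
    apply sylow_eq_of_le'
    have : (T : Subgroup G) ⊓ (X : Subgroup G) = T :=
      Subgroup.eq_of_le_of_card_ge inf_le_left (by rw [← hs, h1])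
    rw [← this]; exact inf_le_right
  have hc' : c = 1 := by omega
  rw [hc', pow_one] at hoc
  exact ⟨hoc, by rw [← h1, hoc]⟩

theorem inf_subgroupOf_normal_of_card_lt_sq (hn : Nat.card (Sylow p G) < p ^ 2) {T X : Sylow p G}
    (h : T ≠ X) :
    (((T : Subgroup G) ⊓ (X : Subgroup G)).subgroupOf (T : Subgroup G)).Normal := by
  obtain ⟨-, h2⟩ := orbit_and_inf_of_card_lt_sq hn h
  apply Subgroup.normal_of_index_eq_minFac_card
  have hT := Sylow.card_eq_multiplicity T
  have hpos : (Nat.card G).factorization p ≠ 0 := by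
    intro h0
    rw [h0, pow_zero] at hT
    rw [hT] at h2
    have : p ∣ 1 := ⟨_, by rw [mul_comm] at h2; exact h2.symm⟩
    exact hp.out.one_lt.ne' (Nat.dvd_one.mp this)
  rw [hT, Nat.Prime.pow_minFac hp.out hpos]
  have h3 : ((T : Subgroup G) ⊓ (X : Subgroup G)).relIndex (T : Subgroup G) *
      Nat.card ↥((T : Subgroup G) ⊓ (X : Subgroup G)) = Nat.card (T : Subgroup G) := by
    rw [mul_comm]
    have := Subgroup.relIndex_mul_relIndex ⊥ ((T : Subgroup G) ⊓ (X : Subgroup G)) (T : Subgroup G)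
      bot_le inf_le_left
    rwa [Subgroup.relIndex_bot_left, Subgroup.relIndex_bot_left] at this
  have hpos2 : 0 < Nat.card ↥((T : Subgroup G) ⊓ (X : Subgroup G)) := Nat.card_pos
  show ((T : Subgroup G) ⊓ (X : Subgroup G)).relIndex (T : Subgroup G) = p
  rw [← h2] at h3
  rw [mul_comm] at h3
  exact Nat.eq_of_mul_eq_mul_left hpos2 h3

theorem inf_eq_of_mem_orbit (hn : Nat.card (Sylow p G) < p ^ 2) {T X Y : Sylow p G}
    (h : T ≠ X) (hY : Y ∈ MulAction.orbit (↥(T : Subgroup G)) X) :
    (T : Subgroup G) ⊓ (Y : Subgroup G) = (T : Subgroup G) ⊓ (X : Subgroup G) := by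
  have hN := inf_subgroupOf_normal_of_card_lt_sq hn h
  obtain ⟨u, rfl⟩ := hY
  have hmem : ∀ g : G, g ∈ ((u • X : Sylow p G) : Subgroup G) ↔ (u : G)⁻¹ * g * (u : G) ∈ (X : Subgroup G) := by
    intro g
    rw [Subgroup.smul_def, Sylow.smul_def, Sylow.pointwise_smul_def,
      Subgroup.mem_pointwise_smul_iff_inv_smul_mem,
      ← map_inv, MulAut.smul_def, MulAut.conj_apply, inv_inv]
  have hu : (u : G) ∈ (T : Subgroup G) := SetLike.coe_mem u
  ext g
  rw [Subgroup.mem_inf, Subgroup.mem_inf, hmem]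
  constructor
  · rintro ⟨h1, h2⟩
    refine ⟨h1, ?_⟩
    have hc : (u : G)⁻¹ * g * (u : G) ∈ (T : Subgroup G) := mul_mem (mul_mem (inv_mem hu) h1) hu
    have h3 : (⟨(u : G)⁻¹ * g * (u : G), hc⟩ : ↥(T : Subgroup G)) ∈
        ((T : Subgroup G) ⊓ (X : Subgroup G)).subgroupOf (T : Subgroup G) := by
      rw [Subgroup.mem_subgroupOf]
      exact Subgroup.mem_inf.mpr ⟨hc, h2⟩
    have h4 := hN.conj_mem _ h3 u
    rw [Subgroup.mem_subgroupOf] at h4
    have h5 : ((u * (⟨(u : G)⁻¹ * g * (u : G), hc⟩ : ↥(T : Subgroup G)) * u⁻¹ : ↥(T : Subgroup G)) : G) = g := by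
      simp [mul_assoc]
    rw [h5] at h4
    exact (Subgroup.mem_inf.mp h4).2
  · rintro ⟨h1, h2⟩
    refine ⟨h1, ?_⟩
    have h3 : (⟨g, h1⟩ : ↥(T : Subgroup G)) ∈
        ((T : Subgroup G) ⊓ (X : Subgroup G)).subgroupOf (T : Subgroup G) := by
      rw [Subgroup.mem_subgroupOf]
      exact Subgroup.mem_inf.mpr ⟨h1, h2⟩
    have h4 := hN.conj_mem _ h3 u⁻¹
    rw [Subgroup.mem_subgroupOf] at h4
    have h5 : ((u⁻¹ * (⟨g, h1⟩ : ↥(T : Subgroup G)) * u⁻¹⁻¹ : ↥(T : Subgroup G)) : G) =
        (u : G)⁻¹ * g * (u : G) := by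
      simp
    rw [h5] at h4
    exact (Subgroup.mem_inf.mp h4).2

/-- Key incidence argument: with fewer than `p ^ 2` Sylow `p`-subgroups, the intersection of two
distinct Sylow `p`-subgroups lies in every Sylow `p`-subgroup. -/
theorem inf_le_sylow_of_card_lt_sq (hn : Nat.card (Sylow p G) < p ^ 2) {P Q : Sylow p G}
    (hPQ : P ≠ Q) (T : Sylow p G) : (P : Subgroup G) ⊓ (Q : Subgroup G) ≤ T := by
  by_contra hT
  set D : Subgroup G := (P : Subgroup G) ⊓ (Q : Subgroup G) with hD
  have hcard : ∀ X Y : Sylow p G, Nat.card (X : Subgroup G) = Nat.card (Y : Subgroup G) := by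
    intro X Y
    rw [Sylow.card_eq_multiplicity, Sylow.card_eq_multiplicity]
  obtain ⟨hoPQ, hDcard⟩ := orbit_and_inf_of_card_lt_sq hn hPQ
  have hppos : 0 < p := hp.out.pos
  -- the line through `P` and `Q`
  let L := {X : Sylow p G // D ≤ X}
  -- it has at least `p` points
  have hL : p ≤ Nat.card L := by
    have hinj : Function.Injective
        (fun y : MulAction.orbit (↥(P : Subgroup G)) Q => (⟨y.1, by
          have := inf_eq_of_mem_orbit hn hPQ y.2
          have h2 : D ≤ (P : Subgroup G) ⊓ (y.1 : Subgroup G) := by rw [this]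
          exact h2.trans inf_le_right⟩ : L)) := by
      intro y y' h
      apply Subtype.ext
      exact congrArg (fun z : L => z.1) h
    have := Nat.card_le_card_of_injective _ hinj
    rwa [Nat.card_coe_set_eq, hoPQ] at this
  -- points on the line are different from `T`
  have hne : ∀ X : L, T ≠ X.1 := by
    intro X h
    apply hT
    rw [h]; exact X.2
  -- two points of the line meet in `D`
  have hXX : ∀ X X' : L, X ≠ X' → (X.1 : Subgroup G) ⊓ (X'.1 : Subgroup G) = D := by
    intro X X' h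
    have h1 : X.1 ≠ X'.1 := fun h' => h (Subtype.ext h')
    obtain ⟨-, h2⟩ := orbit_and_inf_of_card_lt_sq hn h1
    symm
    apply Subgroup.eq_of_le_of_card_ge (le_inf X.2 X'.2)
    have h3 : Nat.card ↥((X.1 : Subgroup G) ⊓ (X'.1 : Subgroup G)) * p = Nat.card ↥D * p := by
      rw [h2, hDcard]; exact hcard _ _
    exact le_of_eq (Nat.eq_of_mul_eq_mul_right hppos h3)
  -- an injection from `L × Fin p` into the Sylow subgroups
  have hequiv : ∀ X : L, Nonempty (MulAction.orbit (↥(T : Subgroup G)) X.1 ≃ Fin p) := by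
    intro X
    obtain ⟨h1, -⟩ := orbit_and_inf_of_card_lt_sq hn (hne X)
    rw [← Nat.card_coe_set_eq] at h1
    exact ⟨Finite.equivFinOfCardEq h1⟩
  let e : ∀ X : L, MulAction.orbit (↥(T : Subgroup G)) X.1 ≃ Fin p :=
    fun X => Classical.choice (hequiv X)
  let F : L × Fin p → Sylow p G := fun z => ((e z.1).symm z.2).1
  have hF : Function.Injective F := by
    rintro ⟨X, i⟩ ⟨X', i'⟩ h
    have h1 : F (X, i) ∈ MulAction.orbit (↥(T : Subgroup G)) X.1 := ((e X).symm i).2
    have h2 : F (X', i') ∈ MulAction.orbit (↥(T : Subgroup G)) X'.1 := ((e X').symm i').2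
    have h3 := inf_eq_of_mem_orbit hn (hne X) h1
    have h4 := inf_eq_of_mem_orbit hn (hne X') h2
    rw [h] at h3
    have h5 : (T : Subgroup G) ⊓ (X.1 : Subgroup G) = (T : Subgroup G) ⊓ (X'.1 : Subgroup G) := by
      rw [← h3, ← h4]
    have hX : X = X' := by
      by_contra hXne
      apply hT
      have h6 : (T : Subgroup G) ⊓ (X.1 : Subgroup G) ≤ D := by
        refine le_trans (le_inf inf_le_right ?_) (hXX X X' hXne).le
        rw [h5]; exact inf_le_right
      obtain ⟨-, h7⟩ := orbit_and_inf_of_card_lt_sq hn (hne X)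
      have h8 : Nat.card ↥D * p = Nat.card ↥((T : Subgroup G) ⊓ (X.1 : Subgroup G)) * p := by
        rw [h7, hDcard]; exact hcard _ _
      have h9 := Subgroup.eq_of_le_of_card_ge h6 (le_of_eq (Nat.eq_of_mul_eq_mul_right hppos h8))
      rw [← h9]; exact inf_le_left
    subst hX
    have h6 : (e X).symm i = (e X).symm i' := Subtype.ext h
    rw [(e X).symm.injective h6]
  have h1 := Nat.card_le_card_of_injective F hF
  rw [Nat.card_prod, Nat.card_fin] at h1
  have h2 : p * p ≤ Nat.card L * p := Nat.mul_le_mul_right p hL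
  have h3 : p ^ 2 = p * p := pow_two p
  omega

/-- If `G` has fewer than `p ^ 2` Sylow `p`-subgroups then `|P : O_p(G)|` divides `p`; here
`O_p(G)` appears as the normal core of `P`. -/
theorem card_sylow_dvd_mul_card_normalCore (hn : Nat.card (Sylow p G) < p ^ 2) (P : Sylow p G) :
    Nat.card (P : Subgroup G) ∣ p * Nat.card ↥((P : Subgroup G).normalCore) := by
  by_cases h : ∀ Q : Sylow p G, Q = P
  · have hnorm : (P : Subgroup G).Normal := by
      have : Subsingleton (Sylow p G) := ⟨fun a b => (h a).trans (h b).symm⟩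
      exact Sylow.normal_of_subsingleton P
    rw [Subgroup.normalCore_eq_self]
    exact dvd_mul_left _ _
  · push Not at h
    obtain ⟨Q, hQ⟩ := h
    have hPQ : P ≠ Q := fun h' => hQ h'.symm
    obtain ⟨-, h2⟩ := orbit_and_inf_of_card_lt_sq hn hPQ
    have hle : (P : Subgroup G) ⊓ (Q : Subgroup G) ≤ (P : Subgroup G).normalCore := by
      intro d hd
      rw [Subgroup.normalCore]
      show ∀ b : G, b * d * b⁻¹ ∈ (P : Subgroup G)
      intro b
      have h3 := inf_le_sylow_of_card_lt_sq hn hPQ (b⁻¹ • P) hd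
      rw [Sylow.smul_def, Sylow.pointwise_smul_def,
        Subgroup.mem_pointwise_smul_iff_inv_smul_mem, ← map_inv, inv_inv,
        MulAut.smul_def, MulAut.conj_apply] at h3
      exact h3
    rw [← h2, mul_comm]
    exact Nat.mul_dvd_mul_left p (Subgroup.card_dvd_of_le hle)

end Cfsg.Agent.Lib.Helper72
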