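import Mathlib
import Cfsg.Agent.Lib.Helper47.FLDefs

/-! # FL hive (helper47, S2863), leaf FL-COREAB: the core, with `core_split` and `core_inf_le` as
hypotheses -/

set_option autoImplicit false

namespace Cfsg.Agent.Lib.Helper47.FL

/-- a commutator identity: if `[w, v] = 1 = [w', v']` and `[w, v']`, `[w', v]` are central then
`[w w', v v'] = [w, v'] [w', v]` -/
theorem coreab_identity {G : Type*} [Group G] (w w' v v' : G) (h1 : w * v = v * w)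
    (h2 : w' * v' = v' * w')
    (hz1 : ∀ x, x * (w * v' * w⁻¹ * v'⁻¹) = (w * v' * w⁻¹ * v'⁻¹) * x)
    (hz2 : ∀ x, x * (w' * v * w'⁻¹ * v⁻¹) = (w' * v * w'⁻¹ * v⁻¹) * x) :
    (w * w') * (v * v') * (w * w')⁻¹ * (v * v')⁻¹
      = (w * v' * w⁻¹ * v'⁻¹) * (w' * v * w'⁻¹ * v⁻¹) := by
  have e2 : w' * v' * w'⁻¹ = v' := by rw [h2]; group
  have s1 : (w * w') * (v * v') * (w * w')⁻¹ * (v * v')⁻¹
      = w * (w' * v * w'⁻¹ * v⁻¹) * (v * (w' * v' * w'⁻¹) * w⁻¹ * v'⁻¹ * v⁻¹) := by group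
  rw [s1, e2, hz2 w]
  have s2 : w' * v * w'⁻¹ * v⁻¹ * w * (v * v' * w⁻¹ * v'⁻¹ * v⁻¹)
      = (w' * v * w'⁻¹ * v⁻¹) * ((w * v) * v' * w⁻¹ * v'⁻¹ * v⁻¹) := by group
  rw [s2, h1]
  have s3 : v * w * v' * w⁻¹ * v'⁻¹ * v⁻¹ = v * (w * v' * w⁻¹ * v'⁻¹) * v⁻¹ := by group
  rw [s3, hz1 v]
  have s4 : w * v' * w⁻¹ * v'⁻¹ * v * v⁻¹ = w * v' * w⁻¹ * v'⁻¹ := by group
  rw [s4]
  exact hz1 _

variable {H : Type*} [Group H] {Y A : Subgroup H}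

/-- `A` normalizes every conjugate of `Y` -/
theorem coreab_conj_mem_cj (h : CoreSetup Y A) (g : H) {w x : H} (hw : w ∈ A)
    (hx : x ∈ cj g Y) : w * x * w⁻¹ ∈ cj g Y := by
  rw [mem_cj_iff] at hx ⊢
  have hw' : g⁻¹ * w * g ∈ A := by
    have := h.normal.conj_mem w hw g⁻¹
    simpa using this
  have hn := (Subgroup.mem_normalizer_iff.mp (h.norm hw')) (g⁻¹ * x * g)
  have e : g⁻¹ * (w * x * w⁻¹) * g = (g⁻¹ * w * g) * (g⁻¹ * x * g) * (g⁻¹ * w * g)⁻¹ := by group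
  rw [e]
  exact hn.mp hx

/-- FL-COREAB with the leaves `core_split`, `core_inf_le` as hypotheses -/
theorem coreab_core (h : CoreSetup Y A)
    (hsplit : ∀ {g : H}, g ∉ Subgroup.normalizer (Y : Set H) → ∀ {a : H}, a ∈ A →
      ∃ w ∈ Y ⊓ A, ∃ w' ∈ cj g Y ⊓ A, a = w * w')
    (hinf : ∀ {g : H}, g ∉ Subgroup.normalizer (Y : Set H) → ∀ {x : H}, x ∈ Y → x ∈ cj g Y →
      x ∈ Y ⊓ Subgroup.center H)
    {a b : H} (ha : a ∈ A) (hb : b ∈ A) : a * b * a⁻¹ * b⁻¹ ∈ Y ⊓ Subgroup.center H := by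
  obtain ⟨g, hg⟩ : ∃ g, g ∉ Subgroup.normalizer (Y : Set H) := by
    by_contra hcon
    push Not at hcon
    exact h.nne (eq_top_iff.mpr fun g _ => hcon g)
  obtain ⟨w, hw, w', hw', rfl⟩ := hsplit hg ha
  obtain ⟨v, hv, v', hv', rfl⟩ := hsplit hg hb
  rw [Subgroup.mem_inf] at hw hw' hv hv'
  have hwv : w * v = v * w := h.comm w hw.1 v hv.1
  have hw'v' : w' * v' = v' * w' := by
    obtain ⟨y1, hy1, rfl⟩ := mem_cj.mp hw'.1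
    obtain ⟨y2, hy2, rfl⟩ := mem_cj.mp hv'.1
    have hc := h.comm y1 hy1 y2 hy2
    calc g * y1 * g⁻¹ * (g * y2 * g⁻¹) = g * (y1 * y2) * g⁻¹ := by group
      _ = g * (y2 * y1) * g⁻¹ := by rw [hc]
      _ = g * y2 * g⁻¹ * (g * y1 * g⁻¹) := by group
  have hz1 : w * v' * w⁻¹ * v'⁻¹ ∈ Y ⊓ Subgroup.center H := by
    apply hinf hg
    · have h1 : v' * w⁻¹ * v'⁻¹ ∈ Y :=
        ((Subgroup.mem_normalizer_iff.mp (h.norm hv'.2)) w⁻¹).mp (Y.inv_mem hw.1)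
      have e : w * v' * w⁻¹ * v'⁻¹ = w * (v' * w⁻¹ * v'⁻¹) := by group
      rw [e]
      exact Y.mul_mem hw.1 h1
    · have h1 : w * v' * w⁻¹ ∈ cj g Y := coreab_conj_mem_cj h g hw.2 hv'.1
      exact (cj g Y).mul_mem h1 ((cj g Y).inv_mem hv'.1)
  have hz2 : w' * v * w'⁻¹ * v⁻¹ ∈ Y ⊓ Subgroup.center H := by
    apply hinf hg
    · have h1 : w' * v * w'⁻¹ ∈ Y :=
        ((Subgroup.mem_normalizer_iff.mp (h.norm hw'.2)) v).mp hv.1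
      exact Y.mul_mem h1 (Y.inv_mem hv.1)
    · have h1 : v * w'⁻¹ * v⁻¹ ∈ cj g Y :=
        coreab_conj_mem_cj h g hv.2 ((cj g Y).inv_mem hw'.1)
      have e : w' * v * w'⁻¹ * v⁻¹ = w' * (v * w'⁻¹ * v⁻¹) := by group
      rw [e]
      exact (cj g Y).mul_mem hw'.1 h1
  have hc1 : ∀ x, x * (w * v' * w⁻¹ * v'⁻¹) = (w * v' * w⁻¹ * v'⁻¹) * x :=
    fun x => Subgroup.mem_center_iff.mp (Subgroup.mem_inf.mp hz1).2 x
  have hc2 : ∀ x, x * (w' * v * w'⁻¹ * v⁻¹) = (w' * v * w'⁻¹ * v⁻¹) * x :=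
    fun x => Subgroup.mem_center_iff.mp (Subgroup.mem_inf.mp hz2).2 x
  rw [coreab_identity w w' v v' hwv hw'v' hc1 hc2]
  exact (Y ⊓ Subgroup.center H).mul_mem hz1 hz2

end Cfsg.Agent.Lib.Helper47.FL
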