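import Mathlib

/-! # Tq hive (helper59), chunk TQ-AREVEN: `arith_even`

Pure arithmetic.  `areven_dvd` extracts from `r ∣ M` an index `j < m` and an `N` with
`i * N = 2 (d - j)` (`N + e` even) or `i * N = 2 (d - j - 1)` (`N + e` odd); this is only needed to
exclude `m < i`.  `areven_comb` is the combinatorial equivalence for `i ≤ m`, with an arbitrary `t`. -/

set_option autoImplicit false

namespace Cfsg.Agent.Lib.Helper59.Tq

theorem areven_key (i l δ u n1 k : ℕ) (hl : l < i) (hδ : δ ≤ 1)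
    (h : u + 2 ≤ n1 ∨ (u + 1 = n1 ∧ 2 * l + 2 * δ ≤ k + i) ∨ (u = n1 ∧ 2 * l + 2 * δ ≤ k)) :
    2 * l + 2 * δ + i * u ≤ i * n1 + k := by
  rcases h with h | ⟨h, h'⟩ | ⟨h, h'⟩
  · obtain ⟨c, rfl⟩ := Nat.exists_eq_add_of_le h
    have : i * (u + 2 + c) = i * u + 2 * i + i * c := by ring
    omega
  · subst h
    have : i * (u + 1) = i * u + i := by ring
    omega
  · subst h
    omega

theorem areven_divmod (i a b m1 l : ℕ) (ha : a < i) (hl : l < i)
    (h : a + b * i = i * m1 + l) : b = m1 ∧ a = l := by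
  have hipos : 0 < i := by omega
  have h1 : (a + b * i) / i = b := by
    rw [Nat.add_mul_div_right a b hipos, Nat.div_eq_of_lt ha, zero_add]
  have h2 : (i * m1 + l) / i = m1 := by
    rw [Nat.mul_add_div hipos, Nat.div_eq_of_lt hl, add_zero]
  have hb : b = m1 := by rw [← h1, h, h2]
  subst hb
  refine ⟨rfl, ?_⟩
  rw [mul_comm b i] at h
  omega

theorem areven_comb (i t d m e n1 k m1 l : ℕ) (he : e = 0 ∨ e = 1) (hi2 : 2 ≤ i)
    (hie : Even i) (him : i ≤ m) (hmd : m + 1 ≤ d) (hd2 : i * n1 + k = 2 * d) (hk : k < i)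
    (hm : i * m1 + l = m) (hl : l < i) :
    (∀ N, 1 ≤ N → i * N ≤ 2 * d → (i * N = 2 * d → (N + e) % 2 = 0) →
        ∃ a b, a + b * i = m ∧ (b = 0 ∨ 2 * b + t ≤ N + 1) ∧
          2 * a + 2 * ((N + e) % 2) + i * N ≤ 2 * d) ↔
      (t + 2 * m1 ≤ n1 ∧
        ((2 * l ≤ i ∧ k = 0 ∧ (n1 + e) % 2 = 1 ∧ t + 2 * m1 < n1) ∨
          (2 * l ≤ k ∧ (n1 + e) % 2 = 0) ∨
          (2 * l < k ∧ (n1 + e) % 2 = 1))) := by
  have hkev : k % 2 = 0 := by
    obtain ⟨h, rfl⟩ := hie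
    have : (h + h) * n1 = 2 * (h * n1) := by ring
    omega
  have hm1 : 1 ≤ m1 := by
    rcases Nat.eq_zero_or_pos m1 with h | h
    · subst h
      rw [Nat.mul_zero] at hm
      omega
    · exact h
  have hn1 : 2 ≤ n1 := by
    by_contra hlt
    have h1 : n1 ≤ 1 := by omega
    have h2 : i * n1 ≤ i * 1 := Nat.mul_le_mul_left i h1
    omega
  constructor
  · intro H
    obtain ⟨c, rfl⟩ : ∃ c, n1 = c + 2 := ⟨n1 - 2, by omega⟩
    have e0 : i * (c + 2) = i * c + 2 * i := by ring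
    have e1 : i * (c + 1) = i * c + i := by ring
    -- N = c + 1
    obtain ⟨a, b, hab, hb, hineq⟩ := H (c + 1) (by omega) (by omega) (by intro h; omega)
    have ha : a < i := by omega
    obtain ⟨rfl, rfl⟩ := areven_divmod i a b m1 l ha hl (by rw [hab, hm])
    have hfirst : t + 2 * b ≤ c + 2 := by omega
    refine ⟨hfirst, ?_⟩
    rcases Nat.mod_two_eq_zero_or_one (c + 2 + e) with hpar | hpar
    · -- N = c + 2, parity 0
      obtain ⟨a', b', hab', hb', hineq'⟩ := H (c + 2) (by omega) (by omega) (fun _ => hpar)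
      have ha' : a' < i := by omega
      obtain ⟨rfl, rfl⟩ := areven_divmod i a' b' b a ha' hl (by rw [hab', hm])
      right; left
      exact ⟨by omega, hpar⟩
    · rcases Nat.eq_zero_or_pos k with hk0 | hk0
      · -- case 1, use N = c
        have hc : 1 ≤ c := by
          rcases Nat.eq_zero_or_pos c with h | h
          · subst h
            rw [Nat.mul_zero] at e0
            omega
          · exact h
        obtain ⟨a', b', hab', hb', hineq'⟩ := H c hc (by omega) (by intro h; omega)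
        have hpc : (c + e) % 2 = 1 := by omega
        have ha' : a' < i := by omega
        obtain ⟨rfl, rfl⟩ := areven_divmod i a' b' b a ha' hl (by rw [hab', hm])
        left
        refine ⟨?_, hk0, hpar, ?_⟩
        · have hp1 : (c + 1 + e) % 2 = 0 := by omega
          rw [hp1] at hineq
          omega
        · omega
      · -- case 3, N = c + 2 with parity 1
        obtain ⟨a', b', hab', hb', hineq'⟩ := H (c + 2) (by omega) (by omega) (by intro h; omega)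
        have ha' : a' < i := by omega
        obtain ⟨rfl, rfl⟩ := areven_divmod i a' b' b a ha' hl (by rw [hab', hm])
        right; right
        exact ⟨by omega, hpar⟩
  · rintro ⟨h1, hcases⟩ N hN1 hN2 hN3
    have hNn : N ≤ n1 := by
      have h2 : i * N < i * (n1 + 1) := by
        have : i * (n1 + 1) = i * n1 + i := by ring
        omega
      have := Nat.lt_of_mul_lt_mul_left h2
      omega
    have hNval : N = n1 → k = 0 → (N + e) % 2 = 0 := by
      intro h hk0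
      subst h
      exact hN3 (by omega)
    have hδ : (N + e) % 2 ≤ 1 := by omega
    by_cases hb : 2 * m1 + t ≤ N + 1
    · refine ⟨l, m1, by rw [mul_comm m1 i]; omega, Or.inr hb, ?_⟩
      rw [← hd2]
      apply areven_key i l ((N + e) % 2) N n1 k hl hδ
      omega
    · have hbm : (N + 1 - t) / 2 ≤ m1 := by omega
      refine ⟨i * (m1 - (N + 1 - t) / 2) + l, (N + 1 - t) / 2, ?_, by omega, ?_⟩
      · have h2 : i * (m1 - (N + 1 - t) / 2) + i * ((N + 1 - t) / 2) = i * m1 := by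
          rw [← Nat.mul_add, Nat.sub_add_cancel hbm]
        rw [mul_comm ((N + 1 - t) / 2) i]
        omega
      · have h3 : 2 * (i * (m1 - (N + 1 - t) / 2) + l) + 2 * ((N + e) % 2) + i * N
            = 2 * l + 2 * ((N + e) % 2) + i * (2 * (m1 - (N + 1 - t) / 2) + N) := by ring
        rw [h3, ← hd2]
        apply areven_key i l ((N + e) % 2) _ n1 k hl hδ
        omega

theorem areven_pow_sub (q r a i : ℕ) (hq1 : 1 ≤ q)
    (hi : i = orderOf ((q : ℕ) : ZMod r)) (h : r ∣ q ^ a - 1) :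
    ∃ N, N % 2 = 0 ∧ i * N = 2 * a := by
  have h1 : ((q ^ a - 1 : ℕ) : ZMod r) = 0 := (ZMod.natCast_eq_zero_iff _ _).mpr h
  have hqa : 1 ≤ q ^ a := Nat.one_le_pow _ _ hq1
  rw [Nat.cast_sub hqa, Nat.cast_pow, Nat.cast_one, sub_eq_zero] at h1
  have h2 : i ∣ a := by rw [hi]; exact orderOf_dvd_of_pow_eq_one h1
  obtain ⟨c, rfl⟩ := h2
  exact ⟨2 * c, by omega, by ring⟩

theorem areven_pow_add (q r a i : ℕ) [Fact r.Prime] (hr2 : r ≠ 2)
    (hi : i = orderOf ((q : ℕ) : ZMod r)) (h : r ∣ q ^ a + 1) :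
    ∃ N, N % 2 = 1 ∧ i * N = 2 * a := by
  have h1 : ((q ^ a + 1 : ℕ) : ZMod r) = 0 := (ZMod.natCast_eq_zero_iff _ _).mpr h
  rw [Nat.cast_add, Nat.cast_pow, Nat.cast_one] at h1
  have h1' : ((q : ℕ) : ZMod r) ^ a = -1 := eq_neg_of_add_eq_zero_left h1
  have h2 : ((q : ℕ) : ZMod r) ^ (2 * a) = 1 := by
    rw [mul_comm, pow_mul, h1']
    norm_num
  have h3 : i ∣ 2 * a := by rw [hi]; exact orderOf_dvd_of_pow_eq_one h2
  obtain ⟨N, hN⟩ := h3
  refine ⟨N, ?_, hN.symm⟩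
  by_contra hne
  obtain ⟨c, rfl⟩ : ∃ c, N = 2 * c := ⟨N / 2, by omega⟩
  have ha : a = i * c := by
    have : 2 * a = 2 * (i * c) := by rw [hN]; ring
    omega
  have h4 : ((q : ℕ) : ZMod r) ^ a = 1 := by
    rw [ha, pow_mul, hi, pow_orderOf_eq_one, one_pow]
  rw [h4] at h1'
  have h5 : ((2 : ℕ) : ZMod r) = 0 := by
    push_cast
    linear_combination h1'
  have h6 : r ∣ 2 := (ZMod.natCast_eq_zero_iff _ _).mp h5
  have h7 : r ≤ 2 := Nat.le_of_dvd (by norm_num) h6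
  have h8 : 2 ≤ r := (Fact.out : r.Prime).two_le
  omega

theorem areven_dvd (q p : ℕ) (hp : p.Prime) (hq : ∃ f, 1 ≤ f ∧ q = p ^ f) (d e m M : ℕ)
    (he : e = 0 ∨ e = 1)
    (hM : M * ∏ j ∈ Finset.range m, (q ^ m - q ^ j)
      = ∏ j ∈ Finset.range m, (q ^ j *
        (if e = 0 then (q ^ (d - j) - 1) * (q ^ (d - j - 1) + 1)
          else (q ^ (d - j) + 1) * (q ^ (d - j - 1) - 1))))
    (r : ℕ) (hr : r.Prime) (hr2 : r ≠ 2) (hrp : r ≠ p) (hrM : r ∣ M) (i : ℕ)
    (hi : i = orderOf ((q : ℕ) : ZMod r)) :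
    ∃ j, j < m ∧ ∃ N, ((N + e) % 2 = 0 ∧ i * N = 2 * (d - j)) ∨
      ((N + e) % 2 = 1 ∧ i * N = 2 * (d - j - 1)) := by
  have : Fact r.Prime := ⟨hr⟩
  obtain ⟨f, hf1, rfl⟩ := hq
  have hq1 : 1 ≤ p ^ f := Nat.one_le_pow _ _ hp.pos
  have hdvd : r ∣ ∏ j ∈ Finset.range m, ((p ^ f) ^ j *
        (if e = 0 then ((p ^ f) ^ (d - j) - 1) * ((p ^ f) ^ (d - j - 1) + 1)
          else ((p ^ f) ^ (d - j) + 1) * ((p ^ f) ^ (d - j - 1) - 1))) := by
    rw [← hM]
    exact dvd_mul_of_dvd_left hrM _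
  obtain ⟨j, hj, hjd⟩ := (Prime.dvd_finsetProd_iff hr.prime _).mp hdvd
  refine ⟨j, Finset.mem_range.mp hj, ?_⟩
  rcases (Nat.Prime.dvd_mul hr).mp hjd with h | h
  · exfalso
    have h1 : r ∣ p := hr.dvd_of_dvd_pow (hr.dvd_of_dvd_pow h)
    exact hrp ((Nat.prime_dvd_prime_iff_eq hr hp).mp h1)
  · rcases he with rfl | rfl
    · rw [if_pos rfl] at h
      rcases (Nat.Prime.dvd_mul hr).mp h with h | h
      · obtain ⟨N, hN1, hN2⟩ := areven_pow_sub _ r _ i hq1 hi h
        exact ⟨N, Or.inl ⟨by omega, hN2⟩⟩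
      · obtain ⟨N, hN1, hN2⟩ := areven_pow_add _ r _ i hr2 hi h
        exact ⟨N, Or.inr ⟨by omega, hN2⟩⟩
    · rw [if_neg one_ne_zero] at h
      rcases (Nat.Prime.dvd_mul hr).mp h with h | h
      · obtain ⟨N, hN1, hN2⟩ := areven_pow_add _ r _ i hr2 hi h
        exact ⟨N, Or.inl ⟨by omega, hN2⟩⟩
      · obtain ⟨N, hN1, hN2⟩ := areven_pow_sub _ r _ i hq1 hi h
        exact ⟨N, Or.inr ⟨by omega, hN2⟩⟩

/-- TQ-AREVEN: the arithmetic for `i` even -/
theorem arith_even (q p : ℕ) (hp : p.Prime) (hq : ∃ f, 1 ≤ f ∧ q = p ^ f) (d e m M : ℕ)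
    (he : e = 0 ∨ e = 1) (hm : 1 ≤ m) (hmd : m + 1 ≤ d)
    (hM : M * ∏ j ∈ Finset.range m, (q ^ m - q ^ j)
      = ∏ j ∈ Finset.range m, (q ^ j *
        (if e = 0 then (q ^ (d - j) - 1) * (q ^ (d - j - 1) + 1)
          else (q ^ (d - j) + 1) * (q ^ (d - j - 1) - 1))))
    (r : ℕ) (hr : r.Prime) (hr2 : r ≠ 2) (hrp : r ≠ p) (hrM : r ∣ M) (i : ℕ)
    (hi : i = orderOf ((q : ℕ) : ZMod r)) (hie : Even i) :
    (∀ N, 1 ≤ N → i * N ≤ 2 * d → (i * N = 2 * d → (N + e) % 2 = 0) →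
        ∃ a b, a + b * i = m ∧ (b = 0 ∨ 2 * b + (r - 1) / i ≤ N + 1) ∧
          2 * a + 2 * ((N + e) % 2) + i * N ≤ 2 * d) ↔
      (i ≤ m ∧ (r - 1) / i + 2 * (m / i) ≤ (2 * d) / i ∧
        ((2 * (m % i) ≤ i ∧ (2 * d) % i = 0 ∧ ((2 * d) / i + e) % 2 = 1 ∧
            (r - 1) / i + 2 * (m / i) < (2 * d) / i) ∨
          (2 * (m % i) ≤ (2 * d) % i ∧ ((2 * d) / i + e) % 2 = 0) ∨
          (2 * (m % i) < (2 * d) % i ∧ ((2 * d) / i + e) % 2 = 1))) := by
  have : Fact r.Prime := ⟨hr⟩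
  have hqr : ((q : ℕ) : ZMod r) ≠ 0 := by
    intro h0
    obtain ⟨f, hf1, rfl⟩ := hq
    have h1 : r ∣ p ^ f := (ZMod.natCast_eq_zero_iff _ _).mp h0
    exact hrp ((Nat.prime_dvd_prime_iff_eq hr hp).mp (hr.dvd_of_dvd_pow h1))
  have hipos : 0 < i := by
    rw [hi]
    exact orderOf_pos_iff.mpr (isOfFinOrder_iff_pow_eq_one.mpr
      ⟨r - 1, by have := hr.two_le; omega, ZMod.pow_card_sub_one_eq_one hqr⟩)
  have hi2 : 2 ≤ i := by
    obtain ⟨c, hc⟩ := hie
    omega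
  by_cases him : i ≤ m
  · have hcomb := areven_comb i ((r - 1) / i) d m e ((2 * d) / i) ((2 * d) % i) (m / i) (m % i)
      he hi2 hie him hmd (Nat.div_add_mod _ _) (Nat.mod_lt _ hipos) (Nat.div_add_mod _ _)
      (Nat.mod_lt _ hipos)
    rw [hcomb]
    exact ⟨fun h => ⟨him, h⟩, fun h => h.2⟩
  · constructor
    · intro H
      exfalso
      obtain ⟨j, hj, N, hN⟩ := areven_dvd q p hp hq d e m M he hM r hr hr2 hrp hrM i hi
      have hN1 : 1 ≤ N := by
        rcases Nat.eq_zero_or_pos N with h0 | h0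
        · subst h0
          rw [Nat.mul_zero] at hN
          omega
        · exact h0
      rcases hN with ⟨hpar, hN⟩ | ⟨hpar, hN⟩
      · obtain ⟨a, b, hab, -, hineq⟩ := H N hN1 (by omega) (fun _ => hpar)
        have hb : b = 0 := by
          by_contra hb
          have : i ≤ b * i := Nat.le_mul_of_pos_left i (Nat.pos_of_ne_zero hb)
          omega
        subst hb
        rw [hpar] at hineq
        omega
      · obtain ⟨a, b, hab, -, hineq⟩ := H N hN1 (by omega) (fun h => by omega)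
        have hb : b = 0 := by
          by_contra hb
          have : i ≤ b * i := Nat.le_mul_of_pos_left i (Nat.pos_of_ne_zero hb)
          omega
        subst hb
        rw [hpar] at hineq
        omega
    · intro h
      exact absurd h.1 him

end Cfsg.Agent.Lib.Helper59.Tq
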