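import Cfsg.Agent.Lib.Helper40.C2gTorus
import Cfsg.Agent.Lib.Helper44.C2gA2
import Cfsg.Agent.Lib.Helper75.C2gGen
import Cfsg.Agent.Lib.Helper36.ChevHProd
import Cfsg.Agent.Lib.Helper36.ChevFieldMap

/-! # C2g-R2 sub-hive (owner helper67; S2405): leaf C2G-G2C `g2_finish_char3` (helper72)

`G2` in characteristic 3: `h_11(c^3) = h_8(c) h_9(c)`, the Frobenius is onto, so `h_11(k) ∈ K0`, `x_10(1) ∈ K0`, and
`h_7(c) x_10(1) h_7(c)⁻¹ = x_10(c^3)` fills `X_10`; the Coxeter orbit gives all long root groups. -/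

set_option autoImplicit false

namespace Cfsg.Agent.Lib.Helper67.C2g

open Cfsg Cfsg.Lie Cfsg.Agent.Lib.Helper36 Cfsg.Agent.Lib.Helper40.C2g

/-- aux: the torus identity `h_11(c^3) = h_8(c) h_9(c)` in `G2` (coroots `[1,2]`, `[1,3]`, `[2,3]`). -/
theorem g2c_torus (F : Type*) [Field F] (c : F) (hc : c ≠ 0) :
    hGL chevG2 hG2 F 11 (c ^ 3) = hGL chevG2 hG2 F 8 c * hGL chevG2 hG2 F 9 c := by
  have hc3 : c ^ 3 ≠ 0 := pow_ne_zero _ hc
  apply Units.ext
  rw [Units.val_mul, hGL_coe, hGL_coe, hGL_coe,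
    (hMat_all chevG2 hG2 11 (by decide) (c ^ 3) hc3).1, (hMat_all chevG2 hG2 8 (by decide) c hc).1,
    (hMat_all chevG2 hG2 9 (by decide) c hc).1,
    hDiag_eq_hProd chevG2 F 11 (c ^ 3) hc3, hDiag_eq_hProd chevG2 F 8 c hc, hDiag_eq_hProd chevG2 F 9 c hc,
    hProd_mul]
  apply hProd_congr
  intro i hi
  have hi2 : i < 2 := hi
  have e110 : cor chevG2 11 0 = 1 := by decide
  have e111 : cor chevG2 11 1 = 2 := by decide
  have e80 : cor chevG2 8 0 = 1 := by decide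
  have e81 : cor chevG2 8 1 = 3 := by decide
  have e90 : cor chevG2 9 0 = 2 := by decide
  have e91 : cor chevG2 9 1 = 3 := by decide
  interval_cases i
  · show (c ^ 3) ^ cor chevG2 11 0 = c ^ cor chevG2 8 0 * c ^ cor chevG2 9 0
    rw [e110, e80, e90]
    norm_cast
    ring
  · show (c ^ 3) ^ cor chevG2 11 1 = c ^ cor chevG2 8 1 * c ^ cor chevG2 9 1
    rw [e111, e81, e91]
    norm_cast
    ring

/-- aux: in a finite field with `3 = 0` every element is a cube. -/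
theorem g2c_cube (F : Type*) [Field F] [Finite F] (h3 : (3 : F) = 0) (u : F) : ∃ c : F, c ^ 3 = u := by
  have hinj : Function.Injective (fun x : F => x ^ 3) := by
    intro x y hxy
    have hxy' : x ^ 3 = y ^ 3 := hxy
    have h : (x - y) ^ 3 = x ^ 3 - y ^ 3 - 3 * (x * y * (x - y)) := by ring
    rw [hxy', h3, zero_mul, sub_self, sub_zero] at h
    exact sub_eq_zero.1 (pow_eq_zero_iff (by norm_num) |>.1 h)
  exact (Finite.injective_iff_surjective.1 hinj) u

/-- LEAF C2G-G2C. -/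
theorem g2_finish_char3 (F : Type*) [Field F] [Fintype F] (h3 : (3 : F) = 0) (k : F) (hk : k ≠ 0) (K0 : Subgroup (GL chevG2.Idx F))
    (hn : coxN chevG2 hG2 F ∈ K0) (hs : ∀ s ∈ [2, 3, 4, 7, 8, 9], PX chevG2 hG2 F K0 s)
    (hg : hGL chevG2 hG2 F 11 k * xGL chevG2 hG2 F 10 1 ∈ K0) : chevG2.group F ≤ K0 := by
  have hP2 : PX chevG2 hG2 F K0 2 := hs 2 (by simp)
  have hP3 : PX chevG2 hG2 F K0 3 := hs 3 (by simp)
  have hP4 : PX chevG2 hG2 F K0 4 := hs 4 (by simp)
  have hP7 : PX chevG2 hG2 F K0 7 := hs 7 (by simp)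
  have hP8 : PX chevG2 hG2 F K0 8 := hs 8 (by simp)
  have hP9 : PX chevG2 hG2 F K0 9 := hs 9 (by simp)
  have n8 : chevG2.neg 8 = 3 := by decide
  have n9 : chevG2.neg 9 = 2 := by decide
  have n7 : chevG2.neg 7 = 4 := by decide
  -- torus elements of the short roots
  have hh8 : ∀ c : F, hGL chevG2 hG2 F 8 c ∈ K0 :=
    hGL_mem_of_PX chevG2 hG2 F K0 8 hP8 (by rw [n8]; exact hP3)
  have hh9 : ∀ c : F, hGL chevG2 hG2 F 9 c ∈ K0 :=
    hGL_mem_of_PX chevG2 hG2 F K0 9 hP9 (by rw [n9]; exact hP2)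
  have hh7 : ∀ c : F, hGL chevG2 hG2 F 7 c ∈ K0 :=
    hGL_mem_of_PX chevG2 hG2 F K0 7 hP7 (by rw [n7]; exact hP4)
  -- `h_11(k) ∈ K0`
  obtain ⟨c0, hc0⟩ := g2c_cube F h3 k
  have hc0ne : c0 ≠ 0 := by
    rintro rfl
    apply hk
    rw [← hc0]
    norm_num
  have hh11 : hGL chevG2 hG2 F 11 k ∈ K0 := by
    rw [← hc0, g2c_torus F c0 hc0ne]
    exact mul_mem (hh8 c0) (hh9 c0)
  -- `x_10(1) ∈ K0`
  have hx10 : xGL chevG2 hG2 F 10 1 ∈ K0 := by
    have : xGL chevG2 hG2 F 10 1 =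
        (hGL chevG2 hG2 F 11 k)⁻¹ * (hGL chevG2 hG2 F 11 k * xGL chevG2 hG2 F 10 1) := by group
    rw [this]
    exact mul_mem (inv_mem hh11) hg
  -- `X_10 ≤ K0`
  have hP10 : PX chevG2 hG2 F K0 10 := by
    intro u
    by_cases hu : u = 0
    · rw [hu, xGL_zero']
      exact one_mem _
    · obtain ⟨c, hc⟩ := g2c_cube F h3 u
      have hcne : c ≠ 0 := by
        rintro rfl
        apply hu
        rw [← hc]
        norm_num
      have hconj := hGL_conj_xGL chevG2 hG2 F 7 10 (by decide) (by decide) c hcne 1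
      have hgc : gc chevG2 7 10 = 3 := by decide
      rw [hgc, mul_one] at hconj
      have e : c ^ (3 : ℤ) = u := by
        rw [← hc]
        norm_cast
      rw [e] at hconj
      rw [← hconj]
      exact mul_mem (mul_mem (hh7 c) hx10) (inv_mem (hh7 c))
  -- the long Coxeter orbit 10 → 11 → 6 → 1 → 0 → 5
  have c10 : coxRoot chevG2 10 = 11 := by decide
  have c11 : coxRoot chevG2 11 = 6 := by decide
  have c6 : coxRoot chevG2 6 = 1 := by decide
  have c1 : coxRoot chevG2 1 = 0 := by decide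
  have c0' : coxRoot chevG2 0 = 5 := by decide
  have hP11 : PX chevG2 hG2 F K0 11 := by
    have := PX_cox chevG2 hG2 F K0 hn 10 (by decide) hP10
    rwa [c10] at this
  have hP6 : PX chevG2 hG2 F K0 6 := by
    have := PX_cox chevG2 hG2 F K0 hn 11 (by decide) hP11
    rwa [c11] at this
  have hP1 : PX chevG2 hG2 F K0 1 := by
    have := PX_cox chevG2 hG2 F K0 hn 6 (by decide) hP6
    rwa [c6] at this
  have hP0 : PX chevG2 hG2 F K0 0 := by
    have := PX_cox chevG2 hG2 F K0 hn 1 (by decide) hP1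
    rwa [c1] at this
  have hP5 : PX chevG2 hG2 F K0 5 := by
    have := PX_cox chevG2 hG2 F K0 hn 0 (by decide) hP0
    rwa [c0'] at this
  apply group_le chevG2 hG2 F K0
  intro r hr
  have hr12 : r < 12 := hr
  interval_cases r
  · exact hP0
  · exact hP1
  · exact hP2
  · exact hP3
  · exact hP4
  · exact hP5
  · exact hP6
  · exact hP7
  · exact hP8
  · exact hP9
  · exact hP10
  · exact hP11

end Cfsg.Agent.Lib.Helper67.C2g
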