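import Mathlib
import Cfsg.Agent.Lib.Helper6.Uni.Defs
import Cfsg.Agent.Lib.Helper19.UniA2

/-!
# S2316 SpU hive (helper70), leaf SPU-CNT: `|U| |B| ≤ |V| |B n B|` when `Stab_U(nB) ≤ V`
-/

set_option autoImplicit false

namespace Cfsg.Agent.Lib.Helper70.SpU

open Matrix Cfsg Cfsg.Agent.Lib.Helper6 Cfsg.Agent.Lib.Helper6.Uni

universe u

/-- SPU-CNT. `Uni.a2_C_eq` (Helper19.UniA2): `B n B` is the preimage of the `U`-orbit of `n B` in `L ⧸ B`, so
`|B n B| = |B| |U : Stab_U(nB)|`, and `Stab_U(nB) = {g ∈ U | n⁻¹ g n ∈ B} ≤ V`. -/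
theorem card_le_of_stab {L : Type u} [Group L] [Finite L] (Q : Cfsg.BNPair L) (U V : Subgroup L)
    (hUB : U ≤ Q.B) (hUn : Q.B ≤ Subgroup.normalizer (U : Set L)) (hUH : U ⊔ (Q.B ⊓ Q.N) = Q.B)
    (n : L) (hn : n ∈ Q.N) (h : ∀ g ∈ U, n⁻¹ * g * n ∈ Q.B → g ∈ V) :
    Nat.card U * Nat.card Q.B ≤ Nat.card V * Nat.card (C Q n) := by
  classical
  set x : L ⧸ Q.B := QuotientGroup.mk n with hx
  have h1 : Nat.card (C Q n) = Nat.card (MulAction.orbit U x) * Nat.card Q.B := by
    rw [a2_C_eq Q U hUB hUn hUH n hn,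
      Nat.card_congr (QuotientGroup.preimageMkEquivSubgroupProdSet Q.B _), Nat.card_prod, mul_comm]
  have h2 : Nat.card U = Nat.card (MulAction.orbit U x) * Nat.card (MulAction.stabilizer U x) := by
    rw [Nat.card_congr (MulAction.orbitEquivQuotientStabilizer U x)]
    exact Subgroup.card_eq_card_quotient_mul_card_subgroup _
  have hmem : ∀ s : MulAction.stabilizer U x, ((s : U) : L) ∈ V := by
    rintro ⟨⟨s, hsU⟩, hs⟩
    apply h s hsU
    rw [MulAction.mem_stabilizer_iff] at hs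
    change s • (QuotientGroup.mk n : L ⧸ Q.B) = QuotientGroup.mk n at hs
    rw [MulAction.Quotient.smul_mk, smul_eq_mul, QuotientGroup.eq] at hs
    have h3 : n⁻¹ * s * n = ((s * n)⁻¹ * n)⁻¹ := by group
    show n⁻¹ * s * n ∈ Q.B
    rw [h3]
    exact Q.B.inv_mem hs
  have h3 : Nat.card (MulAction.stabilizer U x) ≤ Nat.card V := by
    apply Nat.card_le_card_of_injective (fun s : MulAction.stabilizer U x => (⟨((s : U) : L), hmem s⟩ : V))
    intro s t hst
    have := congrArg Subtype.val hst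
    exact Subtype.ext (Subtype.ext this)
  calc Nat.card U * Nat.card Q.B
      = Nat.card (MulAction.orbit U x) * Nat.card (MulAction.stabilizer U x) * Nat.card Q.B := by
        rw [h2]
    _ ≤ Nat.card (MulAction.orbit U x) * Nat.card V * Nat.card Q.B :=
        Nat.mul_le_mul_right _ (Nat.mul_le_mul_left _ h3)
    _ = Nat.card V * Nat.card (C Q n) := by rw [h1]; ring

end Cfsg.Agent.Lib.Helper70.SpU
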