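import Cfsg.Agent.Lib.Helper72.AutT2c
import Cfsg.Agent.Lib.Helper18.StSides

/-! # Small facts on `U`, `V`, `B` and the longest element (helper72; used by AutT1 and AutO1) -/

set_option autoImplicit false

namespace Cfsg.Agent.Lib.Helper72.Au

open Cfsg Cfsg.Lie Cfsg.Agent.Lib.Helper36 Cfsg.Agent.Lib.Helper18 Cfsg.Agent.Lib.Helper18.Au

section
variable (D : ChevalleyDatum) (hD : D ∈ [chevG2, chevB2, chevD4, chevF4, chevE6, chevE7, chevE8])
variable (F : Type*) [Field F]

include hD in
theorem borel_le_normalizer_pos :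
    D.borelSubgroup F ≤ Subgroup.normalizer (D.posUnipotent F : Set (GL D.Idx F)) := by
  rw [← normalizer_pos_inf_group D hD F]
  exact inf_le_left

include hD in
theorem conj_mem_pos_iff (c : GL D.Idx F) (hc : c ∈ D.borelSubgroup F) (u : GL D.Idx F) :
    u ∈ D.posUnipotent F ↔ c * u * c⁻¹ ∈ D.posUnipotent F :=
  Subgroup.mem_normalizer_iff.1 (borel_le_normalizer_pos D hD F hc) u

include hD in
/-- `|V| = |U|` -/
theorem card_neg_eq_card_pos : Nat.card (D.negUnipotent F) = Nat.card (D.posUnipotent F) := by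
  have hinj : Function.Injective (MulAut.conj (nWordGL D hD F (w0word D))).toMonoidHom :=
    (MulAut.conj (nWordGL D hD F (w0word D))).injective
  rw [← posUnipotent_map_conj D hD F, Subgroup.card_map_of_injective hinj]

include hD in
theorem negUnipotent_le_group : D.negUnipotent F ≤ D.group F := by
  rw [← posUnipotent_map_conj D hD F]
  rintro _ ⟨u, hu, rfl⟩
  have hn0 : nWordGL D hD F (w0word D) ∈ D.group F :=
    monomial_le_group D hD F (nWordGL_mem D hD F _ (chkW0_spec D hD).1)
  exact mul_mem (mul_mem hn0 (posUnipotent_le_group D hD F hu)) (inv_mem hn0)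

include hD in
/-- the longest element maps negative roots to positive roots -/
theorem wRoot_w0_pos (r : ℕ) (hr : D.IsNegRoot r) : D.IsPosRoot (wRoot D (w0word D) r) := by
  have hl := (chkW0_spec D hD).1
  have hs : D.IsPosRoot (D.neg r) := Cfsg.Agent.Lib.Helper36.isPosRoot_neg D hD r hr
  have e : wRoot D (w0word D) r = D.neg (wRoot D (w0word D) (D.neg r)) := by
    rw [← Cfsg.Agent.Lib.Helper36.wRoot_neg D hD _ hl _ hs.1, neg_neg_root D hD r hr.1]
  rw [e]
  exact Cfsg.Agent.Lib.Helper36.isPosRoot_neg D hD _ (wRoot_w0_neg D hD _ hs)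

include hD in
/-- `n₀ V n₀⁻¹ = U` -/
theorem negUnipotent_map_conj [Finite F] :
    (D.negUnipotent F).map (MulAut.conj (nWordGL D hD F (w0word D))).toMonoidHom = D.posUnipotent F := by
  classical
  haveI : Fintype F := Fintype.ofFinite F
  have hl := (chkW0_spec D hD).1
  have hle : (D.negUnipotent F).map (MulAut.conj (nWordGL D hD F (w0word D))).toMonoidHom ≤
      D.posUnipotent F := by
    unfold ChevalleyDatum.negUnipotent
    rw [MonoidHom.map_closure, Subgroup.closure_le]
    rintro _ ⟨x, ⟨r, t, hr, hx⟩, rfl⟩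
    have ex : x = xGL D hD F r t := Units.ext (by rw [hx, xGL_coe])
    obtain ⟨ε, hε, hcj⟩ := nWordGL_conj D hD F (w0word D) hl r hr.1
    show nWordGL D hD F (w0word D) * x * (nWordGL D hD F (w0word D))⁻¹ ∈ D.posUnipotent F
    rw [ex, hcj t]
    exact xGL_mem_pos D hD F _ (wRoot_w0_pos D hD r hr) _
  have hinj : Function.Injective (MulAut.conj (nWordGL D hD F (w0word D))).toMonoidHom :=
    (MulAut.conj (nWordGL D hD F (w0word D))).injective
  apply Subgroup.eq_of_le_of_card_ge hle
  rw [Subgroup.card_map_of_injective hinj, card_neg_eq_card_pos D hD F]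

end

end Cfsg.Agent.Lib.Helper72.Au
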