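import Cfsg.Agent.Lib.Helper18.AutDefs
import Cfsg.Agent.Lib.Helper36.ChevBN
import Cfsg.Agent.Lib.Helper6.BN
import Cfsg.Agent.S1045

/-! # S2156 split, T2a: a subgroup strictly between `B` and `G` contains a negative fundamental root subgroup
(helper72, for helper18) -/

set_option autoImplicit false

namespace Cfsg.Agent.Lib.Helper72.Au

open Cfsg Cfsg.Lie Cfsg.Agent.Lib.Helper36 Cfsg.Agent.Lib.Helper18 Cfsg.Agent.Lib.Helper18.Au

section
variable (D : ChevalleyDatum) (hD : D ∈ [chevG2, chevB2, chevD4, chevF4, chevE6, chevE7, chevE8])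
variable (F : Type*) [Field F]

include hD in
/-- `x_{-p_i}(t)` lies in any subgroup containing `U` and `n_i`. -/
theorem xneg_mem_of_n_mem (P : Subgroup (GL D.Idx F)) (hUP : D.posUnipotent F ≤ P) (i : ℕ) (hi : i < D.rank)
    (hn : nGL D hD F (D.simple i) 1 ∈ P) (t : F) : xGL D hD F (D.neg (D.simple i)) t ∈ P := by
  have hp := (chkN2_spec D (chkN2_all D hD) i hi).1
  have h := xGL_reflect D hD F i (D.simple i) hi hp t
  rw [reflectRoot_simple] at h
  rw [h]
  exact mul_mem (mul_mem hn (hUP (xGL_mem_pos D hD F _ (isPosRoot_simple D hD i hi) _))) (inv_mem hn)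

include hD in
/-- T2a: a subgroup strictly between `B` and `G` contains a negative fundamental root subgroup. -/
theorem T2a_overgroup [Finite F] (P : Subgroup (GL D.Idx F)) (hBP : D.borelSubgroup F ≤ P) (hPG : P ≤ D.group F)
    (hne : P ≠ D.borelSubgroup F) :
    ∃ i : Fin D.rank, ∀ t : F, xGL D hD F (D.neg (D.simple i)) t ∈ P := by
  have h45 : ∀ i < D.rank, H45 D F i := fun i hi => Cfsg.Agent.S1045.result D hD i hi
  obtain ⟨Pbn, hB, hN, hS⟩ := exists_bnPair D hD F h45
  set M : Subgroup ↥(D.group F) := P.subgroupOf (D.group F) with hM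
  have hBM : Pbn.B ≤ M := by
    rw [hB]
    intro g hg
    rw [Subgroup.mem_subgroupOf] at hg ⊢
    exact hBP hg
  have hpar := Cfsg.Agent.Lib.Helper6.overgroup_eq_parabolic (P := Pbn) hBM
  by_cases hemp : (Pbn.S ∩ (M : Set ↥(D.group F))) = ∅
  · exfalso
    rw [hemp] at hpar
    have hMB : M = Pbn.B := by
      rw [hpar]
      unfold BNPair.parabolic
      rw [Subgroup.closure_empty, sup_bot_eq]
    apply hne
    apply le_antisymm _ hBP
    intro g hg
    have hg' : (⟨g, hPG hg⟩ : ↥(D.group F)) ∈ M := Subgroup.mem_subgroupOf.2 hg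
    rw [hMB, hB, Subgroup.mem_subgroupOf] at hg'
    exact hg'
  · obtain ⟨s, hsS, hsM⟩ := Set.nonempty_iff_ne_empty.2 hemp
    rw [hS] at hsS
    obtain ⟨i, hi, hs⟩ := hsS
    have hsn : (s : GL D.Idx F) = nGL D hD F (D.simple i) 1 := Units.ext (by rw [hs, nGL_coe])
    have hnP : nGL D hD F (D.simple i) 1 ∈ P := by
      rw [← hsn]
      exact Subgroup.mem_subgroupOf.1 hsM
    exact ⟨⟨i, hi⟩, fun t => xneg_mem_of_n_mem D hD F P (le_trans (pos_le_borel D F) hBP) i hi hnP t⟩

end

end Cfsg.Agent.Lib.Helper72.Au
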