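import Cfsg.Agent.Lib.Helper18.AutDefs
import Cfsg.Agent.Lib.Helper36.ChevCells
import Cfsg.Agent.Lib.Helper36.ChevW0d
import Cfsg.Agent.S1045

/-! # S2156 split, T2b: `P_i ∩ V = X_{-p_i}` (helper72, for helper18) -/

set_option autoImplicit false

namespace Cfsg.Agent.Lib.Helper72.Au

open Cfsg Cfsg.Lie Cfsg.Agent.Lib.Helper36 Cfsg.Agent.Lib.Helper18 Cfsg.Agent.Lib.Helper18.Au

section
variable (D : ChevalleyDatum) (hD : D ∈ [chevG2, chevB2, chevD4, chevF4, chevE6, chevE7, chevE8])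
variable (F : Type*) [Field F]

/-- membership in `B ∪ B n B` -/
def InBorB (n g : GL D.Idx F) : Prop := g ∈ D.borelSubgroup F ∨ InBnB D F g n

include hD in
/-- `P_i = B ∪ B n_i B`. -/
theorem mem_parabolic_single (i : ℕ) (hi : i < D.rank) (g : GL D.Idx F)
    (hg : g ∈ D.parabolicSubgroup F {i}) :
    g ∈ D.borelSubgroup F ∨ InBnB D F g (nGL D hD F (D.simple i) 1) := by
  have h45 : H45 D F i := Cfsg.Agent.S1045.result D hD i hi
  have hsq : nGL D hD F (D.simple i) 1 * nGL D hD F (D.simple i) 1 ∈ D.diagonalSubgroup F :=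
    nS_sq_mem_diag D hD F i hi
  have hQB : ∀ b ∈ D.borelSubgroup F, ∀ g, InBorB D F (nGL D hD F (D.simple i) 1) g →
      InBorB D F (nGL D hD F (D.simple i) 1) (b * g) := by
    rintro b hb g (h | ⟨b1, hb1, b2, hb2, rfl⟩)
    · exact Or.inl (mul_mem hb h)
    · exact Or.inr ⟨b * b1, mul_mem hb hb1, b2, hb2, by group⟩
  have hQn : ∀ g, InBorB D F (nGL D hD F (D.simple i) 1) g →
      InBorB D F (nGL D hD F (D.simple i) 1) (nGL D hD F (D.simple i) 1 * g) := by
    rintro g (h | ⟨b1, hb1, b2, hb2, rfl⟩)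
    · exact Or.inr ⟨1, one_mem _, g, h, by group⟩
    · have e0 : nGL D hD F (D.simple i) 1 * (b1 * nGL D hD F (D.simple i) 1 * b2) =
          (nGL D hD F (D.simple i) 1 * b1 * nGL D hD F (D.simple i) 1) * b2 := by group
      rcases bn4_rank1 D hD F i hi h45 b1 hb1 with h0 | ⟨c1, hc1, c2, hc2, e⟩
      · refine Or.inl ?_
        rw [e0]
        exact mul_mem h0 hb2
      · refine Or.inr ⟨c1, hc1, c2 * b2, mul_mem hc2 hb2, ?_⟩
        rw [e0, e]
        group
  have hQn' : ∀ g, InBorB D F (nGL D hD F (D.simple i) 1) g →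
      InBorB D F (nGL D hD F (D.simple i) 1) ((nGL D hD F (D.simple i) 1)⁻¹ * g) := by
    intro g hg
    have e : (nGL D hD F (D.simple i) 1)⁻¹ * g =
        (nGL D hD F (D.simple i) 1 * nGL D hD F (D.simple i) 1)⁻¹ * (nGL D hD F (D.simple i) 1 * g) := by
      group
    rw [e]
    exact hQB _ (inv_mem (diagonal_le_borel D F hsq)) _ (hQn g hg)
  have key : ∀ x ∈ D.parabolicSubgroup F {i}, ∀ g, InBorB D F (nGL D hD F (D.simple i) 1) g →
      InBorB D F (nGL D hD F (D.simple i) 1) (x * g) := by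
    intro x hx
    unfold ChevalleyDatum.parabolicSubgroup at hx
    rw [← Subgroup.closure_eq (D.borelSubgroup F), ← Subgroup.closure_union] at hx
    induction hx using Subgroup.closure_induction'' with
    | mem x hx =>
      intro g hg
      rcases hx with hx | ⟨j, hj, -, hx⟩
      · exact hQB x hx g hg
      · rw [Set.mem_singleton_iff] at hj
        have ex : x = nGL D hD F (D.simple i) 1 := Units.ext (by rw [hx, hj, nGL_coe])
        rw [ex]
        exact hQn g hg
    | inv_mem x hx =>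
      intro g hg
      rcases hx with hx | ⟨j, hj, -, hx⟩
      · exact hQB x⁻¹ (inv_mem hx) g hg
      · rw [Set.mem_singleton_iff] at hj
        have ex : x = nGL D hD F (D.simple i) 1 := Units.ext (by rw [hx, hj, nGL_coe])
        rw [ex]
        exact hQn' g hg
    | one =>
      intro g hg
      rwa [one_mul]
    | mul x y _ _ hx hy =>
      intro g hg
      rw [mul_assoc]
      exact hx _ (hy g hg)
  have := key g hg 1 (Or.inl (one_mem _))
  rwa [mul_one] at this

include hD in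
/-- `B n_i B = ⋃_t B n_i x_{p_i}(t)`. -/
theorem cell_single_form (i : ℕ) (hi : i < D.rank) (g : GL D.Idx F)
    (hg : InBnB D F g (nGL D hD F (D.simple i) 1)) :
    ∃ b ∈ D.borelSubgroup F, ∃ t : F, g = b * nGL D hD F (D.simple i) 1 * xGL D hD F (D.simple i) t := by
  have h45 : H45 D F i := Cfsg.Agent.S1045.result D hD i hi
  have hp := (chkN2_spec D (chkN2_all D hD) i hi).1
  set n := nGL D hD F (D.simple i) 1 with hn
  obtain ⟨b1, hb1, b2, hb2, rfl⟩ := hg
  obtain ⟨u, hu, h, hh, rfl⟩ := (mem_borel_iff D hD F b2).1 hb2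
  obtain ⟨u', hu', t, rfl⟩ := U_decomp D hD F i h45 u hu
  obtain ⟨t', ht'⟩ := xGL_mul_diag D hD F h hh (D.simple i) hp t
  have hnN : n ∈ D.monomialSubgroup F := nS_mem_monomial D hD F i hi
  have hU1 : n * u' * n⁻¹ ∈ D.posUnipotent F :=
    Usub_le D F i ((Subgroup.mem_normalizer_iff.1 (nGL_mem_normalizer_Usub D hD F i h45) u').1 hu')
  have hH1 : n * h * n⁻¹ ∈ D.diagonalSubgroup F := conj_mem_diag_of_mem_monomial D hD F _ h hnN hh
  refine ⟨b1 * (n * u' * n⁻¹) * (n * h * n⁻¹),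
    mul_mem (mul_mem hb1 (pos_le_borel D F hU1)) (diagonal_le_borel D F hH1), t', ?_⟩
  calc b1 * n * (u' * xGL D hD F (D.simple i) t * h)
      = b1 * n * u' * (xGL D hD F (D.simple i) t * h) := by group
    _ = b1 * n * u' * (h * xGL D hD F (D.simple i) t') := by rw [ht']
    _ = _ := by group

include hD in
/-- rank one: `n_i x_{p_i}(t) ∈ B x_{-p_i}(t⁻¹)` for `t ≠ 0`. -/
theorem n_mul_x_eq (i : ℕ) (hi : i < D.rank) (t : F) (ht : t ≠ 0) :
    ∃ b ∈ D.borelSubgroup F,
      nGL D hD F (D.simple i) 1 * xGL D hD F (D.simple i) t = b * xGL D hD F (D.neg (D.simple i)) t⁻¹ := by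
  have hp := (chkN2_spec D (chkN2_all D hD) i hi).1
  have hpos := isPosRoot_simple D hD i hi
  have h1 := xGL_neg_eq D hD F (D.simple i) (-t⁻¹)
  simp only [neg_neg, inv_neg, inv_inv] at h1
  rw [nGL_eq_hGL_mul D hD F (D.simple i) (-t)] at h1
  refine ⟨(xGL D hD F (D.simple i) t * hGL D hD F (D.simple i) (-t))⁻¹,
    inv_mem (mul_mem (pos_le_borel D F (xGL_mem_pos D hD F _ hpos t))
      (diagonal_le_borel D F (hGL_mem_diag D hD F _ hp (-t) (neg_ne_zero.2 ht)))), ?_⟩
  rw [h1]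
  group

include hD in
theorem isNegRoot_neg_simple (i : ℕ) (hi : i < D.rank) : D.IsNegRoot (D.neg (D.simple i)) := by
  have hp := (chkN2_spec D (chkN2_all D hD) i hi).1
  have hf := wfFast_all D hD
  have hlt := wf_neg D (wf_all D hD) _ hp
  rw [isNegRoot_iff D hf _ hlt]
  intro j hj
  rw [cor_neg D hD _ hp j hj, cor_simple D hD i j hi hj]
  split_ifs <;> simp

include hD in
theorem xneg_mem_neg (i : ℕ) (hi : i < D.rank) (c : F) :
    xGL D hD F (D.neg (D.simple i)) c ∈ D.negUnipotent F :=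
  Subgroup.subset_closure ⟨_, c, isNegRoot_neg_simple D hD i hi, xGL_coe D hD F _ _⟩

include hD in
/-- `B n_i ∩ V = ∅`. -/
theorem borel_mul_n_not_mem_neg (i : ℕ) (hi : i < D.rank) (b : GL D.Idx F) (hb : b ∈ D.borelSubgroup F)
    (hV : b * nGL D hD F (D.simple i) 1 ∈ D.negUnipotent F) : False := by
  have h45 : ∀ i < D.rank, H45 D F i := fun i hi => Cfsg.Agent.S1045.result D hD i hi
  set n := nGL D hD F (D.simple i) 1 with hn
  set n0 := nWordGL D hD F (w0word D) with hn0d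
  have hl0 := (chkW0_spec D hD).1
  have hn0 : n0 ∈ D.monomialSubgroup F := nWordGL_mem D hD F _ hl0
  have hnN : n ∈ D.monomialSubgroup F := nS_mem_monomial D hD F i hi
  rw [← posUnipotent_map_conj D hD F] at hV
  obtain ⟨u, hu, e⟩ := Subgroup.mem_map.1 hV
  have e' : n0 * u * n0⁻¹ = b * n := e
  have h1 : b * n * n0 ∈ cell D F (n * n0) := ⟨b, hb, 1, one_mem _, by group⟩
  have h2 : b * n * n0 ∈ cell D F n0 := ⟨1, one_mem _, u, pos_le_borel D F hu, by rw [← e']; group⟩
  have h3 := bruhat_unique' D hD F h45 (n * n0) n0 (b * n * n0) (mul_mem hnN hn0) hn0 h1 h2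
  have h4 := conj_mem_diag_of_mem_monomial D hD F n0 _ hn0 h3
  have e4 : n0 * ((n * n0)⁻¹ * n0) * n0⁻¹ = n⁻¹ := by group
  rw [e4] at h4
  have h5 := inv_mem h4
  rw [inv_inv] at h5
  exact nS_not_mem_diag D hD F i hi h5

include hD in
/-- T2b: `P_i ∩ V = X_{-p_i}`. -/
theorem T2b_inter [Finite F] (i : Fin D.rank) (g : GL D.Idx F) (hgV : g ∈ D.negUnipotent F)
    (hgP : g ∈ D.parabolicSubgroup F {(i : ℕ)}) :
    ∃ t : F, g = xGL D hD F (D.neg (D.simple i)) t := by
  have hi := i.2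
  rcases mem_parabolic_single D hD F i hi g hgP with hB | hC
  · have h : g ∈ D.borelSubgroup F ⊓ D.negUnipotent F := ⟨hB, hgV⟩
    rw [borel_inf_neg D hD F, Subgroup.mem_bot] at h
    exact ⟨0, by rw [h, Cfsg.Agent.Lib.Helper36.xGL_zero]⟩
  · obtain ⟨b, hb, t, rfl⟩ := cell_single_form D hD F i hi g hC
    by_cases ht : t = 0
    · exfalso
      subst ht
      rw [Cfsg.Agent.Lib.Helper36.xGL_zero, mul_one] at hgV
      exact borel_mul_n_not_mem_neg D hD F i hi b hb hgV
    · obtain ⟨b', hb', e⟩ := n_mul_x_eq D hD F i hi t ht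
      refine ⟨t⁻¹, ?_⟩
      have e1 : b * nGL D hD F (D.simple i) 1 * xGL D hD F (D.simple i) t =
          (b * b') * xGL D hD F (D.neg (D.simple i)) t⁻¹ := by
        rw [mul_assoc, e]
        group
      rw [e1] at hgV ⊢
      have h5 : b * b' ∈ D.borelSubgroup F ⊓ D.negUnipotent F := by
        refine ⟨mul_mem hb hb', ?_⟩
        have := mul_mem hgV (inv_mem (xneg_mem_neg D hD F i hi t⁻¹))
        rwa [mul_inv_cancel_right] at this
      rw [borel_inf_neg D hD F, Subgroup.mem_bot] at h5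
      rw [h5, one_mul]

end

end Cfsg.Agent.Lib.Helper72.Au
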