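import Cfsg.Agent.Lib.Helper72.AutT2a
import Cfsg.Agent.Lib.Helper72.AutT2b
import Cfsg.Agent.S1049

/-! # S2156 split, T2c: an automorphism preserving `U` and `V` permutes the negative fundamental root
subgroups (helper72, for helper18) -/

set_option autoImplicit false

namespace Cfsg.Agent.Lib.Helper72.Au

open Cfsg Cfsg.Lie Cfsg.Agent.Lib.Helper36 Cfsg.Agent.Lib.Helper18 Cfsg.Agent.Lib.Helper18.Au

section
variable (D : ChevalleyDatum) (hD : D ∈ [chevG2, chevB2, chevD4, chevF4, chevE6, chevE7, chevE8])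
variable (F : Type*) [Field F]

include hD in
/-- `B = N_G(U)` -/
theorem normalizer_pos_inf_group :
    Subgroup.normalizer (D.posUnipotent F : Set (GL D.Idx F)) ⊓ D.group F = D.borelSubgroup F := by
  have h := Cfsg.Agent.S1049.result (F := F) D hD ∅ (by intro j hj; exact absurd hj (Set.notMem_empty j))
  have e1 : D.unipotentRadical F ∅ = D.posUnipotent F := by
    unfold ChevalleyDatum.unipotentRadical ChevalleyDatum.posUnipotent
    congr 1
    ext g
    constructor
    · rintro ⟨r, t, hr, -, hg⟩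
      exact ⟨r, t, hr, hg⟩
    · rintro ⟨r, t, hr, hg⟩
      refine ⟨r, t, hr, ?_, hg⟩
      rintro ⟨hlt, h0⟩
      apply Cfsg.Agent.Lib.Helper36.not_pos_and_neg D hD r hr
      rw [isNegRoot_iff D (wfFast_all D hD) r hlt]
      intro j hj
      have : cor D r j = 0 := h0 j hj (Set.notMem_empty j)
      rw [this]
  have e2 : D.parabolicSubgroup F ∅ = D.borelSubgroup F := by
    unfold ChevalleyDatum.parabolicSubgroup
    have : {g : GL D.Idx F | ∃ j ∈ (∅ : Set ℕ), j < D.rank ∧
        (g : Matrix D.Idx D.Idx F) = D.nMat F (D.simple j) 1} = ∅ := by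
      ext g
      simp
    rw [this, Subgroup.closure_empty, sup_bot_eq]
  rw [e1, e2] at h
  exact h

theorem pres_symm (θ : ↥(D.group F) ≃* ↥(D.group F)) (K : Subgroup (GL D.Idx F)) (h : Pres D F θ K) :
    Pres D F θ.symm K := by
  intro g
  have := h (θ.symm g)
  rw [MulEquiv.apply_symm_apply] at this
  exact this.symm

theorem map_eq_of_pres (θ : ↥(D.group F) ≃* ↥(D.group F)) (K : Subgroup (GL D.Idx F)) (h : Pres D F θ K) :
    (K.subgroupOf (D.group F)).map θ.toMonoidHom = K.subgroupOf (D.group F) := by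
  ext y
  constructor
  · rintro ⟨g, hg, rfl⟩
    exact Subgroup.mem_subgroupOf.2 ((h g).2 (Subgroup.mem_subgroupOf.1 hg))
  · intro hy
    refine ⟨θ.symm y, ?_, θ.apply_symm_apply y⟩
    have := h (θ.symm y)
    rw [MulEquiv.apply_symm_apply] at this
    exact Subgroup.mem_subgroupOf.2 (this.1 (Subgroup.mem_subgroupOf.1 hy))

theorem pres_of_map_eq (θ : ↥(D.group F) ≃* ↥(D.group F)) (K : Subgroup (GL D.Idx F))
    (h : (K.subgroupOf (D.group F)).map θ.toMonoidHom = K.subgroupOf (D.group F)) : Pres D F θ K := by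
  intro g
  constructor
  · intro hg
    have hg' : θ g ∈ (K.subgroupOf (D.group F)).map θ.toMonoidHom := by
      rw [h]
      exact Subgroup.mem_subgroupOf.2 hg
    obtain ⟨g', hg', e⟩ := hg'
    have : g' = g := θ.injective e
    rw [← this]
    exact Subgroup.mem_subgroupOf.1 hg'
  · intro hg
    have hg' : θ g ∈ (K.subgroupOf (D.group F)).map θ.toMonoidHom :=
      ⟨g, Subgroup.mem_subgroupOf.2 hg, rfl⟩
    rw [h] at hg'
    exact Subgroup.mem_subgroupOf.1 hg'

include hD in
/-- an automorphism preserving `U` preserves `B = N_G(U)` -/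
theorem pres_borel (θ : ↥(D.group F) ≃* ↥(D.group F)) (hU : Pres D F θ (D.posUnipotent F)) :
    Pres D F θ (D.borelSubgroup F) := by
  have hUG := posUnipotent_le_group D hD F
  have hN : (D.borelSubgroup F).subgroupOf (D.group F) =
      Subgroup.normalizer (((D.posUnipotent F).subgroupOf (D.group F) : Subgroup ↥(D.group F)) :
        Set ↥(D.group F)) := by
    rw [← Subgroup.subgroupOf_normalizer_eq hUG, ← normalizer_pos_inf_group D hD F,
      Subgroup.inf_subgroupOf_right]
  have hmap : ((D.borelSubgroup F).subgroupOf (D.group F)).map θ.toMonoidHom =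
      (D.borelSubgroup F).subgroupOf (D.group F) := by
    rw [hN, Subgroup.map_equiv_normalizer_eq, map_eq_of_pres D F θ _ hU]
  exact pres_of_map_eq D F θ _ hmap

/-! ### the minimal parabolic subgroups -/

include hD in
theorem n_mem_parabolic (i : ℕ) (hi : i < D.rank) :
    nGL D hD F (D.simple i) 1 ∈ D.parabolicSubgroup F {i} := by
  unfold ChevalleyDatum.parabolicSubgroup
  exact Subgroup.mem_sup_right (Subgroup.subset_closure ⟨i, rfl, hi, nGL_coe D hD F _ _⟩)

theorem borel_le_parabolic (J : Set ℕ) : D.borelSubgroup F ≤ D.parabolicSubgroup F J := by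
  unfold ChevalleyDatum.parabolicSubgroup
  exact le_sup_left

include hD in
theorem xneg_mem_parabolic (i : ℕ) (hi : i < D.rank) (t : F) :
    xGL D hD F (D.neg (D.simple i)) t ∈ D.parabolicSubgroup F {i} :=
  xneg_mem_of_n_mem D hD F _ (le_trans (pos_le_borel D F) (borel_le_parabolic D F _)) i hi
    (n_mem_parabolic D hD F i hi) t

include hD in
theorem parabolic_le_of_xneg (M : Subgroup (GL D.Idx F)) (hBM : D.borelSubgroup F ≤ M) (j : ℕ) (hj : j < D.rank)
    (h : ∀ t : F, xGL D hD F (D.neg (D.simple j)) t ∈ M) : D.parabolicSubgroup F {j} ≤ M := by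
  unfold ChevalleyDatum.parabolicSubgroup
  refine sup_le hBM ?_
  rw [Subgroup.closure_le]
  rintro g ⟨j', hj', -, hg⟩
  rw [Set.mem_singleton_iff] at hj'
  subst hj'
  have eg : g = nGL D hD F (D.simple j') 1 := Units.ext (by rw [hg, nGL_coe])
  rw [SetLike.mem_coe, eg, nGL_eq D hD F]
  have hx : ∀ t : F, xGL D hD F (D.simple j') t ∈ M := fun t =>
    hBM (pos_le_borel D F (xGL_mem_pos D hD F _ (isPosRoot_simple D hD j' hj) t))
  exact mul_mem (mul_mem (hx _) (h _)) (hx _)

include hD in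
/-- `P_k ≤ P_i` only for `k = i` -/
theorem parabolic_single_le (i k : ℕ) (hi : i < D.rank) (hk : k < D.rank)
    (h : D.parabolicSubgroup F {k} ≤ D.parabolicSubgroup F {i}) : k = i := by
  have h45 : ∀ i < D.rank, H45 D F i := fun i hi => Cfsg.Agent.S1045.result D hD i hi
  have hnk := h (n_mem_parabolic D hD F k hk)
  have hkN := nS_mem_monomial D hD F k hk
  have hiN := nS_mem_monomial D hD F i hi
  rcases mem_parabolic_single D hD F i hi _ hnk with hB | hC
  · exfalso
    apply nS_not_mem_diag D hD F k hk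
    rw [← borel_inf_monomial D hD F]
    exact ⟨hB, hkN⟩
  · have hself : nGL D hD F (D.simple k) 1 ∈ cell D F (nGL D hD F (D.simple k) 1) :=
      ⟨1, one_mem _, 1, one_mem _, by group⟩
    have h3 := bruhat_unique' D hD F h45 _ _ _ hiN hkN hC hself
    exact (nS_eq_of_mem_borel D hD F i k hi hk (diagonal_le_borel D F h3)).symm

/-- the minimal parabolic subgroup `P_i` inside the group -/
def Par (i : Fin D.rank) : Subgroup ↥(D.group F) :=
  (D.parabolicSubgroup F {(i : ℕ)}).subgroupOf (D.group F)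

include hD in
theorem par_le (i k : Fin D.rank) (h : Par D F k ≤ Par D F i) : k = i := by
  apply Fin.ext
  apply parabolic_single_le D hD F i k i.2 k.2
  intro g hg
  have hgG := parabolic_le_group D hD F _ hg
  have : (⟨g, hgG⟩ : ↥(D.group F)) ∈ Par D F i := h (Subgroup.mem_subgroupOf.2 hg)
  exact Subgroup.mem_subgroupOf.1 this

include hD in
theorem xGr_neg_mem_par (i : Fin D.rank) (t : F) : xGr D hD F (D.neg (D.simple i)) t ∈ Par D F i :=
  Subgroup.mem_subgroupOf.2 (xneg_mem_parabolic D hD F i i.2 t)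

include hD in
/-- an automorphism preserving `B` maps every `P_i` onto a subgroup containing some `P_j` -/
theorem exists_par_le_map [Finite F] (θ : ↥(D.group F) ≃* ↥(D.group F)) (hθ : Pres D F θ (D.borelSubgroup F))
    (i : Fin D.rank) : ∃ j : Fin D.rank, Par D F j ≤ (Par D F i).map θ.toMonoidHom := by
  set Q : Subgroup (GL D.Idx F) := ((Par D F i).map θ.toMonoidHom).map (D.group F).subtype with hQ
  have hBQ : D.borelSubgroup F ≤ Q := by
    intro b hb
    have hbG := borel_le_group D hD F hb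
    have h1 : (⟨b, hbG⟩ : ↥(D.group F)) ∈
        ((D.borelSubgroup F).subgroupOf (D.group F)).map θ.toMonoidHom := by
      rw [map_eq_of_pres D F θ _ hθ]
      exact Subgroup.mem_subgroupOf.2 hb
    obtain ⟨g, hg, hgb⟩ := h1
    refine ⟨⟨b, hbG⟩, ⟨g, ?_, hgb⟩, rfl⟩
    exact Subgroup.mem_subgroupOf.2 (borel_le_parabolic D F _ (Subgroup.mem_subgroupOf.1 hg))
  have hQG : Q ≤ D.group F := by
    rintro _ ⟨y, -, rfl⟩
    exact y.2
  have hQne : Q ≠ D.borelSubgroup F := by
    intro e
    have hx := xGr_neg_mem_par D hD F i 1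
    have h1 : ((θ (xGr D hD F (D.neg (D.simple i)) 1) : ↥(D.group F)) : GL D.Idx F) ∈ Q :=
      ⟨θ (xGr D hD F (D.neg (D.simple i)) 1), ⟨_, hx, rfl⟩, rfl⟩
    rw [e] at h1
    have h2 := (hθ _).1 h1
    exact xGL_neg_simple_not_mem_borel D hD F i i.2 1 one_ne_zero h2
  obtain ⟨j, hj⟩ := T2a_overgroup D hD F Q hBQ hQG hQne
  refine ⟨j, ?_⟩
  have hle : D.parabolicSubgroup F {(j : ℕ)} ≤ Q := parabolic_le_of_xneg D hD F Q hBQ j j.2 hj
  intro g hg
  obtain ⟨y, hy, hyg⟩ := hle (Subgroup.mem_subgroupOf.1 hg)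
  have : y = g := Subtype.ext hyg
  rwa [← this]

include hD in
/-- T2c: the permutation of the negative fundamental root subgroups. -/
theorem T2c_neg [Finite F] (θ₀ : ↥(D.group F) ≃* ↥(D.group F))
    (hU : Pres D F θ₀ (D.posUnipotent F)) (hV : Pres D F θ₀ (D.negUnipotent F)) :
    ∃ π : Equiv.Perm (Fin D.rank), ∀ i : Fin D.rank,
      MapsRoot D hD F θ₀ (D.neg (D.simple i)) (D.neg (D.simple (π i))) := by
  classical
  have hB := pres_borel D hD F θ₀ hU
  have hB' := pres_symm D F θ₀ _ hB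
  have main : ∀ i : Fin D.rank, ∃ j : Fin D.rank, (Par D F i).map θ₀.toMonoidHom = Par D F j := by
    intro i
    obtain ⟨j, hj⟩ := exists_par_le_map D hD F θ₀ hB i
    obtain ⟨k, hk⟩ := exists_par_le_map D hD F θ₀.symm hB' j
    have h1 : (Par D F j).map θ₀.symm.toMonoidHom ≤ Par D F i := by
      rintro _ ⟨y, hy, rfl⟩
      obtain ⟨x, hx, rfl⟩ := hj hy
      have : θ₀.symm.toMonoidHom (θ₀.toMonoidHom x) = x := θ₀.symm_apply_apply x
      rw [this]
      exact hx
    have hki : k = i := par_le D hD F i k (hk.trans h1)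
    subst hki
    refine ⟨j, le_antisymm ?_ hj⟩
    rintro _ ⟨x, hx, rfl⟩
    obtain ⟨y, hy, hyx⟩ := hk hx
    have : θ₀.toMonoidHom x = y := by
      rw [← hyx]
      exact θ₀.apply_symm_apply y
    rw [this]
    exact hy
  choose π₀ hπ₀ using main
  have hinj : Function.Injective π₀ := by
    intro i i' hii
    have h1 : (Par D F i).map θ₀.toMonoidHom = (Par D F i').map θ₀.toMonoidHom := by
      rw [hπ₀ i, hπ₀ i', hii]
    have h2 : Par D F i = Par D F i' := Subgroup.map_injective θ₀.injective h1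
    exact par_le D hD F i' i (le_of_eq h2)
  refine ⟨Equiv.ofBijective π₀ ⟨hinj, Finite.surjective_of_injective hinj⟩, fun i t => ?_⟩
  have hx := xGr_neg_mem_par D hD F i t
  have h1 : θ₀ (xGr D hD F (D.neg (D.simple i)) t) ∈ Par D F (π₀ i) := by
    rw [← hπ₀ i]
    exact ⟨_, hx, rfl⟩
  have h2 : ((θ₀ (xGr D hD F (D.neg (D.simple i)) t) : ↥(D.group F)) : GL D.Idx F) ∈ D.negUnipotent F :=
    (hV _).2 (xneg_mem_neg D hD F i i.2 t)
  obtain ⟨t', ht'⟩ := T2b_inter D hD F (π₀ i) _ h2 (Subgroup.mem_subgroupOf.1 h1)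
  exact ⟨t', Subtype.ext ht'⟩

end

end Cfsg.Agent.Lib.Helper72.Au
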