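import Mathlib
import Cfsg.Agent.Lib.Helper38.SLCard

/-!
# `|PSL_n(q)|` and `|PSL_3(7)| = 1876896`
-/

set_option autoImplicit false

namespace Cfsg.Agent.Lib.Helper72.CardPSL

open Matrix

/-- `|Z(SL_n(F))| = gcd(n, q - 1)` -/
theorem card_center_SL {F : Type*} [Field F] [Fintype F] (n : ℕ) [NeZero n] :
    Nat.card (Subgroup.center (SpecialLinearGroup (Fin n) F)) =
      Nat.gcd n (Fintype.card F - 1) := by
  classical
  rw [Nat.card_congr (Matrix.SpecialLinearGroup.center_equiv_rootsOfUnity' (0 : Fin n)).toEquiv]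
  have h1 : rootsOfUnity (Fintype.card (Fin n)) F = (powMonoidHom n : Fˣ →* Fˣ).ker := by
    ext x
    simp [MonoidHom.mem_ker]
  rw [h1, IsCyclic.card_powMonoidHom_ker, Nat.card_eq_fintype_card, Fintype.card_units,
    Nat.gcd_comm]

/-- `|PSL_n(F)| * gcd(n, q - 1) * (q - 1) = |GL_n(F)|` -/
theorem card_PSL_mul {F : Type*} [Field F] [Fintype F] (n : ℕ) [NeZero n] :
    Nat.card (ProjectiveSpecialLinearGroup (Fin n) F) * Nat.gcd n (Fintype.card F - 1) *
      (Fintype.card F - 1) = Nat.card (GL (Fin n) F) := by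
  rw [← Cfsg.Agent.Lib.Helper38.card_SL_mul (F := F) n (Nat.pos_of_ne_zero (NeZero.ne n)),
    ← card_center_SL (F := F) n,
    Subgroup.card_eq_card_quotient_mul_card_subgroup
      (Subgroup.center (SpecialLinearGroup (Fin n) F))]

/-- `|PSL_3(7)| = 1876896` -/
theorem card_PSL_3_7 :
    Nat.card (Matrix.ProjectiveSpecialLinearGroup (Fin 3) (ZMod 7)) = 1876896 := by
  have : Fact (Nat.Prime 7) := ⟨by norm_num⟩
  have h := card_PSL_mul (F := ZMod 7) 3
  rw [Matrix.card_GL_field, ZMod.card] at h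
  simp only [Fin.prod_univ_three, Fin.val_zero, Fin.val_one, Fin.val_two] at h
  have h3 : Nat.gcd 3 (7 - 1) = 3 := by decide
  have e : (7 ^ 3 - 7 ^ 0) * (7 ^ 3 - 7 ^ 1) * (7 ^ 3 - 7 ^ 2) = 33784128 := by norm_num
  rw [h3, e] at h
  omega

end Cfsg.Agent.Lib.Helper72.CardPSL
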