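import Cfsg.Agent.Lib.Helper88.CsDefs

/-!
# S5293 hive, leaf CS-COMM: a nice extension fixes `[R,R]`, `R = C_S(T)`
-/

set_option autoImplicit false

namespace Cfsg.Agent.Lib.Helper88.Cs

open Cfsg Cfsg.FusionSystem Cfsg.Agent.Lib.Helper88 Cfsg.Agent.Lib.Helper88.Crav
open Cfsg.Agent.Lib.Helper87 (restrict_mem hom_le hom_mem_S subtype_mem mem_autGroup_iff)
open scoped commutatorElement

variable {Ω : Type*} [Group Ω] {S T : Subgroup Ω}
  {F : FusionSystem S} {E : FusionSystem T}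

/-- the range of an automorphism of `Q`, viewed as a map into `Ω`, is `Q` -/
theorem comm_range {Q : Subgroup Ω} (β : MulAut Q) :
    (Q.subtype.comp β.toMonoidHom).range = Q := by
  ext x
  constructor
  · rintro ⟨y, rfl⟩
    exact (β y).2
  · intro hx
    refine ⟨β.symm ⟨x, hx⟩, ?_⟩
    show ((β (β.symm ⟨x, hx⟩) : Q) : Ω) = x
    rw [MulEquiv.apply_symm_apply]

/-- the defect `c⁻¹ ψ(c)`, `c ∈ C_S(T)`, of a nice extension `ψ` of an automorphism of an `E`-centric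
subgroup `Q` lies in `T`, in `Q`, and centralizes `Q`. -/
theorem comm_defect {Q : Subgroup Ω} (hQc : E.IsCentric Q) (β : MulAut Q)
    (hβE : Q.subtype.comp β.toMonoidHom ∈ E.Hom Q)
    {ψ : ↥(Q ⊔ centralizerIn S T) →* Ω}
    (hψe : ∀ x : Q, ψ (Subgroup.inclusion le_sup_left x) = (Q.subtype.comp β.toMonoidHom) x)
    (hψn : ∀ z : ↥(Q ⊔ centralizerIn S T), (z : Ω)⁻¹ * ψ z ∈ T) {c : Ω}
    (hc : c ∈ centralizerIn S T) :
    c⁻¹ * ψ ⟨c, (le_sup_right : centralizerIn S T ≤ Q ⊔ centralizerIn S T) hc⟩ ∈ T ∧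
    c⁻¹ * ψ ⟨c, (le_sup_right : centralizerIn S T ≤ Q ⊔ centralizerIn S T) hc⟩ ∈ Q ∧
    c⁻¹ * ψ ⟨c, (le_sup_right : centralizerIn S T ≤ Q ⊔ centralizerIn S T) hc⟩ ∈
      Subgroup.centralizer (Q : Set Ω) := by
  have hQT : Q ≤ T := hom_le E hβE
  have hφT : ∀ x : Q, (Q.subtype.comp β.toMonoidHom) x ∈ T := fun x => hQT (β x).2
  have h := nice_defect_mem (S := S) hQT hφT hψe hψn hc
  rw [comm_range β] at h
  exact ⟨h.1, hQc.2 Q ⟨_, hβE, comm_range β⟩ h, h.2⟩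

/-- **CS-COMM** -/
theorem comm_fix {Q : Subgroup Ω} (hQc : E.IsCentric Q) (β : MulAut Q)
    (hβ : Q.subtype.comp β.toMonoidHom ∈ niceHom F E Q) :
    Q.subtype.comp β.toMonoidHom ∈
      fixHom F E ⁅centralizerIn S T, centralizerIn S T⁆ Q := by
  obtain ⟨hβE, ψ, hψF, hψe, hψn⟩ := hβ
  have hRR : ⁅centralizerIn S T, centralizerIn S T⁆ ≤ centralizerIn S T := by
    refine Subgroup.commutator_le.mpr fun a ha b hb => ?_
    rw [commutatorElement_def]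
    exact mul_mem (mul_mem (mul_mem ha hb) (inv_mem ha)) (inv_mem hb)
  have hle : Q ⊔ ⁅centralizerIn S T, centralizerIn S T⁆ ≤ Q ⊔ centralizerIn S T :=
    sup_le_sup_left hRR Q
  -- `ψ` fixes the commutators
  have hfix : ⁅centralizerIn S T, centralizerIn S T⁆ ≤
      (MonoidHom.eqLocus ψ (Q ⊔ centralizerIn S T).subtype).map
        (Q ⊔ centralizerIn S T).subtype := by
    refine Subgroup.commutator_le.mpr fun c hc c' hc' => ?_
    have hcm : c ∈ Q ⊔ centralizerIn S T := (le_sup_right : centralizerIn S T ≤ _) hc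
    have hcm' : c' ∈ Q ⊔ centralizerIn S T := (le_sup_right : centralizerIn S T ≤ _) hc'
    refine ⟨⁅(⟨c, hcm⟩ : ↥(Q ⊔ centralizerIn S T)), ⟨c', hcm'⟩⁆, ?_, rfl⟩
    show ψ _ = _
    rw [map_commutatorElement]
    obtain ⟨hdT, hdQ, -⟩ := comm_defect hQc β hβE hψe hψn hc
    obtain ⟨hdT', -, hdC'⟩ := comm_defect hQc β hβE hψe hψn hc'
    set d := c⁻¹ * ψ ⟨c, hcm⟩ with hd
    set d' := c'⁻¹ * ψ ⟨c', hcm'⟩ with hd'
    have e1 : ψ ⟨c, hcm⟩ = c * d := by rw [hd]; group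
    have e2 : ψ ⟨c', hcm'⟩ = c' * d' := by rw [hd']; group
    rw [e1, e2]
    have h1 : d * c' = c' * d := Subgroup.mem_centralizer_iff.mp hc'.2 d hdT
    have h2 : d * d' = d' * d := Subgroup.mem_centralizer_iff.mp hdC' d hdQ
    have k3 : Commute d' c := Subgroup.mem_centralizer_iff.mp hc.2 d' hdT'
    have h3 : d' * c⁻¹ = c⁻¹ * d' := k3.inv_right.eq
    show ⁅c * d, c' * d'⁆ = ⁅c, c'⁆
    rw [commutatorElement_def, commutatorElement_def]
    calc (c * d) * (c' * d') * (c * d)⁻¹ * (c' * d')⁻¹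
        = c * (d * c') * d' * d⁻¹ * c⁻¹ * d'⁻¹ * c'⁻¹ := by group
      _ = c * (c' * d) * d' * d⁻¹ * c⁻¹ * d'⁻¹ * c'⁻¹ := by rw [h1]
      _ = c * c' * (d * d') * d⁻¹ * c⁻¹ * d'⁻¹ * c'⁻¹ := by group
      _ = c * c' * (d' * d) * d⁻¹ * c⁻¹ * d'⁻¹ * c'⁻¹ := by rw [h2]
      _ = c * c' * (d' * c⁻¹) * d'⁻¹ * c'⁻¹ := by group
      _ = c * c' * (c⁻¹ * d') * d'⁻¹ * c'⁻¹ := by rw [h3]
      _ = c * c' * c⁻¹ * c'⁻¹ := by group
  refine ⟨hβE, ψ.comp (Subgroup.inclusion hle), restrict_mem F hψF hle, ?_, ?_⟩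
  · intro x
    exact hψe x
  · intro x
    obtain ⟨y, hy, hyx⟩ := hfix x.2
    have e : Subgroup.inclusion hle (Subgroup.inclusion le_sup_right x) = y :=
      Subtype.ext hyx.symm
    show ψ (Subgroup.inclusion hle (Subgroup.inclusion le_sup_right x)) = x
    rw [e]
    have : ψ y = (Q ⊔ centralizerIn S T).subtype y := hy
    rw [this]
    exact hyx

end Cfsg.Agent.Lib.Helper88.Cs
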