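import Cfsg.Agent.Lib.Helper88.CsDefs
import Cfsg.Agent.Lib.Helper72.CsCOMM

/-!
# S5293 hive, leaf CS-PP (core): the fusion wrapper around CS-ABS, with CS-ABS as a hypothesis
-/

set_option autoImplicit false

namespace Cfsg.Agent.Lib.Helper88.Cs

open Cfsg Cfsg.FusionSystem Cfsg.Agent.Lib.Helper88 Cfsg.Agent.Lib.Helper88.Crav
open Cfsg.Agent.Lib.Helper87 (restrict_mem hom_le hom_mem_S subtype_mem mem_autGroup_iff)

variable {Ω : Type*} [Group Ω] {S T : Subgroup Ω} {p : ℕ} [Fact p.Prime]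
  {F : FusionSystem S} {E : FusionSystem T}

/-- an injective map of a finite subgroup `M` into itself is an automorphism of `M` -/
theorem pp_exists_aut {M : Subgroup Ω} [Finite M] (f : M →* Ω) (hinj : Function.Injective f)
    (hM : ∀ x : M, f x ∈ M) : ∃ α : MulAut M, ∀ x : M, ((α x : M) : Ω) = f x := by
  have hinj' : Function.Injective (f.codRestrict M hM) := fun a b h =>
    hinj (congrArg Subtype.val h)
  have hbij : Function.Bijective (f.codRestrict M hM) := Finite.injective_iff_bijective.mp hinj'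
  exact ⟨MulEquiv.ofBijective (f.codRestrict M hM) hbij, fun x => rfl⟩

/-- a map on `L ≥ A ⊔ B` sending `A` and `B` into `N` sends `A ⊔ B` into `N` -/
theorem pp_sup_mem {L A B N : Subgroup Ω} (hA : A ≤ L) (hB : B ≤ L) (f : L →* Ω)
    (hfA : ∀ a (ha : a ∈ A), f ⟨a, hA ha⟩ ∈ N) (hfB : ∀ b (hb : b ∈ B), f ⟨b, hB hb⟩ ∈ N) :
    ∀ x (hx : x ∈ A ⊔ B), f ⟨x, (sup_le hA hB) hx⟩ ∈ N := by
  intro x hx
  have h1 : (A ⊔ B).subgroupOf L ≤ N.comap f := by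
    rw [Subgroup.subgroupOf_sup hA hB]
    exact sup_le (fun y hy => hfA y.1 hy) (fun y hy => hfB y.1 hy)
  exact h1 (show (⟨x, (sup_le hA hB) hx⟩ : L) ∈ (A ⊔ B).subgroupOf L from hx)

/-- two homomorphisms on `A ⊔ B` agreeing on `A` and on `B` are equal -/
theorem pp_hom_ext {A B : Subgroup Ω} {H : Type*} [Group H] (f₁ f₂ : ↥(A ⊔ B) →* H)
    (hA : ∀ a (ha : a ∈ A), f₁ ⟨a, (le_sup_left : A ≤ A ⊔ B) ha⟩ =
      f₂ ⟨a, (le_sup_left : A ≤ A ⊔ B) ha⟩)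
    (hB : ∀ b (hb : b ∈ B), f₁ ⟨b, (le_sup_right : B ≤ A ⊔ B) hb⟩ =
      f₂ ⟨b, (le_sup_right : B ≤ A ⊔ B) hb⟩) : f₁ = f₂ := by
  have h : (⊤ : Subgroup ↥(A ⊔ B)) ≤ MonoidHom.eqLocus f₁ f₂ := by
    rw [← Subgroup.subgroupOf_self (A ⊔ B), Subgroup.subgroupOf_sup le_sup_left le_sup_right]
    exact sup_le (fun y hy => hA y.1 hy) (fun y hy => hB y.1 hy)
  ext x
  exact h (Subgroup.mem_top x)

/-- **CS-PP**, with the statement of CS-ABS (for the group `↥(Q ⊔ U)`) as a hypothesis. -/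
theorem pp_core [Finite S] (hTS : T ≤ S) {Q : Subgroup Ω}
    (hQc : E.IsCentric Q) (β : MulAut Q) (hβ : Q.subtype.comp β.toMonoidHom ∈ niceHom F E Q)
    {U : Subgroup Ω} (γ : MulAut U) (hγ : U.subtype.comp γ.toMonoidHom ∈ F.centralizerHom T U)
    (hcop : (orderOf γ).Coprime p)
    (habs : ∀ (Q' U' : Subgroup ↥(Q ⊔ U)), Q' ⊔ U' = ⊤ →
      (∀ q ∈ Q', ∀ c ∈ U', q * c = c * q) →
      ∀ (ψ g : MulAut ↥(Q ⊔ U)), (∀ q ∈ Q', g q = q) → (∀ c ∈ U', g c ∈ U') →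
      (∀ q ∈ Q', ψ q ∈ Q') → (∀ c ∈ U', c⁻¹ * ψ c ∈ Q') →
      ∀ {n : ℕ}, 0 < n → g ^ n = 1 → n.Coprime p →
      ∃ ψ₀ ∈ Subgroup.closure {ψ, g}, (∀ q ∈ Q', ψ₀ q = ψ q) ∧
        ∀ c ∈ U', ψ₀ (c⁻¹ * g c) = c⁻¹ * g c) :
    Q.subtype.comp β.toMonoidHom ∈ fixHom F E (commSub γ) Q := by
  obtain ⟨hβE, ψ, hψF, hψe, hψn⟩ := hβ
  obtain ⟨hγF, hUR, hγR, γh, hγhF, hγhe, hγhT⟩ := hγ
  have hp : p.Prime := Fact.out
  have hQT : Q ≤ T := hom_le E hβE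
  have hRS : centralizerIn S T ≤ S := inf_le_left
  have hMle1 : Q ⊔ U ≤ Q ⊔ centralizerIn S T := sup_le_sup_left hUR Q
  have hMle2 : Q ⊔ U ≤ U ⊔ T := sup_le (hQT.trans le_sup_right) le_sup_left
  have hMS : Q ⊔ U ≤ S := sup_le (hQT.trans hTS) (hUR.trans hRS)
  have : Finite ↥(Q ⊔ U) := Cfsg.Agent.Lib.Helper87.finite_of_le hMS
  have hQM : Q ≤ Q ⊔ U := le_sup_left
  have hUM : U ≤ Q ⊔ U := le_sup_right
  -- values of `ψ`
  have hψQ : ∀ q (hq : q ∈ Q), ψ ⟨q, hMle1 (hQM hq)⟩ = ((β ⟨q, hq⟩ : Q) : Ω) := fun q hq =>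
    hψe ⟨q, hq⟩
  have hψU : ∀ c (hc : c ∈ U), c⁻¹ * ψ ⟨c, hMle1 (hUM hc)⟩ ∈ Q := fun c hc =>
    (comm_defect hQc β hβE hψe hψn (hUR hc)).2.1
  -- values of `γh`
  have hγQ : ∀ q (hq : q ∈ Q), γh ⟨q, hMle2 (hQM hq)⟩ = q := fun q hq => hγhT ⟨q, hQT hq⟩
  have hγU : ∀ c (hc : c ∈ U), γh ⟨c, hMle2 (hUM hc)⟩ = ((γ ⟨c, hc⟩ : U) : Ω) := fun c hc =>
    hγhe ⟨c, hc⟩
  -- the two automorphisms of `M = Q ⊔ U`
  have hψMF : ψ.comp (Subgroup.inclusion hMle1) ∈ F.Hom (Q ⊔ U) := restrict_mem F hψF hMle1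
  have hgMF : γh.comp (Subgroup.inclusion hMle2) ∈ F.Hom (Q ⊔ U) := restrict_mem F hγhF hMle2
  have hψM : ∀ x : ↥(Q ⊔ U), (ψ.comp (Subgroup.inclusion hMle1)) x ∈ Q ⊔ U := by
    intro x
    refine pp_sup_mem (hQM.trans hMle1) (hUM.trans hMle1) ψ (N := Q ⊔ U) ?_ ?_ x.1 x.2
    · intro q hq
      rw [hψQ q hq]
      exact hQM (β ⟨q, hq⟩).2
    · intro c hc
      have h1 := hψU c hc
      have h2 : ψ ⟨c, hMle1 (hUM hc)⟩ = c * (c⁻¹ * ψ ⟨c, hMle1 (hUM hc)⟩) := by group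
      rw [h2]
      exact mul_mem (hUM hc) (hQM h1)
  have hgM : ∀ x : ↥(Q ⊔ U), (γh.comp (Subgroup.inclusion hMle2)) x ∈ Q ⊔ U := by
    intro x
    refine pp_sup_mem (hQM.trans hMle2) (hUM.trans hMle2) γh (N := Q ⊔ U) ?_ ?_ x.1 x.2
    · intro q hq
      rw [hγQ q hq]
      exact hQM hq
    · intro c hc
      rw [hγU c hc]
      exact hUM (γ ⟨c, hc⟩).2
  obtain ⟨ψM, hψMv⟩ := pp_exists_aut _ (F.injective_of_mem hψMF) hψM
  obtain ⟨gM, hgMv⟩ := pp_exists_aut _ (F.injective_of_mem hgMF) hgM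
  have hψMa : ψM ∈ F.autGroup (Q ⊔ U) := by
    rw [mem_autGroup_iff F hMS]
    have e : (Q ⊔ U).subtype.comp ψM.toMonoidHom = ψ.comp (Subgroup.inclusion hMle1) := by
      ext x; exact hψMv x
    rw [e]; exact hψMF
  have hgMa : gM ∈ F.autGroup (Q ⊔ U) := by
    rw [mem_autGroup_iff F hMS]
    have e : (Q ⊔ U).subtype.comp gM.toMonoidHom = γh.comp (Subgroup.inclusion hMle2) := by
      ext x; exact hgMv x
    rw [e]; exact hgMF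
  -- `gM` on `Q` and `U`
  have hgQ' : ∀ q (hq : q ∈ Q), gM ⟨q, hQM hq⟩ = ⟨q, hQM hq⟩ := fun q hq =>
    Subtype.ext ((hgMv _).trans (hγQ q hq))
  have hgU' : ∀ (k : ℕ) c (hc : c ∈ U),
      (gM ^ k) ⟨c, hUM hc⟩ = ⟨((γ ^ k) ⟨c, hc⟩ : U), hUM ((γ ^ k) ⟨c, hc⟩).2⟩ := by
    intro k
    induction k with
    | zero => intro c hc; rfl
    | succ k ih =>
      intro c hc
      rw [pow_succ', pow_succ', MulAut.mul_apply, MulAut.mul_apply, ih c hc]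
      exact Subtype.ext ((hgMv _).trans (hγU _ ((γ ^ k) ⟨c, hc⟩).2))
  have hn0 : 0 < orderOf γ := by
    rcases Nat.eq_zero_or_pos (orderOf γ) with h0 | h0
    · rw [h0, Nat.coprime_zero_left] at hcop
      exact absurd hcop hp.ne_one
    · exact h0
  have hgn : gM ^ orderOf γ = 1 := by
    have h := pp_hom_ext ((gM ^ orderOf γ).toMonoidHom) ((1 : MulAut ↥(Q ⊔ U)).toMonoidHom) ?_ ?_
    · ext x
      exact congrArg Subtype.val (DFunLike.congr_fun h x)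
    · intro q hq
      show (gM ^ orderOf γ) ⟨q, hQM hq⟩ = ⟨q, hQM hq⟩
      have : ∀ k : ℕ, (gM ^ k) ⟨q, hQM hq⟩ = ⟨q, hQM hq⟩ := by
        intro k
        induction k with
        | zero => rfl
        | succ k ih => rw [pow_succ', MulAut.mul_apply, ih, hgQ' q hq]
      exact this _
    · intro c hc
      show (gM ^ orderOf γ) ⟨c, hUM hc⟩ = ⟨c, hUM hc⟩
      rw [hgU' _ c hc]
      apply Subtype.ext
      show (((γ ^ orderOf γ) ⟨c, hc⟩ : U) : Ω) = c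
      rw [pow_orderOf_eq_one]
      rfl
  -- apply CS-ABS
  obtain ⟨ψ₀, hψ₀c, hψ₀Q, hψ₀U⟩ := habs (Q.subgroupOf (Q ⊔ U)) (U.subgroupOf (Q ⊔ U))
    (by rw [← Subgroup.subgroupOf_sup hQM hUM, Subgroup.subgroupOf_self])
    (by
      intro q hq c hc
      apply Subtype.ext
      have hc' := hUR (Subgroup.mem_subgroupOf.mp hc)
      exact Subgroup.mem_centralizer_iff.mp hc'.2 _ (hQT (Subgroup.mem_subgroupOf.mp hq)))
    ψM gM
    (fun q hq => hgQ' q.1 hq)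
    (fun c hc => by
      have h := hgU' 1 c.1 hc
      rw [pow_one] at h
      rw [Subgroup.mem_subgroupOf]
      have h' : gM c = gM ⟨c.1, hUM hc⟩ := rfl
      rw [h', h]
      exact ((γ ^ 1) ⟨c.1, hc⟩).2)
    (fun q hq => by
      rw [Subgroup.mem_subgroupOf]
      rw [hψMv q]
      show ψ ⟨q.1, _⟩ ∈ Q
      rw [hψQ q.1 hq]
      exact (β ⟨q.1, hq⟩).2)
    (fun c hc => by
      rw [Subgroup.mem_subgroupOf]
      show (c : Ω)⁻¹ * ((ψM c : ↥(Q ⊔ U)) : Ω) ∈ Q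
      rw [hψMv c]
      exact hψU c.1 hc)
    hn0 hgn hcop
  have hψ₀a : ψ₀ ∈ F.autGroup (Q ⊔ U) := by
    refine (Subgroup.closure_le _).mpr ?_ hψ₀c
    rintro x (rfl | rfl)
    · exact hψMa
    · exact hgMa
  have hψ₀F : (Q ⊔ U).subtype.comp ψ₀.toMonoidHom ∈ F.Hom (Q ⊔ U) :=
    (mem_autGroup_iff F hMS ψ₀).mp hψ₀a
  have hcU : commSub γ ≤ U := by
    unfold commSub
    rw [Subgroup.closure_le]
    rintro _ ⟨c, rfl⟩
    exact U.mul_mem (U.inv_mem c.2) (γ c).2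
  have hle : Q ⊔ commSub γ ≤ Q ⊔ U := sup_le_sup_left hcU Q
  -- the fixed points of `ψ₀`
  have hfix : commSub γ ≤
      (MonoidHom.eqLocus ((Q ⊔ U).subtype.comp ψ₀.toMonoidHom) (Q ⊔ U).subtype).map
        (Q ⊔ U).subtype := by
    unfold commSub
    rw [Subgroup.closure_le]
    rintro _ ⟨c, rfl⟩
    have hc : (⟨c.1, hUM c.2⟩ : ↥(Q ⊔ U)) ∈ U.subgroupOf (Q ⊔ U) := c.2
    have h := hψ₀U _ hc
    have hg1 : gM ⟨c.1, hUM c.2⟩ = ⟨((γ c : U) : Ω), hUM (γ c).2⟩ := by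
      have h := hgU' 1 c.1 c.2
      rw [pow_one] at h
      exact h
    rw [hg1] at h
    refine ⟨(⟨c.1, hUM c.2⟩ : ↥(Q ⊔ U))⁻¹ * ⟨((γ c : U) : Ω), hUM (γ c).2⟩, ?_, rfl⟩
    show ((ψ₀ _ : ↥(Q ⊔ U)) : Ω) = _
    rw [h]
    rfl
  refine ⟨hβE, ((Q ⊔ U).subtype.comp ψ₀.toMonoidHom).comp (Subgroup.inclusion hle),
    restrict_mem F hψ₀F hle, ?_, ?_⟩
  · intro x
    show ((ψ₀ ⟨x.1, _⟩ : ↥(Q ⊔ U)) : Ω) = ((β x : Q) : Ω)
    have hx : (⟨x.1, hQM x.2⟩ : ↥(Q ⊔ U)) ∈ Q.subgroupOf (Q ⊔ U) := x.2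
    have h := hψ₀Q _ hx
    have h2 : ((ψ₀ ⟨x.1, hQM x.2⟩ : ↥(Q ⊔ U)) : Ω) = ((ψM ⟨x.1, hQM x.2⟩ : ↥(Q ⊔ U)) : Ω) := by
      rw [h]
    rw [hψMv] at h2
    exact h2.trans (hψQ x.1 x.2)
  · intro x
    obtain ⟨y, hy, hyx⟩ := hfix x.2
    have e : Subgroup.inclusion hle (Subgroup.inclusion le_sup_right x) = y :=
      Subtype.ext hyx.symm
    show ((Q ⊔ U).subtype.comp ψ₀.toMonoidHom)
      (Subgroup.inclusion hle (Subgroup.inclusion le_sup_right x)) = x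
    rw [e]
    have : ((Q ⊔ U).subtype.comp ψ₀.toMonoidHom) y = (Q ⊔ U).subtype y := hy
    rw [this]
    exact hyx

end Cfsg.Agent.Lib.Helper88.Cs
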