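import Cfsg.Agent.Lib.Helper88.CsDefs
import Cfsg.Agent.Lib.Helper72.CsPPCore
import Cfsg.Agent.Lib.Helper95.CsABS

/-!
# S5293 hive, leaf CS-PP: the fusion wrapper around CS-ABS
-/

set_option autoImplicit false

namespace Cfsg.Agent.Lib.Helper88.Cs

open Cfsg Cfsg.FusionSystem Cfsg.Agent.Lib.Helper88 Cfsg.Agent.Lib.Helper88.Crav
open Cfsg.Agent.Lib.Helper87 (restrict_mem hom_le hom_mem_S subtype_mem mem_autGroup_iff)

variable {Ω : Type*} [Group Ω] {S T : Subgroup Ω} {p : ℕ} [Fact p.Prime]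
  {F : FusionSystem S} {E : FusionSystem T}

/-- **CS-PP** -/
theorem pprime_fix [Finite S] (hS : IsPGroup p S) (hTS : T ≤ S) {Q : Subgroup Ω}
    (hQc : E.IsCentric Q) (β : MulAut Q) (hβ : Q.subtype.comp β.toMonoidHom ∈ niceHom F E Q)
    {U : Subgroup Ω} (γ : MulAut U) (hγ : U.subtype.comp γ.toMonoidHom ∈ F.centralizerHom T U)
    (hcop : (orderOf γ).Coprime p) :
    Q.subtype.comp β.toMonoidHom ∈ fixHom F E (commSub γ) Q := by
  have hQT : Q ≤ T := hom_le E hβ.1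
  have hMS : Q ⊔ U ≤ S := sup_le (hQT.trans hTS) (hγ.2.1.trans inf_le_left)
  have : Finite ↥(Q ⊔ U) := Cfsg.Agent.Lib.Helper87.finite_of_le hMS
  have hMp : IsPGroup p ↥(Q ⊔ U) := hS.to_le hMS
  exact pp_core hTS hQc β hβ γ hγ hcop
    (fun Q' U' h1 h2 ψ g h3 h4 h5 h6 _ h7 h8 h9 =>
      abstract_fix hMp Q' U' h1 h2 ψ g h3 h4 h5 h6 h7 h8 h9)

end Cfsg.Agent.Lib.Helper88.Cs
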