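import Cfsg.Agent.Lib.Helper72.DadeMain
import Cfsg.Agent.Lib.Helper79.NilpM

set_option autoImplicit false
set_option linter.unusedSectionVars false
set_option linter.style.haveILetI false

/-!
# Dade's embedding theorem: every finite solvable group embeds in an M-group (S4573)
-/

namespace Cfsg.Agent.Lib.Helper72.Dade

open Cfsg RegularWreathProduct

universe u

/-- A nontrivial finite solvable group has a normal subgroup of prime index. -/
theorem exists_normal_prime_index {G : Type*} [Group G] [Finite G] [Nontrivial G]
    (hs : Group.IsSolvable G) : ∃ N : Subgroup G, N.Normal ∧ N.index.Prime := by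
  classical
  have hlt : commutator G < ⊤ := Group.IsSolvable.commutator_lt_top_of_nontrivial G
  obtain ⟨φ, hφ⟩ := Cfsg.Agent.Lib.Helper79.exists_monoidHom_ne_one (G := G) hlt.ne
  let A : Subgroup ℂˣ := φ.range
  haveI : Finite A := Finite.of_surjective φ.rangeRestrict φ.rangeRestrict_surjective
  have hAnt : Nat.card A ≠ 1 := by
    intro h1
    apply hφ
    ext g
    have hsub : Subsingleton A := (Nat.card_eq_one_iff_unique.mp h1).1
    have : (⟨φ g, ⟨g, rfl⟩⟩ : A) = 1 := Subsingleton.elim _ _
    have := congrArg Subtype.val this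
    simpa using congrArg Units.val this
  set m := Nat.card A with hm
  have hm0 : 0 < m := Nat.card_pos
  set p := m.minFac with hp
  have hpp : p.Prime := Nat.minFac_prime hAnt
  have hpm : p ∣ m := Nat.minFac_dvd m
  let ψ : G →* A := (powMonoidHom (m / p) : A →* A).comp φ.rangeRestrict
  refine ⟨ψ.ker, inferInstance, ?_⟩
  rw [Subgroup.index_ker]
  have hrange : ψ.range = (powMonoidHom (m / p) : A →* A).range := by
    rw [MonoidHom.range_comp, MonoidHom.range_eq_top.mpr φ.rangeRestrict_surjective,
      ← MonoidHom.range_eq_map]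
  rw [hrange, IsCyclic.card_powMonoidHom_range]
  have hd : m / p ∣ m := Nat.div_dvd_of_dvd hpm
  rw [← hm, Nat.gcd_eq_right hd]
  have : m / (m / p) = p := by
    obtain ⟨k, hk⟩ := hpm
    have hk0 : 0 < k := by
      rcases Nat.eq_zero_or_pos k with h | h
      · rw [h, mul_zero] at hk; omega
      · exact h
    rw [hk, Nat.mul_div_cancel_left _ hpp.pos, Nat.mul_div_cancel _ hk0]
  rw [this]
  exact hpp

/-- **Dade's embedding theorem**, by induction on the order. -/
theorem dade_aux (n : ℕ) : ∀ (G : Type u) [Group G] [Finite G], Group.IsSolvable G →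
    Nat.card G = n →
    ∃ (M : Type u) (hM : Group M) (hF : Fintype M), @IsMGroup M hM hF ∧
      ∃ f : G →* M, Function.Injective f := by
  induction n using Nat.strong_induction_on with
  | _ n ih =>
    intro G _ _ hs hn
    classical
    by_cases hnt : Nontrivial G
    · obtain ⟨N, hN, hidx⟩ := exists_normal_prime_index hs
      have hNs : Group.IsSolvable N := inferInstance
      have hNlt : Nat.card N < n := by
        rw [← hn, ← Subgroup.card_mul_index N]
        have h2 := hidx.two_le
        have hpos : 0 < Nat.card N := Nat.card_pos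
        nlinarith
      obtain ⟨M₀, hM₀, hF₀, hMG, j, hj⟩ := ih (Nat.card N) hNlt N hNs rfl
      haveI : Fintype (G ⧸ N) := Fintype.ofFinite _
      haveI : Fintype (M₀ ≀ᵣ (G ⧸ N)) :=
        Fintype.ofEquiv _ (RegularWreathProduct.equivProd M₀ (G ⧸ N)).symm
      refine ⟨M₀ ≀ᵣ (G ⧸ N), inferInstance, inferInstance, ?_, ?_⟩
      · apply wreath_isMGroup hMG
        have : Nat.card (G ⧸ N) = N.index := rfl
        rw [this]; exact hidx
      · exact ⟨(mapLeft j).comp (kkHom N), (mapLeft_injective j hj).comp (kkHom_injective N)⟩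
    · rw [not_nontrivial_iff_subsingleton] at hnt
      haveI : Fintype G := Fintype.ofFinite _
      refine ⟨G, inferInstance, inferInstance, ?_, MonoidHom.id G, fun _ _ h => h⟩
      intro χ hχ
      exact Cfsg.Agent.Lib.Helper79.nilpotent_monomial χ hχ

/-- **Dade's embedding theorem.** -/
theorem dade {G : Type u} [Group G] [Finite G] (hs : Group.IsSolvable G) :
    ∃ (M : Type u) (hM : Group M) (hF : Fintype M), @IsMGroup M hM hF ∧
      ∃ f : G →* M, Function.Injective f :=
  dade_aux (Nat.card G) G hs rfl

end Cfsg.Agent.Lib.Helper72.Dade
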