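import Cfsg.Agent.Lib.Helper3.ElemSpan
import Cfsg.Agent.Lib.Helper3.IndAlg
import Cfsg.Agent.Lib.Helper25.Ind
import Cfsg.Agent.Lib.Helper79.Basic

set_option autoImplicit false
set_option linter.unusedSectionVars false

/-!
# Monomial characters and M-groups: basic closure properties
(for Dade's embedding theorem, S4573)
-/

namespace Cfsg.Agent.Lib.Helper72.Dade

open Cfsg
open scoped ComplexConjugate

universe u

/-- `χ` is monomial: induced from a homomorphism of a subgroup into `ℂˣ`. -/
def IsMono (M : Type u) [Group M] [Fintype M] (χ : M → ℂ) : Prop :=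
  ∃ (H : Subgroup M) (lam : H →* ℂˣ), χ = indFun H (fun h => ((lam h : ℂˣ) : ℂ))

/-- `M` is an M-group: every irreducible character is monomial. -/
def IsMGroup (M : Type u) [Group M] [Fintype M] : Prop :=
  ∀ χ : M → ℂ, IsIrrCharacter M χ → IsMono M χ

variable {M : Type u} [Group M] [Fintype M]

/-- Transitivity: a character induced from a monomial character of a subgroup is monomial. -/
theorem isMono_ind_ind (B : Subgroup M) [Fintype B] (K : Subgroup B) (lam : K →* ℂˣ) :
    IsMono M (indFun B (indFun K (fun k => ((lam k : ℂˣ) : ℂ)))) := by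
  rw [Cfsg.Agent.Lib.Helper3.indFun_indFun_map]
  exact ⟨K.map B.subtype,
    lam.comp (K.equivMapOfInjective B.subtype B.subtype_injective).symm.toMonoidHom, rfl⟩

/-- The product of a monomial character with a linear character is monomial. -/
theorem IsMono.mul_hom {ψ : M → ℂ} (hψ : IsMono M ψ) (β : M →* ℂˣ) :
    IsMono M (ψ * fun g => ((β g : ℂˣ) : ℂ)) := by
  obtain ⟨T, lam, rfl⟩ := hψ
  refine ⟨T, lam * β.comp T.subtype, ?_⟩
  have hcl : IsClassFunction M (fun g => ((β g : ℂˣ) : ℂ)) := by
    intro g h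
    simp [mul_comm]
  rw [← Cfsg.Agent.Lib.Helper3.indFun_mul_restrict T _ hcl]
  congr 1

/-- Transport of induction along a group isomorphism. -/
theorem indFun_map_equiv {G G' : Type*} [Group G] [Group G'] [Fintype G] [Fintype G']
    (e : G ≃* G') (K : Subgroup G) (θ : K → ℂ) (g : G) :
    indFun (K.map e.toMonoidHom)
      (fun y => θ ((K.equivMapOfInjective e.toMonoidHom e.injective).symm y)) (e g) =
      indFun K θ g := by
  unfold indFun
  have hcard : Nat.card ↥(K.map e.toMonoidHom) = Nat.card K :=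
    Nat.card_congr (K.equivMapOfInjective e.toMonoidHom e.injective).symm.toEquiv
  rw [hcard]
  congr 1
  symm
  refine Fintype.sum_equiv e.toEquiv _ _ ?_
  intro x
  have hx : (e.toEquiv x)⁻¹ * e g * e.toEquiv x = e (x⁻¹ * g * x) := by
    simp
  rw [hx]
  by_cases hy : x⁻¹ * g * x ∈ K
  · have hy' : e (x⁻¹ * g * x) ∈ K.map e.toMonoidHom := Subgroup.mem_map_of_mem _ hy
    rw [Cfsg.Agent.Lib.Helper25.extendByZero_of_mem _ _ hy,
      Cfsg.Agent.Lib.Helper25.extendByZero_of_mem _ _ hy']
    congr 1
    symm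
    rw [MulEquiv.symm_apply_eq]
    apply Subtype.ext
    rfl
  · have hy' : e (x⁻¹ * g * x) ∉ K.map e.toMonoidHom := by
      rintro ⟨z, hz, hze⟩
      have : z = x⁻¹ * g * x := e.injective hze
      exact hy (this ▸ hz)
    rw [Cfsg.Agent.Lib.Helper25.extendByZero_of_not_mem _ _ hy,
      Cfsg.Agent.Lib.Helper25.extendByZero_of_not_mem _ _ hy']

end Cfsg.Agent.Lib.Helper72.Dade
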