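import Mathlib.GroupTheory.RegularWreathProduct
import Mathlib.GroupTheory.QuotientGroup.Basic
import Mathlib.GroupTheory.Coset.Basic

set_option autoImplicit false
set_option linter.unusedSectionVars false

/-!
# Regular wreath products: base group, conjugation formulas, the universal embedding
(for Dade's embedding theorem, S4573)
-/

namespace Cfsg.Agent.Lib.Helper72.Dade

open RegularWreathProduct

variable {D Q : Type*} [Group D] [Group Q]

/-- The embedding of the base group `Q → D` into the regular wreath product. -/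
def baseHom : (Q → D) →* D ≀ᵣ Q where
  toFun f := ⟨f, 1⟩
  map_one' := rfl
  map_mul' f g := by ext <;> simp

@[simp] theorem baseHom_left (f : Q → D) : (baseHom f : D ≀ᵣ Q).left = f := rfl
@[simp] theorem baseHom_right (f : Q → D) : (baseHom f : D ≀ᵣ Q).right = 1 := rfl

theorem baseHom_injective : Function.Injective (baseHom : (Q → D) →* D ≀ᵣ Q) := by
  intro f g h
  have := congrArg RegularWreathProduct.left h
  simpa using this

theorem eq_baseHom_of_right_eq_one (w : D ≀ᵣ Q) (h : w.right = 1) : w = baseHom w.left := by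
  ext <;> simp [h]

theorem mem_ker_rightHom_iff (w : D ≀ᵣ Q) :
    w ∈ (rightHom : D ≀ᵣ Q →* Q).ker ↔ w.right = 1 := by
  rw [MonoidHom.mem_ker]; rfl

theorem baseHom_mem_ker (f : Q → D) : baseHom f ∈ (rightHom : D ≀ᵣ Q →* Q).ker :=
  (mem_ker_rightHom_iff _).mpr rfl

/-- The base group as an isomorphic copy of `Q → D`. -/
def baseEquiv : (Q → D) ≃* ↥((rightHom : D ≀ᵣ Q →* Q).ker) where
  toFun f := ⟨baseHom f, baseHom_mem_ker f⟩
  invFun b := b.1.left
  left_inv f := rfl
  right_inv b := by
    apply Subtype.ext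
    exact (eq_baseHom_of_right_eq_one b.1 ((mem_ker_rightHom_iff _).mp b.2)).symm
  map_mul' f g := by
    apply Subtype.ext
    exact baseHom.map_mul f g

@[simp] theorem baseEquiv_coe (f : Q → D) :
    ((baseEquiv f : ↥((rightHom : D ≀ᵣ Q →* Q).ker)) : D ≀ᵣ Q) = baseHom f := rfl

@[simp] theorem baseEquiv_symm_apply (b : ↥((rightHom : D ≀ᵣ Q →* Q).ker)) :
    baseEquiv.symm b = b.1.left := rfl

/-- Conjugation formula `w⁻¹ f w`. -/
theorem inv_mul_baseHom_mul (w : D ≀ᵣ Q) (f : Q → D) :
    w⁻¹ * baseHom f * w =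
      baseHom (fun x => (w.left (w.right * x))⁻¹ * f (w.right * x) * w.left (w.right * x)) := by
  ext x
  · simp
  · simp

/-- Conjugation formula `w f w⁻¹`. -/
theorem mul_baseHom_mul_inv (w : D ≀ᵣ Q) (f : Q → D) :
    w * baseHom f * w⁻¹ =
      baseHom (fun x => w.left x * f (w.right⁻¹ * x) * (w.left x)⁻¹) := by
  ext x
  · simp
  · simp

/-- Conjugation by `inl q` permutes the coordinates. -/
theorem inl_mul_baseHom_mul_inv (q : Q) (f : Q → D) :
    (inl q : D ≀ᵣ Q) * baseHom f * (inl q)⁻¹ = baseHom (fun x => f (q⁻¹ * x)) := by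
  rw [mul_baseHom_mul_inv]
  simp

/-- Every element is `baseHom f * inl q`. -/
theorem eq_baseHom_mul_inl (w : D ≀ᵣ Q) : w = baseHom w.left * inl w.right := by
  ext x
  · simp
  · simp

theorem ker_sup_range_inl :
    (rightHom : D ≀ᵣ Q →* Q).ker ⊔ (inl : Q →* D ≀ᵣ Q).range = ⊤ := by
  rw [eq_top_iff]
  intro w _
  rw [eq_baseHom_mul_inl w]
  exact Subgroup.mul_mem_sup (baseHom_mem_ker _) ⟨w.right, rfl⟩

theorem ker_inf_range_inl :
    (rightHom : D ≀ᵣ Q →* Q).ker ⊓ (inl : Q →* D ≀ᵣ Q).range = ⊥ := by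
  rw [eq_bot_iff]
  rintro w ⟨h1, ⟨q, rfl⟩⟩
  have : q = 1 := by simpa using (mem_ker_rightHom_iff _).mp h1
  rw [this, map_one]
  exact Subgroup.mem_bot.mpr rfl

/-- Functoriality of the regular wreath product in the first argument. -/
def mapLeft {D' : Type*} [Group D'] (j : D →* D') : D ≀ᵣ Q →* D' ≀ᵣ Q where
  toFun w := ⟨fun x => j (w.left x), w.right⟩
  map_one' := by ext <;> simp
  map_mul' a b := by ext <;> simp

theorem mapLeft_injective {D' : Type*} [Group D'] (j : D →* D') (hj : Function.Injective j) :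
    Function.Injective (mapLeft j : D ≀ᵣ Q →* D' ≀ᵣ Q) := by
  intro a b h
  have h1 := congrArg RegularWreathProduct.left h
  have h2 := congrArg RegularWreathProduct.right h
  ext x
  · apply hj
    exact congrFun h1 x
  · exact h2

section Embedding

variable {G : Type*} [Group G] (N : Subgroup G) [hN : N.Normal]

/-- The cocycle of the Krasner–Kaloujnine embedding. -/
noncomputable def kkFun (g : G) (q : G ⧸ N) : N :=
  ⟨(Quotient.out q)⁻¹ * g * Quotient.out ((g : G ⧸ N)⁻¹ * q), by
    rw [← QuotientGroup.eq_one_iff]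
    simp only [QuotientGroup.mk_mul, QuotientGroup.mk_inv, QuotientGroup.out_eq']
    group⟩

/-- The Krasner–Kaloujnine embedding of `G` into `N ≀ᵣ (G ⧸ N)`. -/
noncomputable def kkHom : G →* N ≀ᵣ (G ⧸ N) where
  toFun g := ⟨kkFun N g, (g : G ⧸ N)⟩
  map_one' := by
    ext q
    · simp [kkFun]
    · simp
  map_mul' g h := by
    ext q
    · simp only [kkFun, QuotientGroup.mk_mul, mul_inv_rev, RegularWreathProduct.mul_left,
        Pi.mul_apply, Subgroup.coe_mul]
      group
    · simp

theorem kkHom_injective : Function.Injective (kkHom N) := by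
  rw [injective_iff_map_eq_one]
  intro g hg
  have h1 := congrArg RegularWreathProduct.right hg
  have h2 := congrArg RegularWreathProduct.left hg
  have h3 : (g : G ⧸ N) = 1 := h1
  have h4 := congrFun h2 1
  have h5 : ((kkFun N g 1 : N) : G) = 1 := by
    have : kkFun N g 1 = 1 := h4
    rw [this]; rfl
  simp only [kkFun, h3, inv_one, one_mul] at h5
  have : (Quotient.out (1 : G ⧸ N))⁻¹ * g * Quotient.out (1 : G ⧸ N) = 1 := h5
  have h6 : g = Quotient.out (1 : G ⧸ N) * (Quotient.out (1 : G ⧸ N))⁻¹ := by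
    rw [mul_inv_cancel]
    calc g = Quotient.out (1 : G ⧸ N) * ((Quotient.out (1 : G ⧸ N))⁻¹ * g *
          Quotient.out (1 : G ⧸ N)) * (Quotient.out (1 : G ⧸ N))⁻¹ := by group
      _ = 1 := by rw [this]; group
  rw [h6, mul_inv_cancel]

end Embedding

end Cfsg.Agent.Lib.Helper72.Dade
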