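import Cfsg.Agent.Lib.Helper72.DadePi
import Cfsg.Agent.Lib.Helper72.DadeWreath
import Cfsg.Agent.Lib.Helper72.DadeMono
import Cfsg.Agent.Lib.Helper25.TypeP2
import Cfsg.Agent.Lib.Helper75.Twist
import Cfsg.Agent.Lib.Helper79.TI1
import Cfsg.Agent.Lib.Helper79.Ito
import Cfsg.Agent.Lib.Helper79.CliffordCorr
import Cfsg.Agent.Lib.Helper3.Induced

set_option autoImplicit false
set_option linter.unusedSectionVars false
set_option linter.style.haveILetI false

/-!
# The regular wreath product of an M-group with a group of prime order is an M-group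
(for Dade's embedding theorem, S4573)
-/

namespace Cfsg.Agent.Lib.Helper72.Dade

open Cfsg RegularWreathProduct
open scoped ComplexConjugate

universe u

variable {H Q : Type u} [Group H] [Fintype H] [Group Q] [Fintype Q] [DecidableEq Q]

/-- The base group of the regular wreath product. -/
abbrev baseKer (H Q : Type u) [Group H] [Group Q] : Subgroup (H ≀ᵣ Q) :=
  (rightHom : H ≀ᵣ Q →* Q).ker

/-- An irreducible character of the base group which is a product of monomial characters is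
monomial. -/
theorem theta_eq_ind [Fintype ↥(baseKer H Q)] (θ : ↥(baseKer H Q) → ℂ) (K : Q → Subgroup H)
    (lam : ∀ q, K q →* ℂˣ)
    (hθ : ∀ f : Q → H, θ (baseEquiv f) =
      ∏ q, indFun (K q) (fun k => ((lam q k : ℂˣ) : ℂ)) (f q)) :
    ∃ (Kb : Subgroup ↥(baseKer H Q)) (lamb : Kb →* ℂˣ),
      θ = indFun Kb (fun k => ((lamb k : ℂˣ) : ℂ)) := by
  refine ⟨(Subgroup.pi Set.univ K).map (baseEquiv (D := H) (Q := Q)).toMonoidHom,
    (piLin K lam).comp ((Subgroup.pi Set.univ K).equivMapOfInjective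
      (baseEquiv (D := H) (Q := Q)).toMonoidHom baseEquiv.injective).symm.toMonoidHom, ?_⟩
  funext b
  obtain ⟨f, rfl⟩ := (baseEquiv (D := H) (Q := Q)).surjective b
  rw [hθ, ← indFun_piLin, ← indFun_map_equiv (baseEquiv (D := H) (Q := Q))]
  rfl

/-- The subgroup of the wreath product with all coordinates in `K₀`. -/
def wrSub (K₀ : Subgroup H) : Subgroup (H ≀ᵣ Q) where
  carrier := {w | ∀ x, w.left x ∈ K₀}
  one_mem' := fun _ => K₀.one_mem
  mul_mem' := by
    intro a b ha hb x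
    exact K₀.mul_mem (ha x) (hb _)
  inv_mem' := by
    intro a ha x
    exact K₀.inv_mem (ha _)

theorem mem_wrSub (K₀ : Subgroup H) (w : H ≀ᵣ Q) : w ∈ wrSub (Q := Q) K₀ ↔ ∀ x, w.left x ∈ K₀ :=
  Iff.rfl

/-- The linear character of `wrSub K₀` obtained from a linear character of `K₀`. -/
noncomputable def wrLin (K₀ : Subgroup H) (lam₀ : K₀ →* ℂˣ) : ↥(wrSub (Q := Q) K₀) →* ℂˣ where
  toFun w := ∏ x, lam₀ ⟨w.1.left x, w.2 x⟩
  map_one' := by
    apply Finset.prod_eq_one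
    intro x _
    exact lam₀.map_one
  map_mul' := by
    intro a b
    have h1 : ∏ x, lam₀ ⟨b.1.left x, b.2 x⟩ =
        ∏ x, lam₀ ⟨b.1.left (a.1.right⁻¹ * x), b.2 _⟩ :=
      (Equiv.prod_comp (Equiv.mulLeft a.1.right⁻¹)
        (fun x => lam₀ ⟨b.1.left x, b.2 x⟩)).symm
    rw [h1, ← Finset.prod_mul_distrib]
    refine Finset.prod_congr rfl fun x _ => ?_
    rw [← lam₀.map_mul]
    rfl

theorem wrLin_apply (K₀ : Subgroup H) (lam₀ : K₀ →* ℂˣ) (w : ↥(wrSub (Q := Q) K₀)) :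
    ((wrLin K₀ lam₀ w : ℂˣ) : ℂ) = ∏ x, ((lam₀ ⟨w.1.left x, w.2 x⟩ : ℂˣ) : ℂ) := by
  unfold wrLin
  simp

theorem extendByZero_wrLin (K₀ : Subgroup H) (lam₀ : K₀ →* ℂˣ) (g : Q → H) :
    extendByZero (wrSub (Q := Q) K₀) (fun w => ((wrLin K₀ lam₀ w : ℂˣ) : ℂ)) (baseHom g) =
      ∏ x, extendByZero K₀ (fun k => ((lam₀ k : ℂˣ) : ℂ)) (g x) := by
  by_cases hg : baseHom g ∈ wrSub (Q := Q) K₀
  · rw [Cfsg.Agent.Lib.Helper25.extendByZero_of_mem _ _ hg, wrLin_apply]
    refine Finset.prod_congr rfl fun x _ => ?_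
    have hx : g x ∈ K₀ := hg x
    rw [Cfsg.Agent.Lib.Helper25.extendByZero_of_mem _ _ hx]
    rfl
  · rw [Cfsg.Agent.Lib.Helper25.extendByZero_of_not_mem _ _ hg]
    have : ∃ x, g x ∉ K₀ := by
      by_contra h
      push Not at h
      exact hg fun x => h x
    obtain ⟨x, hx⟩ := this
    symm
    apply Finset.prod_eq_zero (Finset.mem_univ x)
    exact Cfsg.Agent.Lib.Helper25.extendByZero_of_not_mem _ _ hx

theorem card_wrSub (K₀ : Subgroup H) :
    Nat.card ↥(wrSub (Q := Q) K₀) = Nat.card K₀ ^ Nat.card Q * Nat.card Q := by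
  rw [← Nat.card_fun, ← Nat.card_prod]
  apply Nat.card_congr
  exact
    { toFun := fun w => (fun x => ⟨w.1.left x, w.2 x⟩, w.1.right)
      invFun := fun p => ⟨⟨fun x => (p.1 x).1, p.2⟩, fun x => (p.1 x).2⟩
      left_inv := fun _ => rfl
      right_inv := fun _ => rfl }

/-- The restriction to the base group of the character induced from `wrLin`. -/
theorem indFun_wrLin_base [Fintype (H ≀ᵣ Q)] (K₀ : Subgroup H) (lam₀ : K₀ →* ℂˣ) (f : Q → H) :
    indFun (wrSub (Q := Q) K₀) (fun w => ((wrLin K₀ lam₀ w : ℂˣ) : ℂ)) (baseHom f) =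
      ∏ q, indFun K₀ (fun k => ((lam₀ k : ℂˣ) : ℂ)) (f q) := by
  unfold indFun
  rw [Finset.prod_mul_distrib, card_wrSub]
  have hsum : ∑ w : H ≀ᵣ Q, extendByZero (wrSub (Q := Q) K₀)
        (fun w => ((wrLin K₀ lam₀ w : ℂˣ) : ℂ)) (w⁻¹ * baseHom f * w) =
      (Nat.card Q : ℂ) * ∏ q, ∑ h : H,
        extendByZero K₀ (fun k => ((lam₀ k : ℂˣ) : ℂ)) (h⁻¹ * f q * h) := by
    rw [← sum_prod_conj (fun _ => extendByZero K₀ (fun k => ((lam₀ k : ℂˣ) : ℂ))) f]
    have h1 : ∑ w : H ≀ᵣ Q, extendByZero (wrSub (Q := Q) K₀)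
          (fun w => ((wrLin K₀ lam₀ w : ℂˣ) : ℂ)) (w⁻¹ * baseHom f * w) =
        ∑ p : (Q → H) × Q, extendByZero (wrSub (Q := Q) K₀)
          (fun w => ((wrLin K₀ lam₀ w : ℂˣ) : ℂ))
          ((⟨p.1, p.2⟩ : H ≀ᵣ Q)⁻¹ * baseHom f * ⟨p.1, p.2⟩) :=
      Fintype.sum_equiv (equivProd H Q) _ _ (fun w => rfl)
    rw [h1, Fintype.sum_prod_type]
    have hterm : ∀ (a : Q → H) (q : Q), extendByZero (wrSub (Q := Q) K₀)
        (fun w => ((wrLin K₀ lam₀ w : ℂˣ) : ℂ))
        ((⟨a, q⟩ : H ≀ᵣ Q)⁻¹ * baseHom f * ⟨a, q⟩) =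
        ∏ y, extendByZero K₀ (fun k => ((lam₀ k : ℂˣ) : ℂ)) ((a y)⁻¹ * f y * a y) := by
      intro a q
      rw [inv_mul_baseHom_mul, extendByZero_wrLin]
      exact Equiv.prod_comp (Equiv.mulLeft q)
        (fun y => extendByZero K₀ (fun k => ((lam₀ k : ℂˣ) : ℂ)) ((a y)⁻¹ * f y * a y))
    simp only [hterm]
    rw [Finset.mul_sum]
    refine Finset.sum_congr rfl fun a _ => ?_
    rw [Finset.sum_const, Finset.card_univ, nsmul_eq_mul, Nat.card_eq_fintype_card]
  rw [hsum]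
  have hQ0 : (Nat.card Q : ℂ) ≠ 0 := by
    exact_mod_cast (Nat.card_pos (α := Q)).ne'
  have hK0 : (Nat.card K₀ : ℂ) ≠ 0 := by
    exact_mod_cast (Nat.card_pos (α := K₀)).ne'
  rw [Finset.prod_const, Finset.card_univ, ← Nat.card_eq_fintype_card]
  push_cast
  have hKn : ((Nat.card K₀ : ℂ) ^ Nat.card Q) ≠ 0 := pow_ne_zero _ hK0
  rw [inv_pow]
  field_simp

/-- **Key lemma.** The regular wreath product of an M-group with a group of prime order is an
M-group. -/
theorem wreath_isMGroup [Fintype (H ≀ᵣ Q)] (hH : IsMGroup H) (hQ : (Nat.card Q).Prime) :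
    IsMGroup (H ≀ᵣ Q) := by
  classical
  intro χ hχ
  haveI : Fintype ↥(baseKer H Q) := Fintype.ofFinite _
  have hχc := Cfsg.Agent.Lib.Helper3.IsIrrCharacter.isCharacter hχ
  have hχcl := Cfsg.Agent.Lib.Helper3.IsCharacter.isClassFunction hχc
  obtain ⟨θ, hθ, hne⟩ :=
    Cfsg.Agent.Lib.Helper79.exists_irr_constituent_restrict (baseKer H Q) hχ
  have hθ' : IsIrrCharacter (Q → H) (fun f => θ (baseEquiv f)) :=
    Cfsg.Agent.Lib.Helper79.isIrrCharacter_comp_surjective hθ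
      (baseEquiv (D := H) (Q := Q)).toMonoidHom baseEquiv.surjective
  obtain ⟨φ, hφ, hφθ⟩ := irr_pi _ hθ'
  have hφθ' : ∀ f : Q → H, θ (baseEquiv f) = ∏ q, φ q (f q) := fun f => congrFun hφθ f
  by_cases hinv : (inl : Q →* H ≀ᵣ Q).range ≤
      Cfsg.Agent.Lib.Helper79.inertia (baseKer H Q) θ
  · -- the invariant case
    have hshift : ∀ (q : Q) (f : Q → H), ∏ x, φ x (f (q⁻¹ * x)) = ∏ x, φ x (f x) := by
      intro q f
      rw [← hφθ', ← hφθ']
      have hq : (inl q : H ≀ᵣ Q) ∈ Cfsg.Agent.Lib.Helper79.inertia (baseKer H Q) θ :=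
        hinv ⟨q, rfl⟩
      rw [Cfsg.Agent.Lib.Helper79.mem_inertia] at hq
      have h2 := congrFun hq (baseEquiv f)
      rw [Cfsg.Agent.Lib.Helper75.conjFun_apply] at h2
      rw [← h2]
      congr 1
      apply Subtype.ext
      show baseHom (fun x => f (q⁻¹ * x)) = inl q * baseHom f * (inl q)⁻¹
      exact (inl_mul_baseHom_mul_inv q f).symm
    have hconst := const_of_shift_invariant φ hφ hshift
    obtain ⟨K₀, lam₀, hK₀⟩ := hH (φ 1) (hφ 1)
    set ψ : H ≀ᵣ Q → ℂ :=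
      indFun (wrSub (Q := Q) K₀) (fun w => ((wrLin K₀ lam₀ w : ℂˣ) : ℂ)) with hψ
    have hψB : (fun b : ↥(baseKer H Q) => ψ b) = θ := by
      funext b
      obtain ⟨f, rfl⟩ := (baseEquiv (D := H) (Q := Q)).surjective b
      rw [hφθ']
      show ψ (baseHom f) = _
      rw [hψ, indFun_wrLin_base]
      refine Finset.prod_congr rfl fun q _ => ?_
      rw [hconst q, hK₀]
    have hψc : IsCharacter (H ≀ᵣ Q) ψ :=
      Cfsg.Agent.Lib.Helper3.isCharacter_indFun _
        (Cfsg.Agent.Lib.Helper3.IsIrrCharacter.isCharacter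
          (Cfsg.Agent.Lib.Helper79.isIrrCharacter_of_monoidHom (wrLin K₀ lam₀)))
    have hψirr : IsIrrCharacter (H ≀ᵣ Q) ψ :=
      Cfsg.Agent.Lib.Helper79.isIrrCharacter_of_restrict_irr (baseKer H Q) hψc (by rw [hψB]; exact hθ)
    haveI : Fact (Nat.card Q).Prime := ⟨hQ⟩
    have hcyc : IsCyclic Q := isCyclic_of_prime_card rfl
    have hab : ∀ x y : H ≀ᵣ Q, x * y * x⁻¹ * y⁻¹ ∈ baseKer H Q := by
      intro x y
      rw [mem_ker_rightHom_iff]
      simp only [RegularWreathProduct.mul_right, RegularWreathProduct.inv_right]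
      have := Std.Commutative.comm (op := (· * · : Q → Q → Q)) x.right y.right
      calc x.right * y.right * x.right⁻¹ * y.right⁻¹
          = y.right * x.right * x.right⁻¹ * y.right⁻¹ := by rw [show x.right * y.right = y.right * x.right from this]
        _ = 1 := by group
    have hne' : classInner (fun n : ↥(baseKer H Q) => χ n) (fun n : ↥(baseKer H Q) => ψ n) ≠ 0 := by
      rw [hψB]; exact hne
    obtain ⟨β, hβirr, hβ1, -, hχeq⟩ :=
      Cfsg.Agent.Lib.Helper75.exists_linear_twist (baseKer H Q) hab hχ hψirr hne'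
    obtain ⟨βh, hβh⟩ := Cfsg.Agent.Lib.Helper79.exists_monoidHom_of_isCharacter_of_one
      (Cfsg.Agent.Lib.Helper3.IsIrrCharacter.isCharacter hβirr) hβ1
    have hβf : β = fun g => ((βh g : ℂˣ) : ℂ) := funext hβh
    rw [hχeq, hβf]
    exact IsMono.mul_hom ⟨_, _, rfl⟩ βh
  · -- the non-invariant case
    haveI : Fact (Nat.card ↥((inl : Q →* H ≀ᵣ Q).range)).Prime := by
      constructor
      have : Nat.card ↥((inl : Q →* H ≀ᵣ Q).range) = Nat.card Q := by
        apply Nat.card_congr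
        exact (MonoidHom.ofInjective (f := (inl : Q →* H ≀ᵣ Q)) (by
          intro a b h
          have := congrArg RegularWreathProduct.right h
          simpa using this)).toEquiv.symm
      rw [this]; exact hQ
    have hfree : ∀ y ∈ (inl : Q →* H ≀ᵣ Q).range, y ≠ 1 →
        Cfsg.Agent.Lib.Helper75.conjFun (baseKer H Q) y θ ≠ θ := by
      intro y hy hy1 hfix
      apply hinv
      have hyI : y ∈ Cfsg.Agent.Lib.Helper79.inertia (baseKer H Q) θ := hfix
      rcases Subgroup.eq_bot_or_eq_top_of_prime_card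
        ((Cfsg.Agent.Lib.Helper79.inertia (baseKer H Q) θ).subgroupOf
          ((inl : Q →* H ≀ᵣ Q).range)) with h | h
      · exfalso
        have hmem : (⟨y, hy⟩ : ↥((inl : Q →* H ≀ᵣ Q).range)) ∈
            (Cfsg.Agent.Lib.Helper79.inertia (baseKer H Q) θ).subgroupOf
              ((inl : Q →* H ≀ᵣ Q).range) := by
          rw [Subgroup.mem_subgroupOf]; exact hyI
        rw [h, Subgroup.mem_bot] at hmem
        exact hy1 (congrArg Subtype.val hmem)
      · exact Subgroup.subgroupOf_eq_top.mp h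
    have hirr := Cfsg.Agent.Lib.Helper25.typeP_ind_irreducible (baseKer H Q)
      ((inl : Q →* H ≀ᵣ Q).range) ker_inf_range_inl ker_sup_range_inl hθ hfree
    have hχeq : χ = indFun (baseKer H Q) θ := by
      have h1 := Cfsg.Agent.Lib.Helper25.frobenius_reciprocity' (baseKer H Q) θ χ hχcl
      rw [Cfsg.Agent.Lib.Helper3.classInner_irr hχ hirr] at h1
      by_contra hne2
      rw [if_neg hne2] at h1
      exact hne h1.symm
    choose K lam hK using fun q => hH (φ q) (hφ q)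
    obtain ⟨Kb, lamb, hKb⟩ := theta_eq_ind θ K lam (by
      intro f
      rw [hφθ']
      refine Finset.prod_congr rfl fun q _ => ?_
      rw [hK q])
    rw [hχeq, hKb]
    exact isMono_ind_ind (baseKer H Q) Kb lamb

end Cfsg.Agent.Lib.Helper72.Dade
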