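import Cfsg.Agent.Lib.Helper81.ProdIrr
import Cfsg.Agent.Lib.Helper81.FTLemma
import Cfsg.Agent.Lib.Helper79.Basic
import Cfsg.Agent.Lib.Helper25.Ind

set_option autoImplicit false
set_option linter.unusedSectionVars false
set_option linter.style.haveILetI false

/-!
# Irreducible characters of finite powers of a group, and induction in them
(for Dade's embedding theorem, S4573)
-/

namespace Cfsg.Agent.Lib.Helper72.Dade

open Cfsg
open scoped ComplexConjugate

universe u

variable {H : Type u} [Group H]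

/-- Irreducible characters of `Fin n → H` are products of irreducible characters of `H`. -/
theorem irr_pi_fin [Finite H] : ∀ (n : ℕ) (θ : (Fin n → H) → ℂ), IsIrrCharacter (Fin n → H) θ →
    ∃ φ : Fin n → (H → ℂ), (∀ i, IsIrrCharacter H (φ i)) ∧ θ = fun f => ∏ i, φ i (f i) := by
  intro n
  induction n with
  | zero =>
    intro θ hθ
    refine ⟨fun i => i.elim0, fun i => i.elim0, ?_⟩
    funext f
    have hf : f = 1 := Subsingleton.elim _ _
    haveI : Fintype (Fin 0 → H) := Fintype.ofFinite _
    have h1 := Cfsg.Agent.Lib.Helper81.irr_apply_one_of_comm (A := Fin 0 → H)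
      (fun a b => Subsingleton.elim _ _) hθ
    rw [hf, h1]
    simp
  | succ n ih =>
    intro θ hθ
    -- the iso (Fin (n+1) → H) ≃* H × (Fin n → H)
    let e : (H × (Fin n → H)) →* (Fin (n + 1) → H) :=
      { toFun := fun x => Fin.cons x.1 x.2
        map_one' := by
          funext i
          refine Fin.cases ?_ (fun j => ?_) i <;> simp
        map_mul' := by
          intro x y
          funext i
          refine Fin.cases ?_ (fun j => ?_) i <;> simp }
    have he : Function.Surjective e := by
      intro f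
      refine ⟨(f 0, Fin.tail f), ?_⟩
      show Fin.cons (f 0) (Fin.tail f) = f
      exact Fin.cons_self_tail f
    have hθ' : IsIrrCharacter (H × (Fin n → H)) (fun x => θ (e x)) :=
      Cfsg.Agent.Lib.Helper79.isIrrCharacter_comp_surjective hθ e he
    obtain ⟨α, β, hα, hβ, hαβ⟩ :=
      (Cfsg.Agent.Lib.Helper81.isIrrCharacter_prod_iff _).mp hθ'
    obtain ⟨φ, hφ, hβφ⟩ := ih β hβ
    refine ⟨Fin.cons α φ, ?_, ?_⟩
    · intro i
      refine Fin.cases ?_ (fun j => ?_) i
      · simpa using hα
      · simpa using hφ j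
    · funext f
      have h1 := congrFun hαβ (f 0, Fin.tail f)
      have h2 : e (f 0, Fin.tail f) = f := Fin.cons_self_tail f
      simp only [h2] at h1
      rw [h1, hβφ, Fin.prod_univ_succ]
      simp [Fin.tail]

/-- Irreducible characters of `Q → H` (`Q` finite) are products of irreducible characters. -/
theorem irr_pi [Finite H] {Q : Type u} [Fintype Q] (θ : (Q → H) → ℂ)
    (hθ : IsIrrCharacter (Q → H) θ) :
    ∃ φ : Q → (H → ℂ), (∀ q, IsIrrCharacter H (φ q)) ∧ θ = fun f => ∏ q, φ q (f q) := by
  classical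
  let σ : Q ≃ Fin (Fintype.card Q) := Fintype.equivFin Q
  let e : (Fin (Fintype.card Q) → H) →* (Q → H) :=
    { toFun := fun f => fun q => f (σ q)
      map_one' := rfl
      map_mul' := fun _ _ => rfl }
  have he : Function.Surjective e := by
    intro g
    refine ⟨fun i => g (σ.symm i), ?_⟩
    funext q
    show g (σ.symm (σ q)) = g q
    rw [Equiv.symm_apply_apply]
  have hθ' := Cfsg.Agent.Lib.Helper79.isIrrCharacter_comp_surjective hθ e he
  obtain ⟨φ, hφ, hφθ⟩ := irr_pi_fin _ _ hθ'
  refine ⟨fun q => φ (σ q), fun q => hφ _, ?_⟩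
  funext g
  have h1 := congrFun hφθ (fun i => g (σ.symm i))
  have h2 : e (fun i => g (σ.symm i)) = g := by
    funext q
    show g (σ.symm (σ q)) = g q
    rw [Equiv.symm_apply_apply]
  simp only [h2] at h1
  rw [h1]
  refine (Fintype.prod_equiv σ _ _ ?_).symm
  intro q
  rw [Equiv.symm_apply_apply]

section Ind

variable [Fintype H] {Q : Type u} [Fintype Q] [DecidableEq Q]

/-- The product of linear characters on a product of subgroups. -/
noncomputable def piLin (K : Q → Subgroup H) (lam : ∀ q, K q →* ℂˣ) :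
    ↥(Subgroup.pi Set.univ K) →* ℂˣ where
  toFun k := ∏ q, lam q ⟨k.1 q, (Subgroup.mem_pi _).mp k.2 q (Set.mem_univ q)⟩
  map_one' := by
    apply Finset.prod_eq_one
    intro q _
    exact (lam q).map_one
  map_mul' := by
    intro a b
    rw [← Finset.prod_mul_distrib]
    refine Finset.prod_congr rfl fun q _ => ?_
    rw [← (lam q).map_mul]
    rfl

theorem piLin_apply (K : Q → Subgroup H) (lam : ∀ q, K q →* ℂˣ)
    (k : ↥(Subgroup.pi Set.univ K)) :
    ((piLin K lam k : ℂˣ) : ℂ) =
      ∏ q, ((lam q ⟨k.1 q, (Subgroup.mem_pi _).mp k.2 q (Set.mem_univ q)⟩ : ℂˣ) : ℂ) := by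
  unfold piLin
  simp

/-- Extension by zero of a product of linear characters is the product of the extensions. -/
theorem extendByZero_piLin (K : Q → Subgroup H) (lam : ∀ q, K q →* ℂˣ) (g : Q → H) :
    extendByZero (Subgroup.pi Set.univ K) (fun k => ((piLin K lam k : ℂˣ) : ℂ)) g =
      ∏ q, extendByZero (K q) (fun k => ((lam q k : ℂˣ) : ℂ)) (g q) := by
  by_cases hg : g ∈ Subgroup.pi Set.univ K
  · rw [Cfsg.Agent.Lib.Helper25.extendByZero_of_mem _ _ hg, piLin_apply]
    refine Finset.prod_congr rfl fun q _ => ?_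
    rw [Cfsg.Agent.Lib.Helper25.extendByZero_of_mem _ _
      ((Subgroup.mem_pi _).mp hg q (Set.mem_univ q))]
  · rw [Cfsg.Agent.Lib.Helper25.extendByZero_of_not_mem _ _ hg]
    have : ∃ q, g q ∉ K q := by
      by_contra h
      push Not at h
      exact hg ((Subgroup.mem_pi _).mpr fun q _ => h q)
    obtain ⟨q, hq⟩ := this
    symm
    apply Finset.prod_eq_zero (Finset.mem_univ q)
    exact Cfsg.Agent.Lib.Helper25.extendByZero_of_not_mem _ _ hq

theorem card_pi_subgroup (K : Q → Subgroup H) :
    Nat.card ↥(Subgroup.pi Set.univ K) = ∏ q, Nat.card (K q) := by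
  rw [← Nat.card_pi]
  apply Nat.card_congr
  exact
    { toFun := fun k q => ⟨k.1 q, (Subgroup.mem_pi _).mp k.2 q (Set.mem_univ q)⟩
      invFun := fun k => ⟨fun q => (k q).1, (Subgroup.mem_pi _).mpr fun q _ => (k q).2⟩
      left_inv := fun _ => rfl
      right_inv := fun _ => rfl }

/-- The sum over conjugators in a power of `H` of a product is the product of the sums. -/
theorem sum_prod_conj (F : Q → H → ℂ) (f : Q → H) :
    ∑ x : Q → H, ∏ q, F q ((x q)⁻¹ * f q * x q) = ∏ q, ∑ h : H, F q (h⁻¹ * f q * h) := by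
  rw [Finset.prod_univ_sum, Fintype.piFinset_univ]

/-- Induction in a power of `H` from a product of subgroups of a product of linear characters. -/
theorem indFun_piLin (K : Q → Subgroup H) (lam : ∀ q, K q →* ℂˣ) (f : Q → H) :
    indFun (Subgroup.pi Set.univ K) (fun k => ((piLin K lam k : ℂˣ) : ℂ)) f =
      ∏ q, indFun (K q) (fun k => ((lam q k : ℂˣ) : ℂ)) (f q) := by
  unfold indFun
  rw [Finset.prod_mul_distrib, card_pi_subgroup]
  congr 1
  · push_cast
    rw [Finset.prod_inv_distrib]
  · rw [← sum_prod_conj]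
    refine Finset.sum_congr rfl fun x _ => ?_
    rw [extendByZero_piLin]
    rfl

end Ind

/-- A product of irreducible characters indexed by a group `Q` which is invariant under the
regular shifts has all its factors equal. -/
theorem const_of_shift_invariant [Fintype H] {Q : Type u} [Group Q] [Fintype Q] [DecidableEq Q]
    (φ : Q → H → ℂ) (hφ : ∀ q, IsIrrCharacter H (φ q))
    (hinv : ∀ (q : Q) (f : Q → H), ∏ x, φ x (f (q⁻¹ * x)) = ∏ x, φ x (f x)) :
    ∀ q, φ q = φ 1 := by
  intro q
  have hne : ∀ x, φ x 1 ≠ 0 := fun x =>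
    Cfsg.Agent.Lib.Helper81.irr_apply_one_ne_zero ⟨φ x, hφ x⟩
  set A : ℂ := ∏ x ∈ Finset.univ.erase q, φ x 1 with hA
  set B : ℂ := ∏ x ∈ Finset.univ.erase (1 : Q), φ x 1 with hB
  have hA0 : A ≠ 0 := Finset.prod_ne_zero_iff.mpr fun x _ => hne x
  have hB0 : B ≠ 0 := Finset.prod_ne_zero_iff.mpr fun x _ => hne x
  have key : ∀ h : H, φ q h * A = φ 1 h * B := by
    intro h
    have h1 := hinv q (Pi.mulSingle 1 h)
    rw [← Finset.mul_prod_erase Finset.univ _ (Finset.mem_univ q),
      ← Finset.mul_prod_erase Finset.univ _ (Finset.mem_univ (1 : Q))] at h1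
    have e1 : (Pi.mulSingle (1 : Q) h : Q → H) (q⁻¹ * q) = h := by
      rw [inv_mul_cancel, Pi.mulSingle_eq_same]
    have e2 : (Pi.mulSingle (1 : Q) h : Q → H) 1 = h := Pi.mulSingle_eq_same _ _
    rw [e1, e2] at h1
    have e3 : ∏ x ∈ Finset.univ.erase q, φ x ((Pi.mulSingle (1 : Q) h : Q → H) (q⁻¹ * x)) = A := by
      refine Finset.prod_congr rfl fun x hx => ?_
      have hxq : x ≠ q := Finset.ne_of_mem_erase hx
      have : q⁻¹ * x ≠ 1 := by
        intro h'
        apply hxq
        have := congrArg (fun t => q * t) h'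
        simpa using this
      rw [Pi.mulSingle_eq_of_ne this]
    have e4 : ∏ x ∈ Finset.univ.erase (1 : Q), φ x ((Pi.mulSingle (1 : Q) h : Q → H) x) = B := by
      refine Finset.prod_congr rfl fun x hx => ?_
      have hx1 : x ≠ 1 := Finset.ne_of_mem_erase hx
      rw [Pi.mulSingle_eq_of_ne hx1]
    rw [e3, e4] at h1
    exact h1
  have hsm : φ q = (B / A) • φ 1 := by
    funext h
    have := key h
    simp only [Pi.smul_apply, smul_eq_mul]
    field_simp
    linear_combination this
  have h1 : classInner (φ q) (φ 1) = B / A := by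
    rw [hsm, Cfsg.Agent.Lib.Helper25.classInner_smul_left,
      Cfsg.Agent.Lib.Helper3.classInner_irr (hφ 1) (hφ 1), if_pos rfl, mul_one]
  rw [Cfsg.Agent.Lib.Helper3.classInner_irr (hφ q) (hφ 1)] at h1
  by_contra hne'
  rw [if_neg hne'] at h1
  have : B / A ≠ 0 := div_ne_zero hB0 hA0
  exact this h1.symm

end Cfsg.Agent.Lib.Helper72.Dade
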