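import Cfsg.Agent.Lib.Helper36.ChevTwE6
import Cfsg.Agent.Lib.Helper36.ChevTwTorus

/-! # E6g mini-hive (S2406, owner helper72): `²E₆(q)` is generated by two elements - common definitions

`E₆` numbering of `chevE6`: `p₁ = 56, p₂ = 46, p₃ = 42, p₄ = 39, p₅ = 37, p₆ = 36`, `neg r = 71 - r`; the graph
automorphism swaps `p₁ ↔ p₆`, `p₃ ↔ p₅`.  `K` is the field with `q²` elements, `z` a generator of `Kˣ`.
* `l0 = [0,5,2,4,3,1]` : the Coxeter word (fundamental reflections grouped by `ρ`-orbits), `nE = nWordGL l0`;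
* `yE t = x₅₆(t) x₃₆(t^q)`, `hE z = h₅₆(z) h₃₆(z^q)`;
* generators `aE = hE z * x₄₆(1)`, `bE = yE 1 * nE`. -/

set_option autoImplicit false

namespace Cfsg.Agent.Lib.Helper72.E6g

open Cfsg Cfsg.Lie Cfsg.Agent.Lib.Helper36

/-- the Coxeter word -/
def l0 : List ℕ := [0, 5, 2, 4, 3, 1]

/-- `k` copies of the Coxeter word -/
def lk (k : ℕ) : List ℕ := (List.replicate k l0).flatten

variable (K : Type*) [Field K]

/-- root element of `E₆(K)` -/
noncomputable abbrev xe (r : ℕ) (t : K) : GL chevE6.Idx K := xGL chevE6 hE6 K r t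

/-- torus element of `E₆(K)` -/
noncomputable abbrev he (r : ℕ) (c : K) : GL chevE6.Idx K := hGL chevE6 hE6 K r c

/-- the Coxeter lift -/
noncomputable def nE : GL chevE6.Idx K := nWordGL chevE6 hE6 K l0

/-- the twisted root element of the orbit `{p₁, p₆}` -/
noncomputable def yE (q : ℕ) (t : K) : GL chevE6.Idx K := xe K 56 t * xe K 36 (t ^ q)

/-- the twisted torus element of the orbit `{p₁, p₆}` -/
noncomputable def hE (q : ℕ) (z : K) : GL chevE6.Idx K := he K 56 z * he K 36 (z ^ q)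

/-- first generator -/
noncomputable def aE (q : ℕ) (z : K) : GL chevE6.Idx K := hE K q z * xe K 46 1

/-- second generator -/
noncomputable def bE (q : ℕ) : GL chevE6.Idx K := yE K q 1 * nE K

end Cfsg.Agent.Lib.Helper72.E6g
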