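import Cfsg.Agent.Lib.Helper72.E6gDefs
import Cfsg.Agent.Lib.Helper36.ChevTwRank1
import Cfsg.Agent.Lib.Helper40.C2gTorus
import Cfsg.Agent.Lib.Helper75.C2gGen
import Cfsg.Agent.Lib.Helper24.E6gRANK1
import Cfsg.Agent.Lib.Helper25.E6gFIELD
import Cfsg.Agent.Lib.Helper5.E6gTORCOMM
import Cfsg.Agent.Lib.Helper5.E6gTCONJ
import Cfsg.Agent.Lib.Helper90.E6gYADD
import Cfsg.Agent.Lib.Helper54.E6gSEP
import Cfsg.Agent.Lib.Helper88.E6gNCONJ
import Cfsg.Agent.Lib.Helper61.E6gMEM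

/-! # E6g mini-hive (S2406, owner helper72): `²E₆(q)` is generated by two elements - assembly

`a = h₅₆(z) h₃₆(z^q) x₄₆(1)`, `b = x₅₆(1) x₃₆(1) n` with `n` the Coxeter lift of the word `[0,5,2,4,3,1]`.
`a^|K| = h` separates the torus part; the rank one trick (`rank1_fill`) gives the whole twisted root group of `{p₁,p₆}` and
`n`; the powers of `n` carry it to `{p₃,p₅}` and to the negatives; a conjugate of `h` acting on `X₄₆` through `N(z)⁻¹`
fills `X₄₆(F_q)`, and powers of `n` carry it to `-p₂, ±p₄`. -/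

set_option autoImplicit false
set_option maxRecDepth 100000

namespace Cfsg.Agent.Lib.Helper72.E6g

open Cfsg Cfsg.Lie Cfsg.Agent.Lib.Helper36 Cfsg.Agent.Lib.Helper40.C2g

variable {K : Type*} [Field K]

/-- E6G-TAB: the table facts -/
theorem tab_roots :
    wRoot chevE6 (lk 1) 56 = 42 ∧ wRoot chevE6 (lk 1) 36 = 37 ∧
    wRoot chevE6 (lk 2) 56 = 41 ∧ wRoot chevE6 (lk 2) 36 = 58 ∧
    wRoot chevE6 (lk 6) 56 = 35 ∧ wRoot chevE6 (lk 6) 36 = 15 ∧
    wRoot chevE6 (lk 7) 56 = 34 ∧ wRoot chevE6 (lk 7) 36 = 29 ∧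
    wRoot chevE6 (lk 5) 46 = 32 ∧ wRoot chevE6 (lk 6) 46 = 25 ∧ wRoot chevE6 (lk 11) 46 = 39 := by decide +kernel

theorem tab_signs :
    wSign chevE6 (lk 1) 56 = 1 ∧ wSign chevE6 (lk 1) 36 = 1 ∧
    wSign chevE6 (lk 6) 56 = -1 ∧ wSign chevE6 (lk 6) 36 = -1 ∧
    wSign chevE6 (lk 7) 56 = -1 ∧ wSign chevE6 (lk 7) 36 = -1 ∧
    (wSign chevE6 (lk 5) 46 = 1 ∨ wSign chevE6 (lk 5) 46 = -1) ∧
    (wSign chevE6 (lk 6) 46 = 1 ∨ wSign chevE6 (lk 6) 46 = -1) ∧
    (wSign chevE6 (lk 11) 46 = 1 ∨ wSign chevE6 (lk 11) 46 = -1) := by decide +kernel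

/-- the orthogonal pairs commute (own copy of the leaf E6G-COMM) -/
theorem e6g_comm_pairs (t u : K) :
    Commute (xe K 56 t) (xe K 36 u) ∧ Commute (xe K 15 t) (xe K 35 u) ∧ Commute (xe K 29 t) (xe K 34 u) := by
  refine ⟨?_, ?_, ?_⟩
  · exact Cfsg.Agent.Lib.Helper67.C2g.xGL_comm_of_nil chevE6 hE6 K 36 56 (by decide) (by decide) (by decide) (by decide)
      (by decide +kernel) u t
  · exact Cfsg.Agent.Lib.Helper67.C2g.xGL_comm_of_nil chevE6 hE6 K 35 15 (by decide) (by decide) (by decide) (by decide)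
      (by decide +kernel) u t
  · exact Cfsg.Agent.Lib.Helper67.C2g.xGL_comm_of_nil chevE6 hE6 K 34 29 (by decide) (by decide) (by decide) (by decide)
      (by decide +kernel) u t

/-! ## Assembly (helper72) -/

/-- transfer to the subtype -/
theorem two_gen_subtype {G : Type*} [Group G] (H : Subgroup G) (g1 g2 : G) (h1 : g1 ∈ H) (h2 : g2 ∈ H)
    (h : H ≤ Subgroup.closure {g1, g2}) :
    ∃ a b : ↥H, Subgroup.closure ({a, b} : Set ↥H) = ⊤ := by
  refine ⟨⟨g1, h1⟩, ⟨g2, h2⟩, ?_⟩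
  rw [eq_top_iff]
  intro x _
  have hx := h x.2
  have hmap : (Subgroup.closure ({⟨g1, h1⟩, ⟨g2, h2⟩} : Set ↥H)).map H.subtype =
      Subgroup.closure {g1, g2} := by
    rw [MonoidHom.map_closure]
    congr 1
    ext y
    simp [Set.image_pair]
  rw [← hmap] at hx
  obtain ⟨y, hy, hyx⟩ := hx
  have : y = x := Subtype.ext hyx
  rwa [← this]

theorem e6g_main (K : Type*) [Field K] [Fintype K] (q : ℕ) (hq : IsPrimePow q) (hK : Fintype.card K = q ^ 2) :
    ∃ a b : ↥(Cfsg.Lie.twistedE6 K q), Subgroup.closure ({a, b} : Set ↥(Cfsg.Lie.twistedE6 K q)) = ⊤ := by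
  obtain ⟨φ, hφ⟩ := exists_frob hq 2 hK
  obtain ⟨z, hz0, hgen⟩ := exists_field_generator K
  have hq2 : 2 ≤ q := hq.two_le
  obtain ⟨hz1, hz2, hginv, hfix⟩ := field_facts hq2 hK z hz0 hgen
  have hzq0 : z ^ q ≠ 0 := pow_ne_zero _ hz0
  have hqq : ∀ t : K, (t ^ q) ^ q = t := by
    intro t
    rw [← pow_mul, show q * q = q ^ 2 by ring, ← hK]
    exact FiniteField.pow_card t
  have hnegq : ∀ t : K, (-t) ^ q = -(t ^ q) := by
    intro t
    rw [← hφ, ← hφ, map_neg]
  apply two_gen_subtype (Cfsg.Lie.twistedE6 K q) (aE K q z) (bE K q) (aE_mem q hq hK z hz0) (bE_mem q hq hK)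
  set K0 : Subgroup (GL chevE6.Idx K) := Subgroup.closure {aE K q z, bE K q} with hK0
  have ha : aE K q z ∈ K0 := Subgroup.subset_closure (by simp)
  have hb : bE K q ∈ K0 := Subgroup.subset_closure (by simp)
  -- step 1: separation
  have hh : hE K q z ∈ K0 := by
    rw [← aE_pow_card q z hz0]
    exact pow_mem ha _
  have hx46 : xe K 46 1 ∈ K0 := by
    have : xe K 46 1 = (hE K q z)⁻¹ * aE K q z := by
      unfold aE
      group
    rw [this]
    exact mul_mem (inv_mem hh) ha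
  -- step 2: the rank one trick
  obtain ⟨t42, t37, t41, t58, t35, t15, t34, t29, t32, t25, t39⟩ := tab_roots
  obtain ⟨s42, s37, s35, s15, s34, s29, s32, s25, s39⟩ := tab_signs
  have ha1 : nE K * hE K q z * (nE K)⁻¹ = he K 42 z * he K 37 (z ^ q) := by
    have e1 := nE_pow_conj_h (K := K) 1 56 (by norm_num) z hz0
    have e2 := nE_pow_conj_h (K := K) 1 36 (by norm_num) (z ^ q) hzq0
    rw [pow_one, t42] at e1
    rw [pow_one, t37] at e2
    rw [← e1, ← e2]
    unfold hE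
    group
  have hy_all : (∀ t, yE K q t ∈ K0) ∧ nE K ∈ K0 := by
    refine rank1_fill (yE K q) (hE K q z) (nE K) (z ^ 2) z⁻¹ (yE_add q φ hφ) (hE_conj_y q z hz0) ?_ ?_ hz2
      (inv_ne_zero hz0) ?_ hginv K0 hh hb
    · intro t
      rw [ha1]
      exact a1_conj_y q z hz0 t
    · rw [ha1]
      unfold hE
      have c1 := hGL_commute chevE6 hE6 K 56 42 (by decide) (by decide) z z hz0 hz0
      have c2 := hGL_commute chevE6 hE6 K 56 37 (by decide) (by decide) z (z ^ q) hz0 hzq0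
      have c3 := hGL_commute chevE6 hE6 K 36 42 (by decide) (by decide) (z ^ q) z hzq0 hz0
      have c4 := hGL_commute chevE6 hE6 K 36 37 (by decide) (by decide) (z ^ q) (z ^ q) hzq0 hzq0
      exact (c1.mul_right c2).mul_left (c3.mul_right c4)
    · intro h
      exact hz1 (inv_eq_one.1 h)
  obtain ⟨hy, hn⟩ := hy_all
  have hnk : ∀ k : ℕ, nE K ^ k ∈ K0 := fun k => pow_mem hn k
  -- conjugating a pair
  have conj_pair : ∀ (k : ℕ) (t u : K), nE K ^ k * (xe K 56 t * xe K 36 u) * (nE K ^ k)⁻¹ =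
      xe K (wRoot chevE6 (lk k) 56) (((wSign chevE6 (lk k) 56 : ℤ) : K) * t) *
        xe K (wRoot chevE6 (lk k) 36) (((wSign chevE6 (lk k) 36 : ℤ) : K) * u) := by
    intro k t u
    rw [← nE_pow_conj_x k 56 (by norm_num) t, ← nE_pow_conj_x k 36 (by norm_num) u]
    group
  -- step 3: the short fundamental root groups
  have hJ4 : ∀ t : K, xe K 42 t * xe K 37 (t ^ q) ∈ K0 := by
    intro t
    have e := conj_pair 1 t (t ^ q)
    rw [t42, t37, s42, s37] at e
    simp only [Int.cast_one, one_mul] at e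
    rw [← e]
    exact mul_mem (mul_mem (hnk 1) (hy t)) (inv_mem (hnk 1))
  have hJ3m : ∀ u : K, xe K 15 u * xe K 35 (u ^ q) ∈ K0 := by
    intro u
    have e := conj_pair 6 (-(u ^ q)) ((-(u ^ q)) ^ q)
    rw [t35, t15, s35, s15] at e
    have e1 : ((-1 : ℤ) : K) * -(u ^ q) = u ^ q := by push_cast; ring
    have e2 : ((-1 : ℤ) : K) * (-(u ^ q)) ^ q = u := by
      rw [hnegq, hqq]; push_cast; ring
    rw [e1, e2] at e
    rw [(e6g_comm_pairs u (u ^ q)).2.1.eq, ← e]
    exact mul_mem (mul_mem (hnk 6) (hy _)) (inv_mem (hnk 6))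
  have hJ4m : ∀ u : K, xe K 29 u * xe K 34 (u ^ q) ∈ K0 := by
    intro u
    have e := conj_pair 7 (-(u ^ q)) ((-(u ^ q)) ^ q)
    rw [t34, t29, s34, s29] at e
    have e1 : ((-1 : ℤ) : K) * -(u ^ q) = u ^ q := by push_cast; ring
    have e2 : ((-1 : ℤ) : K) * (-(u ^ q)) ^ q = u := by
      rw [hnegq, hqq]; push_cast; ring
    rw [e1, e2] at e
    rw [(e6g_comm_pairs u (u ^ q)).2.2.eq, ← e]
    exact mul_mem (mul_mem (hnk 7) (hy _)) (inv_mem (hnk 7))
  -- step 4: the long fundamental root groups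
  have hτ : he K 41 z * he K 58 (z ^ q) ∈ K0 := by
    have e1 := nE_pow_conj_h (K := K) 2 56 (by norm_num) z hz0
    have e2 := nE_pow_conj_h (K := K) 2 36 (by norm_num) (z ^ q) hzq0
    rw [t41] at e1
    rw [t58] at e2
    have : he K 41 z * he K 58 (z ^ q) = nE K ^ 2 * hE K q z * (nE K ^ 2)⁻¹ := by
      rw [← e1, ← e2]
      unfold hE
      group
    rw [this]
    exact mul_mem (mul_mem (hnk 2) hh) (inv_mem (hnk 2))
  have h46pow : ∀ m : ℕ, xe K 46 (((z * z ^ q)⁻¹) ^ m) ∈ K0 := by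
    intro m
    induction m with
    | zero => rw [pow_zero]; exact hx46
    | succ m ih =>
      rw [pow_succ', ← tau_conj_46 q z hz0]
      exact mul_mem (mul_mem hτ ih) (inv_mem hτ)
  have P46 : ∀ v : K, v ^ q = v → xe K 46 v ∈ K0 := by
    intro v hv
    by_cases hv0 : v = 0
    · rw [hv0]
      show xGL chevE6 hE6 K 46 0 ∈ K0
      rw [xGL_zero']
      exact one_mem _
    · obtain ⟨m, hm⟩ := hfix v hv0 hv
      rw [hm]
      exact h46pow m
  have Pmove : ∀ (k r' : ℕ), wRoot chevE6 (lk k) 46 = r' →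
      (wSign chevE6 (lk k) 46 = 1 ∨ wSign chevE6 (lk k) 46 = -1) → ∀ v : K, v ^ q = v → xe K r' v ∈ K0 := by
    intro k r' hr' hs v hv
    rcases hs with hs | hs
    · have e := nE_pow_conj_x (K := K) k 46 (by norm_num) v
      rw [hr', hs] at e
      simp only [Int.cast_one, one_mul] at e
      rw [← e]
      exact mul_mem (mul_mem (hnk k) (P46 v hv)) (inv_mem (hnk k))
    · have e := nE_pow_conj_x (K := K) k 46 (by norm_num) (-v)
      rw [hr', hs] at e
      have e1 : ((-1 : ℤ) : K) * -v = v := by push_cast; ring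
      rw [e1] at e
      rw [← e]
      exact mul_mem (mul_mem (hnk k) (P46 (-v) (by rw [hnegq, hv]))) (inv_mem (hnk k))
  have P32 := Pmove 5 32 t32 s32
  have P25 := Pmove 6 25 t25 s25
  have P39 := Pmove 11 39 t39 s39
  -- step 5: all generators
  unfold Cfsg.Lie.twistedE6 ChevalleyDatum.genSubgroup
  rw [Subgroup.closure_le]
  rintro g ⟨w, hw, hg⟩
  rw [SetLike.mem_coe]
  rcases hw with ⟨t, ht, r, hr, rfl⟩ | ⟨t, rs, hrs, rfl⟩
  · have hgx : g = xe K r t := by
      apply Units.ext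
      rw [hg, xGL_coe]
      simp [ChevalleyDatum.wordMat]
    rw [hgx]
    simp only [e6p2, e6m2, e6p4, e6m4, List.mem_cons, List.not_mem_nil, or_false] at hr
    rcases hr with rfl | rfl | rfl | rfl
    · exact P46 t ht
    · exact P25 t ht
    · exact P39 t ht
    · exact P32 t ht
  · have hgx : g = xe K rs.1 t * xe K rs.2 (t ^ q) := by
      apply Units.ext
      rw [hg, Units.val_mul, xGL_coe, xGL_coe]
      simp [ChevalleyDatum.wordMat]
    rw [hgx]
    simp only [e6p1, e6p6, e6m1, e6m6, e6p3, e6p5, e6m3, e6m5, List.mem_cons, List.not_mem_nil, or_false] at hrs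
    rcases hrs with rfl | rfl | rfl | rfl
    · exact hy t
    · exact hJ3m t
    · exact hJ4 t
    · exact hJ4m t

end Cfsg.Agent.Lib.Helper72.E6g
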