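import Mathlib
import Cfsg.Agent.S3947

/-!
# Iterated conjugation maps generate

For a finite group `Γ` generated by the conjugates of `a`, the `j`-th iterates of
`c ↦ c * a * c⁻¹` applied to the conjugates of `a` still generate `Γ`.
Proof: induction on `|Γ|` through the landed statement S3947 (Flavell's generalisation of
Wielandt's zipper lemma).
-/

universe u

namespace Cfsg.Agent.Lib.Helper72

open Subgroup

section defs

variable {Γ : Type u} [Group Γ]

/-- `c ↦ c * a * c⁻¹`. -/
def conjOn (a : Γ) (c : Γ) : Γ := c * a * c⁻¹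

theorem conjOn_self (a : Γ) : conjOn a a = a := by simp [conjOn]

theorem conjOn_iterate_self (a : Γ) (j : ℕ) : (conjOn a)^[j] a = a := by
  induction j with
  | zero => rfl
  | succ j ih => rw [Function.iterate_succ_apply', ih, conjOn_self]

theorem normalClosure_zpowers72 (x : Γ) :
    normalClosure ((zpowers x : Subgroup Γ) : Set Γ) = normalClosure {x} := by
  apply le_antisymm
  · apply normalClosure_le_normal
    intro y hy
    have h1 : zpowers x ≤ normalClosure {x} :=
      (zpowers_le).mpr (subset_normalClosure (Set.mem_singleton x))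
    exact h1 hy
  · apply normalClosure_mono
    intro y hy
    rw [Set.mem_singleton_iff] at hy
    subst hy
    exact mem_zpowers y

theorem coe_conjOn_iterate (H : Subgroup Γ) (a' : ↥H) (j : ℕ) (c : ↥H) :
    (((conjOn a')^[j] c : ↥H) : Γ) = (conjOn (a' : Γ))^[j] (c : Γ) := by
  induction j with
  | zero => rfl
  | succ j ih =>
    rw [Function.iterate_succ_apply', Function.iterate_succ_apply', ← ih]
    simp [conjOn]

/-- The set of generators: `j`-th iterates of `c ↦ c a c⁻¹` on the conjugates of `a`. -/
def iterConjSet (a : Γ) (j : ℕ) : Set Γ :=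
  Set.range fun g : Γ => (conjOn a)^[j] (g * a * g⁻¹)

theorem mem_of_conjOn_mem_of_unique_coatom (a : Γ) (hn : normalClosure {a} = ⊤)
    (M : Subgroup Γ) (hM : IsCoatom M) (haM : a ∈ M)
    (huniq : ∀ M' : Subgroup Γ, IsCoatom M' ∧ zpowers a ≤ M' → M' = M)
    (d : Γ) (hd : conjOn a d ∈ M) : d ∈ M := by
  -- `M' = d⁻¹ M d`
  have hM'co : IsCoatom ((MulAut.conj d⁻¹).mapSubgroup M) :=
    (OrderIso.isCoatom_iff (MulAut.conj d⁻¹).mapSubgroup M).mpr hM
  have hmem : ∀ y : Γ, y ∈ (MulAut.conj d⁻¹).mapSubgroup M ↔ d * y * d⁻¹ ∈ M := by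
    intro y
    change y ∈ M.map (MulAut.conj d⁻¹).toMonoidHom ↔ _
    rw [Subgroup.mem_map_equiv]
    simp
  have haM' : zpowers a ≤ (MulAut.conj d⁻¹).mapSubgroup M := by
    rw [zpowers_le, hmem]
    exact hd
  have heq := huniq _ ⟨hM'co, haM'⟩
  have hdn : d ∈ normalizer (M : Set Γ) := by
    rw [Subgroup.mem_normalizer_iff]
    intro y
    rw [← hmem y, heq]
  have hnorm : normalizer (M : Set Γ) = M := by
    apply le_antisymm _ Subgroup.le_normalizer
    by_contra hlt
    have hlt' : M < normalizer (M : Set Γ) := lt_of_le_of_ne Subgroup.le_normalizer (by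
      intro h
      exact hlt (le_of_eq h.symm))
    have htop := hM.2 _ hlt'
    have hMn : M.Normal := Subgroup.normalizer_eq_top_iff.mp htop
    have : normalClosure {a} ≤ M :=
      normalClosure_le_normal (Set.singleton_subset_iff.mpr haM)
    rw [hn] at this
    exact hM.1 (top_le_iff.mp this)
  rw [hnorm] at hdn
  exact hdn

theorem mem_of_conjOn_iterate_mem (a : Γ) (hn : normalClosure {a} = ⊤)
    (M : Subgroup Γ) (hM : IsCoatom M) (haM : a ∈ M)
    (huniq : ∀ M' : Subgroup Γ, IsCoatom M' ∧ zpowers a ≤ M' → M' = M) :
    ∀ (i : ℕ) (d : Γ), (conjOn a)^[i] d ∈ M → d ∈ M := by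
  intro i
  induction i with
  | zero => intro d hd; exact hd
  | succ i ih =>
    intro d hd
    rw [Function.iterate_succ_apply] at hd
    exact mem_of_conjOn_mem_of_unique_coatom a hn M hM haM huniq d (ih _ hd)

end defs

/-- Main theorem: if the conjugates of `a` generate the finite group `Γ`, so do the `j`-th
iterates of `c ↦ c a c⁻¹` on them. -/
theorem closure_iterConjSet_eq_top : ∀ (n : ℕ) (Γ : Type u) [Group Γ] [Finite Γ] (a : Γ),
    Nat.card Γ = n → normalClosure {a} = ⊤ → ∀ j : ℕ, closure (iterConjSet a j) = ⊤ := by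
  intro n
  induction n using Nat.strong_induction_on with
  | _ n ih =>
    intro Γ _ _ a hcard hn j
    have haL : a ∈ closure (iterConjSet a j) := by
      apply Subgroup.subset_closure
      refine ⟨1, ?_⟩
      simp only [one_mul, inv_one, mul_one]
      exact conjOn_iterate_self a j
    by_cases hA : zpowers a = ⊤
    · rw [eq_top_iff, ← hA, zpowers_le]
      exact haL
    · by_contra hL
      have hn' : normalClosure ((zpowers a : Subgroup Γ) : Set Γ) = ⊤ := by
        rw [normalClosure_zpowers72, hn]
      rcases Cfsg.Agent.S3947.result (zpowers a) hn' hA with hY | ⟨M, ⟨hMco, hAM⟩, hMuniq⟩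
      · -- the join is everything: contradiction via the induction hypothesis
        apply hL
        rw [eq_top_iff, ← hY]
        apply sSup_le
        rintro H ⟨hAH, hHtop, hHnc⟩
        have haH : a ∈ H := hAH (mem_zpowers a)
        have hlt : Nat.card ↥H < n := by
          rw [← hcard]
          refine lt_of_le_of_ne (Subgroup.card_le_card_group H) ?_
          intro h
          exact hHtop (Subgroup.eq_top_of_card_eq H h)
        have hsub : (zpowers a).subgroupOf H = zpowers (⟨a, haH⟩ : ↥H) := by
          ext x
          rw [Subgroup.mem_subgroupOf, Subgroup.mem_zpowers_iff, Subgroup.mem_zpowers_iff]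
          constructor
          · rintro ⟨k, hk⟩
            refine ⟨k, ?_⟩
            apply Subtype.ext
            rw [Subgroup.coe_zpow]
            exact hk
          · rintro ⟨k, hk⟩
            refine ⟨k, ?_⟩
            rw [← hk, Subgroup.coe_zpow]
        have hncH : normalClosure {(⟨a, haH⟩ : ↥H)} = ⊤ := by
          rw [← normalClosure_zpowers72, ← hsub]
          exact hHnc
        have hH := ih _ hlt ↥H ⟨a, haH⟩ rfl hncH j
        have h1 : H = (⊤ : Subgroup ↥H).map H.subtype := by
          rw [← MonoidHom.range_eq_map, Subgroup.range_subtype]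
        rw [h1, ← hH, MonoidHom.map_closure]
        apply Subgroup.closure_mono
        rintro _ ⟨_, ⟨g, rfl⟩, rfl⟩
        refine ⟨(g : Γ), ?_⟩
        have := coe_conjOn_iterate H ⟨a, haH⟩ j (g * ⟨a, haH⟩ * g⁻¹)
        simp only [Subgroup.coe_mul, Subgroup.coe_inv] at this
        exact this.symm
      · -- unique maximal subgroup `M` over `a`
        have haM : a ∈ M := hAM (mem_zpowers a)
        obtain ⟨M', hM'co, hLM'⟩ := (eq_top_or_exists_le_coatom _).resolve_left hL
        have hM'M : M' = M :=
          hMuniq M' ⟨hM'co, (zpowers_le.mpr haL).trans hLM'⟩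
        rw [hM'M] at hLM'
        have huniq : ∀ M'' : Subgroup Γ, IsCoatom M'' ∧ zpowers a ≤ M'' → M'' = M :=
          fun M'' h => hMuniq M'' h
        have hall : ∀ g : Γ, g * a * g⁻¹ ∈ M := by
          intro g
          apply mem_of_conjOn_iterate_mem a hn M hMco haM huniq j
          apply hLM'
          apply Subgroup.subset_closure
          exact ⟨g, rfl⟩
        have hle : normalClosure {a} ≤ M := by
          unfold normalClosure
          rw [closure_le]
          intro y hy
          rw [Group.mem_conjugatesOfSet_iff] at hy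
          obtain ⟨x, hx, hxy⟩ := hy
          rw [Set.mem_singleton_iff] at hx
          subst hx
          rw [isConj_iff] at hxy
          obtain ⟨c, rfl⟩ := hxy
          exact hall c
        rw [hn] at hle
        exact hMco.1 (top_le_iff.mp hle)

end Cfsg.Agent.Lib.Helper72
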