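import Mathlib
import Cfsg.Agent.Lib.Helper81.EsDefs

/-!
# Es hive (S5877), leaf ES-NORM: for exponent `r`, `g` normalises `R` itself
-/

set_option autoImplicit false

namespace Cfsg.Agent.Lib.Helper81.Es

open scoped MatrixGroups

variable {F : Type*} [Field F] {n : ℕ}

theorem norm_pos {r : ℕ} {R : Subgroup (GL (Fin n) F)} (hS : Setup r R) : 0 < n := by
  rcases Nat.eq_zero_or_pos n with h0 | h0
  · exfalso
    subst h0
    obtain ⟨x, -, y, -, hxy⟩ := hS.prim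
    exact hxy (Units.ext (Subsingleton.elim _ _))
  · exact h0

/-- ES-NORM : for exponent `r`, `g` normalises `R` itself. -/
theorem conj_mem_R {r : ℕ} {R : Subgroup (GL (Fin n) F)} (hS : Setup r R)
    (hexp : ∀ x ∈ R, x ^ r = 1) (g : GL (Fin n) F)
    (hgN : ∀ h, h ∈ NN R ↔ g * h * g⁻¹ ∈ NN R) : ∀ a ∈ R, g * a * g⁻¹ ∈ R := by
  intro a ha
  have hn := norm_pos hS
  have h1 : g * a * g⁻¹ ∈ NN R := (hgN a).mp (Subgroup.mem_sup_left ha)
  obtain ⟨ρ, hρ, z, hz, hρz⟩ := Subgroup.mem_sup_of_normal_right.mp h1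
  obtain ⟨c, hc⟩ := (Cfsg.Geo.mem_scalars_iff z).mp hz
  have hzc : Commute ρ z := by
    apply Units.ext
    rw [Units.val_mul, Units.val_mul, hc]
    simp
  have h2 : (g * a * g⁻¹) ^ r = 1 := by
    rw [conj_pow, hexp a ha, mul_one, mul_inv_cancel]
  rw [← hρz, hzc.mul_pow, hexp ρ hρ, one_mul] at h2
  have h3 : ((c : F) ^ r) = 1 := by
    have h4 := congrArg (fun u : GL (Fin n) F => (u : Matrix (Fin n) (Fin n) F) ⟨0, hn⟩ ⟨0, hn⟩) h2
    simp only [Units.val_pow_eq_pow_val, hc, smul_pow, one_pow, Units.val_one] at h4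
    simpa using h4
  obtain ⟨x, hx, hxc⟩ := hS.root (c : F) h3
  have hxz : x = z := Units.ext (hxc.trans hc.symm)
  rw [← hρz]
  exact R.mul_mem hρ (hxz ▸ hx)

end Cfsg.Agent.Lib.Helper81.Es
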