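import Mathlib
import Cfsg.Agent.Lib.Helper81.EsDefs
import Cfsg.Agent.Lib.Helper81.EsDD

/-!
# Es hive (S5877), leaf ES-R2c2: `eig g c` decomposes under `b`
-/

set_option autoImplicit false

namespace Cfsg.Agent.Lib.Helper81.Es

open scoped MatrixGroups
open Polynomial

variable {F : Type*} [Field F] {n : ℕ}

/-- the kernel of a product of distinct linear factors is the sum of the eigenspaces -/
theorem r2c2_ker_prod {V : Type*} [AddCommGroup V] [Module F V] (f : Module.End F V)
    (s : Finset F) :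
    LinearMap.ker (aeval f (∏ μ ∈ s, (X - C μ))) = ⨆ μ ∈ s, Module.End.eigenspace f μ := by
  classical
  induction s using Finset.induction_on with
  | empty =>
    simp only [Finset.prod_empty, map_one, Finset.notMem_empty, iSup_false, iSup_bot]
    exact LinearMap.ker_id
  | insert a s ha ih =>
    have hcop : IsCoprime (X - C a) (∏ μ ∈ s, (X - C μ)) := by
      refine IsCoprime.prod_right fun μ hμ => ?_
      apply Polynomial.isCoprime_X_sub_C_of_isUnit_sub
      rw [isUnit_iff_ne_zero, sub_ne_zero]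
      rintro rfl
      exact ha hμ
    rw [Finset.prod_insert ha, ← sup_ker_aeval_eq_ker_aeval_mul_of_coprime f hcop, ih,
      Finset.iSup_insert]
    congr 1
    rw [Module.End.eigenspace_def]
    congr 1
    simp [Algebra.algebraMap_eq_smul_one]

/-- the dimension of a finite sum of subspaces is at most the sum of the dimensions -/
theorem r2c2_finrank_biSup_le {V : Type*} [AddCommGroup V] [Module F V] [FiniteDimensional F V]
    {ι : Type*} (s : Finset ι) (E : ι → Submodule F V) :
    Module.finrank F ↥(⨆ i ∈ s, E i) ≤ ∑ i ∈ s, Module.finrank F ↥(E i) := by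
  classical
  induction s using Finset.induction_on with
  | empty => simp
  | insert a s ha ih =>
    rw [Finset.iSup_insert, Finset.sum_insert ha]
    exact (Submodule.finrank_add_le_finrank_add_finrank _ _).trans (Nat.add_le_add_left ih _)

/-- ES-R2c2 : `eig g c` decomposes under `b`. -/
theorem dd_decomp {r : ℕ} [NeZero r] (hr : r.Prime) (g b : GL (Fin n) F) (c ζ : F) (hζ1 : ζ ≠ 1)
    (hζ : ζ ^ r = 1) (hb : b ^ r = 1) (hgb : g * b = b * g) :
    Module.finrank F (eig g c) ≤ ∑ j : ZMod r, dd r g b c ζ j 0 := by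
  classical
  have : Fact r.Prime := ⟨hr⟩
  set fb : Module.End F (Fin n → F) := Matrix.toLin' (b : Matrix (Fin n) (Fin n) F) with hfb
  -- `eig g c` is `b`-invariant
  have hW : ∀ x ∈ eig g c, fb x ∈ eig g c := by
    intro x hx
    unfold eig at hx ⊢
    rw [Module.End.mem_eigenspace_iff] at hx ⊢
    have h1 : (g : Matrix (Fin n) (Fin n) F) * (b : Matrix (Fin n) (Fin n) F) =
        (b : Matrix (Fin n) (Fin n) F) * (g : Matrix (Fin n) (Fin n) F) := by
      rw [← Units.val_mul, ← Units.val_mul, hgb]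
    rw [hfb, ← Matrix.toLin'_mul_apply, h1, Matrix.toLin'_mul_apply, hx, map_smul]
  -- the restriction has order dividing `r`
  have hpow : (fb.restrict hW) ^ r = 1 := by
    rw [Module.End.pow_restrict]
    ext w : 1
    apply Subtype.ext
    rw [LinearMap.restrict_apply]
    show (fb ^ r) w.1 = w.1
    rw [hfb, ← Matrix.toLin'_pow, ← Units.val_pow_eq_pow_val, hb, Units.val_one, Matrix.toLin'_one]
    rfl
  have hprim : IsPrimitiveRoot ζ r := by
    have h := IsPrimitiveRoot.orderOf ζ
    rwa [orderOf_eq_prime hζ hζ1] at h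
  have hker : (⊤ : Submodule F ↥(eig g c)) =
      ⨆ μ ∈ nthRootsFinset r (1 : F), Module.End.eigenspace (fb.restrict hW) μ := by
    rw [← r2c2_ker_prod, ← X_pow_sub_one_eq_prod hr.pos hprim]
    have : aeval (fb.restrict hW) (X ^ r - 1 : F[X]) = 0 := by
      simp [hpow]
    rw [this, LinearMap.ker_zero]
  have h1 : Module.finrank F ↥(eig g c) ≤
      ∑ μ ∈ nthRootsFinset r (1 : F),
        Module.finrank F ↥(Module.End.eigenspace (fb.restrict hW) μ) := by
    rw [← finrank_top F ↥(eig g c), hker]
    exact r2c2_finrank_biSup_le _ _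
  -- index the roots of unity by `ZMod r`
  have hidx : ∀ μ ∈ nthRootsFinset r (1 : F), ∃ j : ZMod r, ζ ^ j.val = μ := by
    intro μ hμ
    rw [mem_nthRootsFinset hr.pos] at hμ
    obtain ⟨i, hi, hiμ⟩ := hprim.eq_pow_of_pow_eq_one hμ
    exact ⟨(i : ZMod r), by rw [ZMod.val_natCast_of_lt hi, hiμ]⟩
  choose! J hJ using hidx
  have hJinj : Set.InjOn J (nthRootsFinset r (1 : F) : Set F) := by
    intro μ hμ ν hν h
    rw [← hJ μ hμ, ← hJ ν hν, h]
  have h2 : ∀ μ ∈ nthRootsFinset r (1 : F),
      Module.finrank F ↥(Module.End.eigenspace (fb.restrict hW) μ) ≤ dd r g b c ζ (J μ) 0 := by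
    intro μ hμ
    rw [← Submodule.finrank_map_subtype_eq]
    unfold dd
    rw [ZMod.val_zero, pow_zero, mul_one, hJ μ hμ]
    apply Submodule.finrank_mono
    exact le_inf (Module.End.eigenspace_restrict_le_eigenspace fb hW μ) (Submodule.map_subtype_le _ _)
  calc Module.finrank F ↥(eig g c)
      ≤ ∑ μ ∈ nthRootsFinset r (1 : F),
        Module.finrank F ↥(Module.End.eigenspace (fb.restrict hW) μ) := h1
    _ ≤ ∑ μ ∈ nthRootsFinset r (1 : F), dd r g b c ζ (J μ) 0 := Finset.sum_le_sum h2
    _ = ∑ j ∈ (nthRootsFinset r (1 : F)).image J, dd r g b c ζ j 0 :=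
        (Finset.sum_image (f := fun j => dd r g b c ζ j 0) hJinj).symm
    _ ≤ ∑ j : ZMod r, dd r g b c ζ j 0 :=
        Finset.sum_le_sum_of_subset (Finset.subset_univ _)

end Cfsg.Agent.Lib.Helper81.Es
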