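import Mathlib
import Cfsg.Agent.Lib.Helper47.FLDefs
import Cfsg.Agent.Lib.Helper72.FLCOREABcore
import Cfsg.Agent.Lib.Helper4.FLCORESPLIT
import Cfsg.Agent.Lib.Helper27.FLCOREINF

/-! # FL hive (helper47, S2863), leaf FL-COREAB -/

set_option autoImplicit false

namespace Cfsg.Agent.Lib.Helper47.FL

variable {H : Type*} [Group H] {Y A : Subgroup H}

/-- LEAF CORE-AB. From `core_split` (some `g ∉ N(Y)` exists by `nne`): `a = w w'`, `b = v v'`;
`[w, v] = 1 = [w', v']`, `[w, v'], [w', v] ∈ W ⊓ W' ≤ Y ⊓ center H` (`core_inf_le`), central. -/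
theorem core_abelian (h : CoreSetup Y A) {a b : H} (ha : a ∈ A) (hb : b ∈ A) :
    a * b * a⁻¹ * b⁻¹ ∈ Y ⊓ Subgroup.center H :=
  coreab_core h (fun hg _ ha => core_split h hg ha) (fun hg _ hx hx' => core_inf_le h hg hx hx')
    ha hb

end Cfsg.Agent.Lib.Helper47.FL
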