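import Mathlib
import Cfsg.Agent.Lib.Helper33.SylowSub

set_option autoImplicit false

namespace Cfsg.Agent.Lib.Helper72.HSub

variable {G : Type*} [Group G]

/-- `E` is strongly closed in `P` with respect to `G` (elementwise form). -/
def SCl (P E : Subgroup G) : Prop :=
  ∀ x ∈ E, ∀ g : G, g * x * g⁻¹ ∈ P → g * x * g⁻¹ ∈ E

theorem mem_normalizer_of_conj_mem {E : Subgroup G} [Finite E] {u : G}
    (h : ∀ x ∈ E, u * x * u⁻¹ ∈ E) : u ∈ Subgroup.normalizer (E : Set G) := by
  rw [Subgroup.mem_normalizer_iff]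
  intro x
  refine ⟨h x, fun hx => ?_⟩
  have hinj : Function.Injective (fun y : E => (⟨u * y * u⁻¹, h y y.2⟩ : E)) := by
    intro a b hab
    simp only [Subtype.mk.injEq] at hab
    ext
    simpa using hab
  obtain ⟨y, hy⟩ := (Finite.injective_iff_surjective.mp hinj) ⟨u * x * u⁻¹, hx⟩
  have h1 : u * y * u⁻¹ = u * x * u⁻¹ := congrArg Subtype.val hy
  have h2 : (y : G) = x := by simpa using h1
  rw [← h2]; exact y.2

/-- An `H`-subgroup inside a `p`-subgroup `P` is normalized by `P`. -/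
theorem le_normalizer_of_H [Finite G] {p : ℕ} [Fact p.Prime] {P E : Subgroup G} (hP : IsPGroup p P)
    (hEP : E ≤ P)
    (hH : ∀ g : G, E.map (MulAut.conj g).toMonoidHom ⊓ Subgroup.normalizer (E : Set G) ≤ E) :
    P ≤ Subgroup.normalizer (E : Set G) := by
  by_contra hcon
  have hlt : P ⊓ Subgroup.normalizer (E : Set G) < P :=
    lt_of_le_of_ne inf_le_left (fun h => hcon (h ▸ inf_le_right))
  have hgrow := Cfsg.Agent.Lib.Helper33.normalizer_growth hP hlt
  obtain ⟨u, hu, hun⟩ := SetLike.exists_of_lt hgrow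
  apply hun
  refine ⟨hu.1, ?_⟩
  apply mem_normalizer_of_conj_mem
  intro x hx
  apply hH u
  refine ⟨⟨x, hx, by simp [MulAut.conj_apply]⟩, ?_⟩
  have hxN : x ∈ P ⊓ Subgroup.normalizer (E : Set G) := ⟨hEP hx, Subgroup.le_normalizer hx⟩
  exact ((Subgroup.mem_normalizer_iff.mp hu.2 x).mp hxN).2

/-- An `H`-subgroup inside a `p`-subgroup `P` is strongly closed in `P`. -/
theorem scl_of_H [Finite G] {p : ℕ} [Fact p.Prime] {P E : Subgroup G} (hP : IsPGroup p P)
    (hEP : E ≤ P)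
    (hH : ∀ g : G, E.map (MulAut.conj g).toMonoidHom ⊓ Subgroup.normalizer (E : Set G) ≤ E) :
    SCl P E := by
  intro x hx g hg
  apply hH g
  exact ⟨⟨x, hx, by simp [MulAut.conj_apply]⟩, le_normalizer_of_H hP hEP hH hg⟩

theorem SCl.le_normalizer {P E : Subgroup G} [Finite E] (h : SCl P E) (hEP : E ≤ P) :
    P ≤ Subgroup.normalizer (E : Set G) := by
  intro u hu
  apply mem_normalizer_of_conj_mem
  intro x hx
  exact h x hx u (P.mul_mem (P.mul_mem hu (hEP hx)) (P.inv_mem hu))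

/-- A finite cyclic group has no automorphism of order prime to `φ(|Q|)`. -/
theorem mulAut_eq_one_of_pow {Q : Type*} [Group Q] [Finite Q] [IsCyclic Q] (θ : MulAut Q) {m : ℕ}
    (hm : θ ^ m = 1) (hcop : Nat.Coprime m (Nat.totient (Nat.card Q))) : θ = 1 := by
  have h1 : orderOf θ ∣ m := orderOf_dvd_of_pow_eq_one hm
  have h2 : orderOf θ ∣ Nat.card (MulAut Q) := orderOf_dvd_natCard θ
  rw [IsCyclic.card_mulAut] at h2
  have : orderOf θ = 1 := Nat.eq_one_of_dvd_coprimes hcop h1 h2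
  exact orderOf_eq_one_iff.mp this

/-- An element normalizing a finite cyclic subgroup `C`, of order prime to `φ(|C|)`, centralizes it. -/
theorem conj_eq_self_of_cyclic {C : Subgroup G} [Finite C] (hC : IsCyclic C) {g : G} {m : ℕ}
    (hgm : g ^ m = 1) (hg : ∀ x ∈ C, g * x * g⁻¹ ∈ C)
    (hcop : Nat.Coprime m (Nat.totient (Nat.card C))) :
    ∀ x ∈ C, g * x * g⁻¹ = x := by
  have hgN : g ∈ Subgroup.normalizer (C : Set G) := mem_normalizer_of_conj_mem hg
  set θ : MulAut C := Subgroup.normalizerMonoidHom C ⟨g, hgN⟩ with hθ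
  have hpow : θ ^ m = 1 := by
    rw [hθ, ← map_pow]
    have : (⟨g, hgN⟩ : Subgroup.normalizer (C : Set G)) ^ m = 1 := by
      ext; simpa using hgm
    rw [this, map_one]
  have h1 : θ = 1 := mulAut_eq_one_of_pow θ hpow hcop
  intro x hx
  have h2 : θ ⟨x, hx⟩ = ⟨x, hx⟩ := by rw [h1]; rfl
  have h3 := congrArg Subtype.val h2
  simpa [hθ] using h3

/-- If `p` is the smallest prime divisor of `|G|`, every divisor of `|G|` is prime to `p - 1`. -/
theorem coprime_pred_of_min {n p : ℕ} (hp : p.Prime) (hmin : ∀ q : ℕ, q.Prime → q ∣ n → p ≤ q)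
    {m : ℕ} (hm : m ∣ n) : Nat.Coprime m (p - 1) := by
  apply Nat.coprime_of_dvd
  intro k hk hkm hkp
  have h1 : p ≤ k := hmin k hk (hkm.trans hm)
  have h3 := hp.two_le
  have h2 : k ≤ p - 1 := Nat.le_of_dvd (by omega) hkp
  omega

theorem coprime_totient_prime_pow {m p k : ℕ} (hp : p.Prime) (h1 : Nat.Coprime m p)
    (h2 : Nat.Coprime m (p - 1)) : Nat.Coprime m (Nat.totient (p ^ k)) := by
  rcases Nat.eq_zero_or_pos k with h0 | h0
  · subst h0; simp
  · rw [Nat.totient_prime_pow hp h0]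
    exact (Nat.Coprime.pow_right _ h1).mul_right h2

/-- In a `p`-group `L` of order at least `p ^ d`, an element of order dividing `p ^ d` lies in a
subgroup of `L` of order exactly `p ^ d`. -/
theorem exists_card_eq_of_mem [Finite G] {p : ℕ} [hp : Fact p.Prime] {L : Subgroup G}
    (hL : IsPGroup p L) {d : ℕ} (hd : p ^ d ≤ Nat.card L) {x : G} (hxL : x ∈ L)
    (hx : x ^ (p ^ d) = 1) : ∃ E : Subgroup G, E ≤ L ∧ x ∈ E ∧ Nat.card E = p ^ d := by
  obtain ⟨m, hm⟩ := hL.exists_card_eq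
  have hdm : d ≤ m := by
    by_contra hcon
    push Not at hcon
    have : p ^ m < p ^ d := Nat.pow_lt_pow_right hp.out.one_lt hcon
    omega
  have hdvd : p ^ d ∣ Nat.card L := by rw [hm]; exact pow_dvd_pow p hdm
  set y : L := ⟨x, hxL⟩ with hy
  have hyo : orderOf y ∣ p ^ d := by
    apply orderOf_dvd_of_pow_eq_one
    ext; simpa using hx
  obtain ⟨n, hnd, hn⟩ := (Nat.dvd_prime_pow hp.out).mp hyo
  have hH : Nat.card (Subgroup.zpowers y) = p ^ n := by rw [Nat.card_zpowers, hn]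
  obtain ⟨K, hK, hHK⟩ := Sylow.exists_subgroup_card_pow_prime_le p hdvd (Subgroup.zpowers y) hH hnd
  refine ⟨K.map L.subtype, ?_, ?_, ?_⟩
  · rintro _ ⟨k, -, rfl⟩; exact k.2
  · exact ⟨y, hHK (Subgroup.mem_zpowers y), rfl⟩
  · rw [← hK]
    exact Nat.card_congr (K.equivMapOfInjective _ L.subtype_injective).toEquiv.symm

end Cfsg.Agent.Lib.Helper72.HSub
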