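import Mathlib
import Cfsg.Agent.Lib.Helper72.HSubBasic

set_option autoImplicit false

namespace Cfsg.Agent.Lib.Helper72.HSub

variable {G : Type*} [Group G]

/-- The elements normalizing `T` and `T₁` and acting trivially on `T / T₁`. -/
def actTriv (T T₁ : Subgroup G) : Subgroup G where
  carrier := {y | y ∈ Subgroup.normalizer (T : Set G) ∧ y ∈ Subgroup.normalizer (T₁ : Set G) ∧
    ∀ a ∈ T, a⁻¹ * (y * a * y⁻¹) ∈ T₁}
  one_mem' := by
    refine ⟨Subgroup.one_mem _, Subgroup.one_mem _, ?_⟩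
    intro a _
    simp
  mul_mem' := by
    rintro y₁ y₂ ⟨h1T, h1T₁, h1⟩ ⟨h2T, h2T₁, h2⟩
    refine ⟨Subgroup.mul_mem _ h1T h2T, Subgroup.mul_mem _ h1T₁ h2T₁, ?_⟩
    intro a ha
    have e : a⁻¹ * (y₁ * y₂ * a * (y₁ * y₂)⁻¹) =
        (a⁻¹ * (y₁ * a * y₁⁻¹)) * (y₁ * (a⁻¹ * (y₂ * a * y₂⁻¹)) * y₁⁻¹) := by group
    rw [e]
    exact T₁.mul_mem (h1 a ha) ((Subgroup.mem_normalizer_iff.mp h1T₁ _).mp (h2 a ha))
  inv_mem' := by
    rintro y ⟨hT, hT₁, h⟩
    refine ⟨Subgroup.inv_mem _ hT, Subgroup.inv_mem _ hT₁, ?_⟩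
    intro a ha
    have ha' : y⁻¹ * a * y ∈ T := by
      have := (Subgroup.mem_normalizer_iff.mp (Subgroup.inv_mem _ hT) a).mp ha
      simpa using this
    have h1 := h _ ha'
    have e : a⁻¹ * (y⁻¹ * a * y⁻¹⁻¹) = ((y⁻¹ * a * y)⁻¹ * (y * (y⁻¹ * a * y) * y⁻¹))⁻¹ := by group
    rw [e]
    exact T₁.inv_mem h1

theorem mem_actTriv {T T₁ : Subgroup G} {y : G} :
    y ∈ actTriv T T₁ ↔ y ∈ Subgroup.normalizer (T : Set G) ∧
      y ∈ Subgroup.normalizer (T₁ : Set G) ∧ ∀ a ∈ T, a⁻¹ * (y * a * y⁻¹) ∈ T₁ := Iff.rfl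

/-- An element of order prime to `p - 1` normalizing `T` and a normal subgroup `T₁` of `T` of index
dividing `p` acts trivially on `T / T₁`. -/
theorem mem_actTriv_of_coprime [Finite G] {p : ℕ} [hp : Fact p.Prime] {T T₁ : Subgroup G}
    (hT₁T : T₁ ≤ T) (hTn : T ≤ Subgroup.normalizer (T₁ : Set G)) (hidx : T₁.relIndex T ∣ p)
    {h : G} (hhT : h ∈ Subgroup.normalizer (T : Set G))
    (hhT₁ : h ∈ Subgroup.normalizer (T₁ : Set G)) {m : ℕ} (hm : h ^ m = 1)
    (hcop : Nat.Coprime m (p - 1)) : h ∈ actTriv T T₁ := by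
  refine ⟨hhT, hhT₁, ?_⟩
  set N : Subgroup T := T₁.subgroupOf T with hN
  haveI : N.Normal := (Subgroup.normal_subgroupOf_iff_le_normalizer hT₁T).mpr hTn
  set θ : MulAut T := Subgroup.normalizerMonoidHom T ⟨h, hhT⟩ with hθ
  have hθapp : ∀ a : T, ((θ a : T) : G) = h * a * h⁻¹ := by
    intro a; simp [hθ]
  have hmapθ : N.map θ.toMonoidHom = N := by
    apply Subgroup.eq_of_le_of_card_ge
    · rintro _ ⟨n, hn, rfl⟩
      rw [hN, Subgroup.mem_subgroupOf]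
      have : ((θ.toMonoidHom n : T) : G) = h * n * h⁻¹ := hθapp n
      rw [this]
      exact (Subgroup.mem_normalizer_iff.mp hhT₁ _).mp (Subgroup.mem_subgroupOf.mp hn)
    · exact (Nat.card_congr (N.equivMapOfInjective _ θ.injective).toEquiv).le
  set θb : MulAut (T ⧸ N) := QuotientGroup.congr N N θ hmapθ with hθb
  have key : ∀ k : ℕ, ∀ a : T, (θb ^ k) (a : T ⧸ N) = (((θ ^ k) a : T) : T ⧸ N) := by
    intro k
    induction k with
    | zero => intro a; simp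
    | succ k ih =>
      intro a
      rw [pow_succ', MulAut.mul_apply, ih, pow_succ', MulAut.mul_apply]
      rfl
  have hθm : θ ^ m = 1 := by
    rw [hθ, ← map_pow]
    have : (⟨h, hhT⟩ : Subgroup.normalizer (T : Set G)) ^ m = 1 := by
      ext; simpa using hm
    rw [this, map_one]
  have hθbm : θb ^ m = 1 := by
    ext x
    induction x using QuotientGroup.induction_on with
    | H a => rw [key, hθm]; rfl
  have hcard : Nat.card (T ⧸ N) ∣ p := by
    have : Nat.card (T ⧸ N) = T₁.relIndex T := by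
      rw [← Subgroup.index_eq_card]; rfl
    rw [this]; exact hidx
  haveI : IsCyclic (T ⧸ N) := isCyclic_of_card_dvd_prime hcard
  have hcop' : Nat.Coprime m (Nat.totient (Nat.card (T ⧸ N))) := by
    rcases (Nat.dvd_prime hp.out).mp hcard with h1 | h1
    · rw [h1]; simp
    · rw [h1, Nat.totient_prime hp.out]; exact hcop
  have hθb1 : θb = 1 := mulAut_eq_one_of_pow θb hθbm hcop'
  intro a ha
  have h1 : θb ((⟨a, ha⟩ : T) : T ⧸ N) = ((⟨a, ha⟩ : T) : T ⧸ N) := by rw [hθb1]; rfl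
  have h2 : θb ((⟨a, ha⟩ : T) : T ⧸ N) = ((θ ⟨a, ha⟩ : T) : T ⧸ N) := rfl
  rw [h2] at h1
  have h3 := QuotientGroup.eq.mp h1.symm
  rw [hN, Subgroup.mem_subgroupOf] at h3
  simpa [hθapp] using h3

end Cfsg.Agent.Lib.Helper72.HSub
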