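import Mathlib
import Cfsg.Agent.S0081
import Cfsg.Agent.Lib.Helper2.AlperinTame
import Cfsg.Agent.Lib.Helper2.PResidual2
import Cfsg.Agent.Lib.Helper2.PGroup
import Cfsg.Agent.Lib.Helper85.Hyperfocal
import Cfsg.Agent.Lib.Helper51.NPC
import Cfsg.Agent.Lib.Helper19.PNil
import Cfsg.Agent.Lib.Helper72.HSubAct

set_option autoImplicit false

namespace Cfsg.Agent.Lib.Helper72.HSub

open Cfsg.Agent.Lib.Helper33 Cfsg.Agent.Lib.Helper2
open scoped commutatorElement

variable {G : Type*} [Group G] [Finite G] {p : ℕ} [hp : Fact p.Prime]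

/-- Hypotheses of the fusion argument. -/
structure FlowHyp (P : Sylow p G) (d : ℕ) : Prop where
  hmin : ∀ q : ℕ, q.Prime → q ∣ Nat.card G → p ≤ q
  hlt : p ^ d < Nat.card (P : Subgroup G)
  hSC : ∀ E : Subgroup G, E ≤ (P : Subgroup G) → Nat.card E = p ^ d → SCl (P : Subgroup G) E
  hLarge : ∀ T : Subgroup G, T ≤ (P : Subgroup G) → ∀ h ∈ Subgroup.normalizer (T : Set G),
    Nat.Coprime (orderOf h) p → (∃ x ∈ T, x ^ (p ^ d) ≠ 1) → h ∈ Subgroup.centralizer (T : Set G)

section coatom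

variable (P : Sylow p G) (M : Subgroup (P : Subgroup G)) (hM : IsCoatom M)

/-- The image in `G` of a maximal subgroup of `P`. -/
def P1 : Subgroup G := M.map (P : Subgroup G).subtype

theorem mem_P1 {z : G} : z ∈ P1 P M ↔ ∃ hz : z ∈ (P : Subgroup G), (⟨z, hz⟩ : (P : Subgroup G)) ∈ M := by
  unfold P1
  constructor
  · rintro ⟨y, hy, rfl⟩; exact ⟨y.2, hy⟩
  · rintro ⟨hz, h⟩; exact ⟨⟨z, hz⟩, h, rfl⟩

theorem P1_le : P1 P M ≤ (P : Subgroup G) := fun _ hz => (mem_P1 P M).mp hz |>.1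

include hM in
theorem conj_mem_P1 {y z : G} (hy : y ∈ (P : Subgroup G)) (hz : z ∈ P1 P M) :
    y * z * y⁻¹ ∈ P1 P M := by
  haveI := coatom_normal P.2 M hM
  obtain ⟨hzP, hzM⟩ := (mem_P1 P M).mp hz
  refine (mem_P1 P M).mpr ⟨(P : Subgroup G).mul_mem ((P : Subgroup G).mul_mem hy hzP)
    ((P : Subgroup G).inv_mem hy), ?_⟩
  exact ‹M.Normal›.conj_mem _ hzM ⟨y, hy⟩

include hM in
theorem comm_mem_P1 {a y : G} (ha : a ∈ (P : Subgroup G)) (hy : y ∈ (P : Subgroup G)) :
    a * y * a⁻¹ * y⁻¹ ∈ P1 P M := by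
  have h1 := commutator_le_coatom P.2 M hM
  have h2 : ⁅(⟨a, ha⟩ : (P : Subgroup G)), ⟨y, hy⟩⁆ ∈ commutator (P : Subgroup G) :=
    Subgroup.commutator_mem_commutator (Subgroup.mem_top _) (Subgroup.mem_top _)
  have h3 := h1 h2
  refine (mem_P1 P M).mpr ⟨?_, ?_⟩
  · exact (P : Subgroup G).mul_mem ((P : Subgroup G).mul_mem ((P : Subgroup G).mul_mem ha hy)
      ((P : Subgroup G).inv_mem ha)) ((P : Subgroup G).inv_mem hy)
  · exact h3

include hM in
theorem card_P1 : Nat.card (P : Subgroup G) = Nat.card (P1 P M) * p := by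
  haveI := coatom_normal P.2 M hM
  have hc := coatom_card_quotient P.2 M hM
  have h1 : Nat.card (P1 P M) = Nat.card M :=
    Nat.card_congr (M.equivMapOfInjective _ (Subgroup.subtype_injective _)).symm.toEquiv
  have h2 : Nat.card M * M.index = Nat.card (P : Subgroup G) := Subgroup.card_mul_index M
  have h3 : M.index = p := by rw [Subgroup.index_eq_card]; exact hc
  rw [h1, ← h2, h3]

include hM in
theorem relIndex_P1 : (P1 P M).relIndex (P : Subgroup G) = p := by
  haveI := coatom_normal P.2 M hM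
  have hc := coatom_card_quotient P.2 M hM
  have : (P1 P M).subgroupOf (P : Subgroup G) = M := by
    unfold P1
    exact Subgroup.comap_map_eq_self_of_injective (Subgroup.subtype_injective _) M
  rw [Subgroup.relIndex, this, Subgroup.index_eq_card, hc]

include hM in
theorem pow_le_card_P1 {d : ℕ} (hlt : p ^ d < Nat.card (P : Subgroup G)) :
    p ^ d ≤ Nat.card (P1 P M) := by
  obtain ⟨n, hn⟩ := P.2.exists_card_eq
  have hc := card_P1 P M hM
  rw [hn] at hlt hc
  have hdn : d < n := (Nat.pow_lt_pow_iff_right hp.out.one_lt).mp hlt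
  obtain ⟨n', rfl⟩ : ∃ n', n = n' + 1 := ⟨n - 1, by omega⟩
  have : Nat.card (P1 P M) = p ^ n' := by
    rw [pow_succ] at hc
    exact (Nat.eq_of_mul_eq_mul_right hp.out.pos hc).symm
  rw [this]
  exact Nat.pow_le_pow_right hp.out.pos (by omega)

include hM in
theorem relIndex_inf_P1_dvd {T : Subgroup G} (hT : T ≤ (P : Subgroup G)) :
    (T ⊓ P1 P M).relIndex T ∣ p := by
  rw [Subgroup.inf_relIndex_left]
  have h1 : (P1 P M).relIndex T ≤ (P1 P M).relIndex (P : Subgroup G) :=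
    Subgroup.relIndex_le_of_le_right hT (by rw [relIndex_P1 P M hM]; exact hp.out.ne_zero)
  rw [relIndex_P1 P M hM] at h1
  have h2 : (P1 P M).relIndex T ∣ Nat.card T := Subgroup.relIndex_dvd_card _ _
  obtain ⟨k, hk⟩ := (P.2.to_le hT).exists_card_eq
  rw [hk] at h2
  obtain ⟨j, -, hj⟩ := (Nat.dvd_prime_pow hp.out).mp h2
  rw [hj] at h1 ⊢
  have : j ≤ 1 := by
    by_contra hcon
    push Not at hcon
    have : p ^ 2 ≤ p ^ j := Nat.pow_le_pow_right hp.out.pos hcon
    have h3 : p < p ^ 2 := by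
      have := hp.out.one_lt; nlinarith
    omega
  calc p ^ j ∣ p ^ 1 := pow_dvd_pow p this
    _ = p := pow_one p

end coatom

variable {P : Sylow p G} {d : ℕ}

theorem inf_P1_normalized {M : Subgroup (P : Subgroup G)} (hM : IsCoatom M) {T : Subgroup G}
    {y : G} (hy : y ∈ (P : Subgroup G)) (hyT : y ∈ Subgroup.normalizer (T : Set G)) :
    y ∈ Subgroup.normalizer ((T ⊓ P1 P M : Subgroup G) : Set G) := by
  apply mem_normalizer_of_conj_mem
  intro z hz
  exact ⟨(Subgroup.mem_normalizer_iff.mp hyT z).mp hz.1, conj_mem_P1 P M hM hy hz.2⟩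

/-- Elements of `P ∩ N(T)` act trivially on `T / (T ∩ P₁)`. -/
theorem sylow_mem_actTriv {M : Subgroup (P : Subgroup G)} (hM : IsCoatom M) {T : Subgroup G}
    (hT : T ≤ (P : Subgroup G)) {y : G} (hy : y ∈ (P : Subgroup G))
    (hyT : y ∈ Subgroup.normalizer (T : Set G)) : y ∈ actTriv T (T ⊓ P1 P M) := by
  refine ⟨hyT, inf_P1_normalized hM hy hyT, ?_⟩
  intro a ha
  refine ⟨T.mul_mem (T.inv_mem ha) ((Subgroup.mem_normalizer_iff.mp hyT a).mp ha), ?_⟩
  have := comm_mem_P1 P M hM ((P : Subgroup G).inv_mem (hT ha)) hy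
  simpa [mul_assoc] using this

/-- `p'`-elements of `N(T)` act trivially on `T / (T ∩ P₁)`. -/
theorem coprime_mem_actTriv (H : FlowHyp P d) {M : Subgroup (P : Subgroup G)} (hM : IsCoatom M)
    {T : Subgroup G} (hT : T ≤ (P : Subgroup G)) {h : G}
    (hhT : h ∈ Subgroup.normalizer (T : Set G)) (hcop : Nat.Coprime (orderOf h) p) :
    h ∈ actTriv T (T ⊓ P1 P M) := by
  by_cases hl : ∃ x ∈ T, x ^ (p ^ d) ≠ 1
  · have hc := H.hLarge T hT h hhT hcop hl
    have hfix : ∀ a ∈ T, h * a * h⁻¹ = a := by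
      intro a ha
      have := (Subgroup.mem_centralizer_iff.mp hc) a ha
      calc h * a * h⁻¹ = a * h * h⁻¹ := by rw [this]
        _ = a := by group
    refine ⟨hhT, ?_, ?_⟩
    · apply mem_normalizer_of_conj_mem
      intro z hz
      rw [hfix z hz.1]; exact hz
    · intro a ha
      rw [hfix a ha]; simp
  · push Not at hl
    have hnT₁ : h ∈ Subgroup.normalizer ((T ⊓ P1 P M : Subgroup G) : Set G) := by
      apply mem_normalizer_of_conj_mem
      intro z hz
      have hzT : h * z * h⁻¹ ∈ T := (Subgroup.mem_normalizer_iff.mp hhT z).mp hz.1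
      refine ⟨hzT, ?_⟩
      obtain ⟨E, hEL, hzE, hEc⟩ := exists_card_eq_of_mem (P.2.to_le (P1_le P M))
        (pow_le_card_P1 P M hM H.hlt) hz.2 (hl z hz.1)
      exact hEL (H.hSC E (hEL.trans (P1_le P M)) hEc z hzE h (hT hzT))
    apply mem_actTriv_of_coprime (p := p) inf_le_left ?_ (relIndex_inf_P1_dvd P M hM hT) hhT hnT₁
      (pow_orderOf_eq_one h) (coprime_pred_of_min hp.out H.hmin (orderOf_dvd_natCard h))
    intro t ht
    exact inf_P1_normalized hM (hT ht) (Subgroup.le_normalizer ht)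

/-- The normalizer of a tame intersection acts trivially on `T / (T ∩ P₁)`. -/
theorem normalizer_le_actTriv (H : FlowHyp P d) {M : Subgroup (P : Subgroup G)} (hM : IsCoatom M)
    {T : Subgroup G} (hT : T ∈ tameFamily P) :
    Subgroup.normalizer (T : Set G) ≤ actTriv T (T ⊓ P1 P M) := by
  obtain ⟨Q, rfl, hfull, -⟩ := hT
  set T : Subgroup G := (P : Subgroup G) ⊓ (Q : Subgroup G) with hTdef
  have hTP : T ≤ (P : Subgroup G) := inf_le_left
  set K : Subgroup G := Subgroup.normalizer (T : Set G) with hK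
  have hS0 : IsPGroup p (((P : Subgroup G) ⊓ K).subgroupOf K) :=
    (P.2.to_le inf_le_left).comap_subtype
  have hidx : ¬ p ∣ (((P : Subgroup G) ⊓ K).subgroupOf K).index := hfull
  set S : Sylow p K := hS0.toSylow hidx with hS
  intro x hx
  obtain ⟨t, ht, b, hb, hxtb⟩ := Cfsg.Agent.Lib.Helper85.exists_sylow_mul_pResidual S ⟨x, hx⟩
  have htP : (t : G) ∈ (P : Subgroup G) ⊓ K := by
    have : t ∈ ((P : Subgroup G) ⊓ K).subgroupOf K := by
      rw [hS] at ht; exact (IsPGroup.mem_toSylow hS0 hidx).mp ht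
    exact Subgroup.mem_subgroupOf.mp this
  have h1 : (t : G) ∈ actTriv T (T ⊓ P1 P M) := sylow_mem_actTriv hM hTP htP.1 htP.2
  have h2 : Cfsg.pResidual p K ≤ (actTriv T (T ⊓ P1 P M)).subgroupOf K := by
    unfold Cfsg.pResidual
    rw [Subgroup.closure_le]
    intro g hg
    rw [SetLike.mem_coe, Subgroup.mem_subgroupOf]
    apply coprime_mem_actTriv H hM hTP g.2
    have : orderOf (g : G) = orderOf g := Subgroup.orderOf_coe g
    rw [this]; exact hg
  have h3 : (b : G) ∈ actTriv T (T ⊓ P1 P M) := Subgroup.mem_subgroupOf.mp (h2 hb)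
  have h4 : x = (t : G) * (b : G) := by
    have := congrArg Subtype.val hxtb
    simpa using this
  rw [h4]
  exact Subgroup.mul_mem _ h1 h3

/-- Fusion in `P` is trivial modulo every maximal subgroup of `P`. -/
theorem reach_mem_P1 (H : FlowHyp P d) {M : Subgroup (P : Subgroup G)} (hM : IsCoatom M)
    {A : Set G} {g : G} (hr : Reach (tameFamily P) A g) (hA : A ⊆ (P : Subgroup G)) :
    ∀ a ∈ A, a⁻¹ * (g⁻¹ * a * g) ∈ P1 P M := by
  induction hr with
  | nil A => intro a _; simp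
  | cons A T x g hT hx hAT _ ih =>
    intro a ha
    have hTP := tameFamily_le P T hT
    have hrc : rc x A ⊆ (P : Subgroup G) :=
      (rc_subset_of_mem_normalizer hx hAT).trans hTP
    have h1 := ih hrc (x⁻¹ * a * x) (conj_mem_rc ha)
    have hx' : x⁻¹ ∈ actTriv T (T ⊓ P1 P M) :=
      normalizer_le_actTriv H hM hT (Subgroup.inv_mem _ hx)
    have h2 : a⁻¹ * (x⁻¹ * a * x⁻¹⁻¹) ∈ T ⊓ P1 P M := hx'.2.2 a (hAT ha)
    have e : a⁻¹ * ((x * g)⁻¹ * a * (x * g)) =
        (a⁻¹ * (x⁻¹ * a * x⁻¹⁻¹)) * ((x⁻¹ * a * x)⁻¹ * (g⁻¹ * (x⁻¹ * a * x) * g)) := by group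
    rw [e]
    exact Subgroup.mul_mem _ h2.2 h1

theorem focal_le_frattini (H : FlowHyp P d) :
    (P : Subgroup G).focalSubgroup ≤ (frattini (P : Subgroup G)).map (P : Subgroup G).subtype := by
  rw [Subgroup.focalSubgroup_def, Subgroup.closure_le]
  rintro z ⟨hzP, x, hxP, u, rfl⟩
  refine ⟨⟨⁅x, u⁆, hzP⟩, ?_, rfl⟩
  rw [SetLike.mem_coe, mem_frattini_iff]
  intro M hM
  have hA : ({x⁻¹} : Set G) ⊆ (P : Subgroup G) := by
    rintro _ rfl; exact (P : Subgroup G).inv_mem hxP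
  have hconj : u * x⁻¹ * u⁻¹ ∈ (P : Subgroup G) := by
    have : u * x⁻¹ * u⁻¹ = x⁻¹ * ⁅x, u⁆ := by rw [commutatorElement_def]; group
    rw [this]; exact (P : Subgroup G).mul_mem ((P : Subgroup G).inv_mem hxP) hzP
  have hAg : rc u⁻¹ ({x⁻¹} : Set G) ⊆ (P : Subgroup G) := by
    rintro _ ⟨_, rfl, rfl⟩
    show u⁻¹⁻¹ * x⁻¹ * u⁻¹ ∈ (P : Subgroup G)
    rw [inv_inv]; exact hconj
  have hr := reach_tame P {x⁻¹} u⁻¹ hA hAg
  have h1 := reach_mem_P1 H hM hr hA x⁻¹ rfl
  have e : x⁻¹⁻¹ * (u⁻¹⁻¹ * x⁻¹ * u⁻¹) = ⁅x, u⁆ := by rw [commutatorElement_def]; group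
  rw [e] at h1
  obtain ⟨_, h2⟩ := (mem_P1 P M).mp h1
  exact h2

/-- The fusion argument: under `FlowHyp`, `G` has a normal `p`-complement. -/
theorem npc_of_flow (H : FlowHyp P d) : Cfsg.HasNormalPComplement p G := by
  haveI hNn := pResidual_normal (G := G) p
  have h1 : Cfsg.pResidual p G ⊓ (P : Subgroup G) ≤
      (frattini (P : Subgroup G)).map (P : Subgroup G).subtype := by
    rw [inf_comm]
    exact (sylow_inf_pResidual_le_focalSubgroup P).trans (focal_le_frattini H)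
  have h2 := Cfsg.Agent.S0081.result P (Cfsg.pResidual p G) h1
  obtain ⟨M, hMN, hMn, hMc, k, hk⟩ := Cfsg.Agent.Lib.Helper51.exists_normal_hall_of_normal
    (Cfsg.pResidual p G) h2
  haveI := hMn
  obtain ⟨e, he⟩ := IsPGroup.iff_card.mp (isPGroup_quotient_pResidual (G := G) p)
  have hidx : (Cfsg.pResidual p G).index = p ^ e := by rw [Subgroup.index_eq_card]; exact he
  have h3 : Nat.card G = Nat.card M * p ^ (k + e) := by
    rw [← Subgroup.card_mul_index (Cfsg.pResidual p G), hidx, hk, pow_add, mul_assoc]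
  have h4 : M.index = p ^ (k + e) := by
    have := Subgroup.card_mul_index M
    rw [h3] at this
    exact Nat.eq_of_mul_eq_mul_left Nat.card_pos this
  exact Cfsg.Agent.Lib.Helper19.hnpc_of_normal_hall M hMc h4

end Cfsg.Agent.Lib.Helper72.HSub
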