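import Mathlib
import Cfsg.Agent.S0071
import Cfsg.Agent.S0120
import Cfsg.Agent.Lib.Helper63.CoprimeOmegaTwo
import Cfsg.Agent.Lib.Helper72.HSubBasic

set_option autoImplicit false

namespace Cfsg.Agent.Lib.Helper72.HSub

variable {G : Type*} [Group G]

/-- A `p'`-element normalizing a `p`-group `Q` and centralizing its elements of order dividing `p`
(and `4` when `p = 2`) centralizes `Q`. -/
theorem cent_of_small [Finite G] {p : ℕ} [hp : Fact p.Prime] {Q : Subgroup G} (hQ : IsPGroup p Q)
    {g : G} (hg : g ∈ Subgroup.normalizer (Q : Set G)) (hcop : Nat.Coprime (orderOf g) p)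
    (h : ∀ x ∈ Q, (x ^ p = 1 ∨ (p = 2 ∧ x ^ 4 = 1)) → g * x * g⁻¹ = x) :
    g ∈ Subgroup.centralizer (Q : Set G) := by
  by_cases hp2 : p = 2
  · subst hp2
    have hA : (Nat.card (Subgroup.zpowers g)).Coprime 2 := by rwa [Nat.card_zpowers]
    have hAN : Subgroup.zpowers g ≤ Subgroup.normalizer (Q : Set G) := by
      rw [Subgroup.zpowers_le]; exact hg
    have key := Cfsg.Agent.Lib.Helper63.le_centralizer_of_centralizes_omega_two
      (Subgroup.zpowers g) Q hA hQ hAN (by
        intro x hx hx4 a ha
        have hgx : g * x = x * g := by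
          have := h x hx (Or.inr ⟨rfl, hx4⟩)
          calc g * x = g * x * g⁻¹ * g := by group
            _ = x * g := by rw [this]
        obtain ⟨k, rfl⟩ := Subgroup.mem_zpowers_iff.mp ha
        exact ((Commute.zpow_left (show Commute g x from hgx) k)).eq)
    rw [Subgroup.mem_centralizer_iff]
    intro x hx
    have := key hx
    rw [Subgroup.mem_centralizer_iff] at this
    exact (this g (Subgroup.mem_zpowers g)).symm
  · set a : MulAut Q := Subgroup.normalizerMonoidHom Q ⟨g, hg⟩ with ha
    have hao : Nat.Coprime (orderOf a) p := by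
      have h1 : orderOf a ∣ orderOf (⟨g, hg⟩ : Subgroup.normalizer (Q : Set G)) :=
        orderOf_map_dvd _ _
      have h2 : orderOf (⟨g, hg⟩ : Subgroup.normalizer (Q : Set G)) = orderOf g :=
        Subgroup.orderOf_mk g hg
      rw [h2] at h1
      exact Nat.Coprime.coprime_dvd_left h1 hcop
    have ha1 : a = 1 := by
      apply Cfsg.Agent.S0120.result hp2 (G := Q) hQ a hao
      intro x hx
      have hx' : (x : G) ^ p = 1 := by
        have := congrArg Subtype.val hx; simpa using this
      have := h x x.2 (Or.inl hx')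
      ext
      simpa [ha] using this
    rw [Subgroup.mem_centralizer_iff]
    intro x hx
    have h2 : a ⟨x, hx⟩ = ⟨x, hx⟩ := by rw [ha1]; rfl
    have h3 : g * x * g⁻¹ = x := by
      have := congrArg Subtype.val h2; simpa [ha] using this
    calc x * g = g * x * g⁻¹ * g := by rw [h3]
      _ = g * x := by group

/-- If `⟨x⟩` is strongly closed in `P`, has `p`-power order, and `g` is a `p'`-element carrying `x`
into `P` along a subgroup `Q ≤ P` it normalizes, then `g` centralizes `x`. -/
theorem conj_eq_of_scl_zpowers [Finite G] {p : ℕ} [hp : Fact p.Prime]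
    (hmin : ∀ q : ℕ, q.Prime → q ∣ Nat.card G → p ≤ q) {P Q : Subgroup G} (hQP : Q ≤ P)
    {g : G} (hg : g ∈ Subgroup.normalizer (Q : Set G)) (hcop : Nat.Coprime (orderOf g) p)
    {x : G} (hx : x ∈ Q) {k : ℕ} (hk : Nat.card (Subgroup.zpowers x) = p ^ k)
    (hS : SCl P (Subgroup.zpowers x)) : g * x * g⁻¹ = x := by
  have hCQ : Subgroup.zpowers x ≤ Q := by rw [Subgroup.zpowers_le]; exact hx
  apply conj_eq_self_of_cyclic (C := Subgroup.zpowers x) inferInstance (pow_orderOf_eq_one g)
  · intro y hy
    apply hS y hy g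
    exact hQP ((Subgroup.mem_normalizer_iff.mp hg y).mp (hCQ hy))
  · rw [hk]
    exact coprime_totient_prime_pow hp.out hcop
      (coprime_pred_of_min hp.out hmin (orderOf_dvd_natCard g))
  · exact Subgroup.mem_zpowers x

/-- The case `|D| = p`: all subgroups of order `p` (and `4` when `p = 2`) strongly closed. -/
theorem npc_of_d1 [Finite G] {p : ℕ} [hp : Fact p.Prime]
    (hmin : ∀ q : ℕ, q.Prime → q ∣ Nat.card G → p ≤ q) (P : Sylow p G)
    (hSC : ∀ E : Subgroup G, E ≤ (P : Subgroup G) → (Nat.card E = p ∨ (p = 2 ∧ Nat.card E = 4)) →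
      SCl (P : Subgroup G) E) : Cfsg.HasNormalPComplement p G := by
  obtain ⟨N, hN, hNc⟩ := (Cfsg.Agent.S0071.result P).mpr (by
    intro Q hQP g hg hcop
    apply cent_of_small (P.2.to_le hQP) hg hcop
    intro x hx hxs
    by_cases hx1 : x = 1
    · subst hx1; group
    have hCP : Subgroup.zpowers x ≤ (P : Subgroup G) := by
      rw [Subgroup.zpowers_le]; exact hQP hx
    rcases hxs with hxp | ⟨hp2, hx4⟩
    · have ho : orderOf x = p := by
        rcases (Nat.dvd_prime hp.out).mp (orderOf_dvd_of_pow_eq_one hxp) with h1 | h1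
        · exact absurd (orderOf_eq_one_iff.mp h1) hx1
        · exact h1
      have hc : Nat.card (Subgroup.zpowers x) = p ^ 1 := by rw [Nat.card_zpowers, ho, pow_one]
      exact conj_eq_of_scl_zpowers hmin hQP hg hcop hx hc
        (hSC _ hCP (Or.inl (by rw [hc, pow_one])))
    · subst hp2
      have ho : orderOf x ∣ 2 ^ 2 := orderOf_dvd_of_pow_eq_one (by norm_num; exact hx4)
      obtain ⟨k, hk2, hk⟩ := (Nat.dvd_prime_pow Nat.prime_two).mp ho
      have hc : Nat.card (Subgroup.zpowers x) = 2 ^ k := by rw [Nat.card_zpowers, hk]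
      have hk0 : k ≠ 0 := by
        rintro rfl
        exact hx1 (orderOf_eq_one_iff.mp (by simpa using hk))
      have hk12 : k = 1 ∨ k = 2 := by omega
      apply conj_eq_of_scl_zpowers hmin hQP hg hcop hx hc
      apply hSC _ hCP
      rcases hk12 with rfl | rfl
      · left; rw [hc]; norm_num
      · right; exact ⟨rfl, by rw [hc]; norm_num⟩)
  exact ⟨P, N, hN, hNc⟩

end Cfsg.Agent.Lib.Helper72.HSub
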