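import Mathlib
import Cfsg.Agent.Lib.Helper72.HSubSmall

set_option autoImplicit false

namespace Cfsg.Agent.Lib.Helper72.HSub

variable {G : Type*} [Group G]

/-- A non-cyclic group of order four has exponent two. -/
theorem sq_eq_one_of_card_four {V : Subgroup G} [Finite V] (hV4 : Nat.card V = 4)
    (hncyc : ¬ IsCyclic V) : ∀ v ∈ V, v ^ 2 = 1 := by
  intro v hv
  have h1 : orderOf (⟨v, hv⟩ : V) ∣ 4 := hV4 ▸ orderOf_dvd_natCard _
  have h2 : orderOf (⟨v, hv⟩ : V) ≠ 4 := by
    intro h
    exact hncyc (isCyclic_of_orderOf_eq_card _ (h.trans hV4.symm))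
  have h3 : orderOf (⟨v, hv⟩ : V) ∣ 2 := by
    have : orderOf (⟨v, hv⟩ : V) ∈ Nat.divisors 4 := Nat.mem_divisors.mpr ⟨h1, by norm_num⟩
    have hd : Nat.divisors 4 = {1, 2, 4} := by decide
    rw [hd] at this
    simp only [Finset.mem_insert, Finset.mem_singleton] at this
    rcases this with h | h | h
    · rw [h]; norm_num
    · rw [h]
    · exact absurd h h2
  have h4 : (⟨v, hv⟩ : V) ^ 2 = 1 := orderOf_dvd_iff_pow_eq_one.mp h3
  have := congrArg Subtype.val h4
  simpa using this

/-- An element of odd order normalizing a non-cyclic group `V` of order four and fixing a nontrivial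
element of `V` centralizes `V`. -/
theorem odd_cent_four {V : Subgroup G} [Finite V] (hV4 : Nat.card V = 4) (hncyc : ¬ IsCyclic V)
    {g : G} {m : ℕ} (hm : g ^ m = 1) (hodd : Odd m) (hgV : ∀ v ∈ V, g * v * g⁻¹ ∈ V)
    {v₀ : G} (hv₀ : v₀ ∈ V) (hv₀1 : v₀ ≠ 1) (hfix : g * v₀ * g⁻¹ = v₀) :
    ∀ v ∈ V, g * v * g⁻¹ = v := by
  have hexp := sq_eq_one_of_card_four hV4 hncyc
  have hinv : ∀ v ∈ V, v⁻¹ = v := by
    intro v hv
    have := hexp v hv
    rw [pow_two] at this
    exact inv_eq_of_mul_eq_one_left this
  have hZfix : ∀ c ∈ Subgroup.zpowers v₀, g * c * g⁻¹ = c := by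
    intro c hc
    obtain ⟨k, rfl⟩ := Subgroup.mem_zpowers_iff.mp hc
    rw [← conj_zpow, hfix]
  have hZV : Subgroup.zpowers v₀ ≤ V := by rw [Subgroup.zpowers_le]; exact hv₀
  have hv₀o : orderOf v₀ = 2 := by
    have h1 : orderOf v₀ ∣ 2 := orderOf_dvd_of_pow_eq_one (hexp v₀ hv₀)
    rcases (Nat.dvd_prime Nat.prime_two).mp h1 with h | h
    · exact absurd (orderOf_eq_one_iff.mp h) hv₀1
    · exact h
  have hidx : ((Subgroup.zpowers v₀).subgroupOf V).index = 2 := by
    have h1 := Subgroup.card_mul_index ((Subgroup.zpowers v₀).subgroupOf V)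
    have h2 : Nat.card ((Subgroup.zpowers v₀).subgroupOf V) = 2 := by
      rw [Nat.card_congr (Subgroup.subgroupOfEquivOfLe hZV).toEquiv, Nat.card_zpowers, hv₀o]
    rw [h2, hV4] at h1
    omega
  intro v hv
  by_cases hvZ : v ∈ Subgroup.zpowers v₀
  · exact hZfix v hvZ
  · set w : G := g * v * g⁻¹ with hw
    have hwV : w ∈ V := hgV v hv
    have hwZ : w ∉ Subgroup.zpowers v₀ := by
      intro h
      have h1 := hZfix w h
      -- `g w g⁻¹ = w` and `w = g v g⁻¹` give `w = v`
      have h2 : w = v := by
        have : g * w * g⁻¹ = g * v * g⁻¹ := h1.trans hw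
        have := mul_left_cancel (mul_right_cancel this)
        exact this
      exact hvZ (h2 ▸ h)
    have hwv : (⟨w, hwV⟩ : V) * ⟨v, hv⟩ ∈ (Subgroup.zpowers v₀).subgroupOf V := by
      rw [Subgroup.mul_mem_iff_of_index_two hidx]
      simp only [Subgroup.mem_subgroupOf]
      exact ⟨fun h => absurd h hwZ, fun h => absurd h hvZ⟩
    have hc : w * v ∈ Subgroup.zpowers v₀ := by
      simpa [Subgroup.mem_subgroupOf] using hwv
    set c : G := w * v with hcdef
    have hwc : w = c * v := by
      rw [hcdef, mul_assoc, ← pow_two, hexp v hv, mul_one]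
    have hcc : c * c = 1 := by
      have := hexp c (hZV hc)
      rwa [pow_two] at this
    -- `g² v g⁻² = v`
    have h2 : g * w * g⁻¹ = v := by
      rw [hwc]
      have : g * (c * v) * g⁻¹ = (g * c * g⁻¹) * (g * v * g⁻¹) := by group
      rw [this, hZfix c hc, ← hw, hwc, ← mul_assoc, hcc, one_mul]
    have hcomm2 : Commute (g * g) v := by
      have : g * g * v * (g * g)⁻¹ = v := by
        have e : g * g * v * (g * g)⁻¹ = g * (g * v * g⁻¹) * g⁻¹ := by group
        rw [e, ← hw, h2]
      show g * g * v = v * (g * g)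
      calc g * g * v = g * g * v * (g * g)⁻¹ * (g * g) := by group
        _ = v * (g * g) := by rw [this]
    obtain ⟨j, hj⟩ := hodd
    have hg : g = (g * g) ^ (j + 1) := by
      have : (g * g) ^ (j + 1) = g ^ m * g := by
        rw [hj, ← pow_two, ← pow_mul, ← pow_succ]
        congr 1
      rw [this, hm, one_mul]
    have hcomm : Commute g v := by
      rw [hg]; exact hcomm2.pow_left _
    calc g * v * g⁻¹ = v * g * g⁻¹ := by rw [hcomm.eq]
      _ = v := by group


/-- Two subgroups of order four inside a group of order eight meet nontrivially. -/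
theorem card_inf_ne_one_of_four_in_eight {F E V : Subgroup G} [Finite F] (hE : E ≤ F) (hV : V ≤ F)
    (hF8 : Nat.card F = 8) (hE4 : Nat.card E = 4) (hV4 : Nat.card V = 4) :
    Nat.card (E ⊓ V : Subgroup G) ≠ 1 := by
  intro h1
  haveI : Finite E := Finite.of_injective (fun x : E => (⟨x, hE x.2⟩ : F))
    (fun a b hab => by
      have := congrArg (fun y : F => (y : G)) hab
      exact Subtype.ext this)
  haveI : Finite V := Finite.of_injective (fun x : V => (⟨x, hV x.2⟩ : F))
    (fun a b hab => by
      have := congrArg (fun y : F => (y : G)) hab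
      exact Subtype.ext this)
  have hbot : E ⊓ V = ⊥ := Subgroup.card_eq_one.mp h1
  have hdis : Disjoint E V := disjoint_iff.mpr hbot
  have hinj := Subgroup.mul_injective_of_disjoint hdis
  let f : E × V → F := fun ab => ⟨(ab.1 : G) * (ab.2 : G), F.mul_mem (hE ab.1.2) (hV ab.2.2)⟩
  have hf : Function.Injective f := by
    intro a b hab
    apply hinj
    exact congrArg Subtype.val hab
  have := Nat.card_le_card_of_injective f hf
  rw [Nat.card_prod, hE4, hV4, hF8] at this
  omega

/-- The case `p = 2`, `|D| = 4`. -/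
theorem npc_of_22 [Finite G] (P : Sylow 2 G) (h8 : 2 ^ 2 < Nat.card (P : Subgroup G))
    (hSC : ∀ E : Subgroup G, E ≤ (P : Subgroup G) → Nat.card E = 2 ^ 2 → SCl (P : Subgroup G) E) :
    Cfsg.HasNormalPComplement 2 G := by
  haveI : Fact (Nat.Prime 2) := ⟨Nat.prime_two⟩
  have hmin : ∀ q : ℕ, q.Prime → q ∣ Nat.card G → 2 ≤ q := fun q hq _ => hq.two_le
  obtain ⟨N, hN, hNc⟩ := (Cfsg.Agent.S0071.result P).mpr (by
    intro Q hQP g hg hcop
    apply cent_of_small (P.2.to_le hQP) hg hcop
    intro x hx hxs
    have hx4 : x ^ (2 ^ 2) = 1 := by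
      rcases hxs with h | ⟨-, h⟩
      · calc x ^ (2 ^ 2) = (x ^ 2) ^ 2 := by rw [← pow_mul]; norm_num
          _ = 1 := by rw [h, one_pow]
      · exact h
    have hodd : Odd (orderOf g) := Nat.coprime_two_right.mp hcop
    obtain ⟨k, hk2, hk⟩ := (Nat.dvd_prime_pow Nat.prime_two).mp (orderOf_dvd_of_pow_eq_one hx4)
    have hc : Nat.card (Subgroup.zpowers x) = 2 ^ k := by rw [Nat.card_zpowers, hk]
    have hCP : Subgroup.zpowers x ≤ (P : Subgroup G) := by
      rw [Subgroup.zpowers_le]; exact hQP hx
    have hk012 : k = 0 ∨ k = 1 ∨ k = 2 := by omega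
    rcases hk012 with rfl | rfl | rfl
    · have : x = 1 := orderOf_eq_one_iff.mp (by simpa using hk)
      subst this; group
    · -- involution
      have hx1 : x ≠ 1 := by
        intro h; rw [h, orderOf_one] at hk; norm_num at hk
      obtain ⟨V, hVP, hxV, hV4⟩ := exists_card_eq_of_mem P.2 (d := 2) (le_of_lt h8) (hQP hx) hx4
      haveI : Finite V := inferInstance
      have hSV := hSC V hVP hV4
      have hWinv : ∀ w ∈ (V ⊓ Q : Subgroup G), g * w * g⁻¹ ∈ (V ⊓ Q : Subgroup G) := by
        intro w hw
        have hwQ : g * w * g⁻¹ ∈ Q := (Subgroup.mem_normalizer_iff.mp hg w).mp hw.2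
        exact ⟨hSV w hw.1 g (hQP hwQ), hwQ⟩
      have hWd : Nat.card (V ⊓ Q : Subgroup G) ∣ 4 := by
        have := Subgroup.card_dvd_of_le (inf_le_left : V ⊓ Q ≤ V)
        rwa [hV4] at this
      have hW1 : Nat.card (V ⊓ Q : Subgroup G) ≠ 1 := by
        intro h
        have hbot : (V ⊓ Q : Subgroup G) = ⊥ := Subgroup.card_eq_one.mp h
        have : x ∈ (V ⊓ Q : Subgroup G) := ⟨hxV, hx⟩
        rw [hbot, Subgroup.mem_bot] at this
        exact hx1 this
      have hW : Nat.card (V ⊓ Q : Subgroup G) = 2 ∨ Nat.card (V ⊓ Q : Subgroup G) = 4 := by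
        have : Nat.card (V ⊓ Q : Subgroup G) ∈ Nat.divisors 4 := Nat.mem_divisors.mpr ⟨hWd, by norm_num⟩
        have hd : Nat.divisors 4 = {1, 2, 4} := by decide
        rw [hd] at this
        simp only [Finset.mem_insert, Finset.mem_singleton] at this
        rcases this with h | h | h
        · exact absurd h hW1
        · exact Or.inl h
        · exact Or.inr h
      rcases hW with hW2 | hW4
      · haveI : Fact (Nat.Prime 2) := ⟨Nat.prime_two⟩
        have hcyc : IsCyclic (V ⊓ Q : Subgroup G) := isCyclic_of_prime_card hW2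
        exact conj_eq_self_of_cyclic hcyc (pow_orderOf_eq_one g) hWinv (by rw [hW2]; simp)
          x ⟨hxV, hx⟩
      · have hVQ : (V ⊓ Q : Subgroup G) = V :=
          Subgroup.eq_of_le_of_card_ge inf_le_left (by rw [hW4, hV4]; norm_num)
        have hVinv : ∀ v ∈ V, g * v * g⁻¹ ∈ V := by
          intro v hv
          have hv' : v ∈ (V ⊓ Q : Subgroup G) := by rw [hVQ]; exact hv
          exact (hWinv v hv').1
        by_cases hcyc : IsCyclic V
        · apply conj_eq_self_of_cyclic hcyc (pow_orderOf_eq_one g) hVinv _ x hxV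
          rw [hV4]
          exact coprime_totient_prime_pow Nat.prime_two hcop (by simp)
        · -- a subgroup `F` of order eight between `V` and `P`
          obtain ⟨n, hn⟩ := P.2.exists_card_eq
          have hn3 : 3 ≤ n := by
            rw [hn] at h8
            have := (Nat.pow_lt_pow_iff_right (by norm_num : 1 < 2)).mp h8
            omega
          have hdvd : 2 ^ 3 ∣ Nat.card (P : Subgroup G) := by rw [hn]; exact pow_dvd_pow 2 hn3
          have hH : Nat.card (V.subgroupOf (P : Subgroup G)) = 2 ^ 2 := by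
            rw [Nat.card_congr (Subgroup.subgroupOfEquivOfLe hVP).toEquiv, hV4]
          obtain ⟨K, hK, hHK⟩ := Sylow.exists_subgroup_card_pow_prime_le 2 hdvd
            (V.subgroupOf (P : Subgroup G)) hH (by norm_num)
          set F : Subgroup G := K.map (P : Subgroup G).subtype with hF
          have hF8 : Nat.card F = 8 := by
            rw [hF, Nat.card_congr (K.equivMapOfInjective _
              (Subgroup.subtype_injective _)).symm.toEquiv, hK]; norm_num
          have hFP : F ≤ (P : Subgroup G) := by
            rintro _ ⟨y, -, rfl⟩; exact y.2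
          have hVF : V ≤ F := by
            intro v hv
            exact ⟨⟨v, hVP hv⟩, hHK (Subgroup.mem_subgroupOf.mpr hv), rfl⟩
          have hVltF : V < F := by
            refine lt_of_le_of_ne hVF ?_
            intro h
            rw [← h, hV4] at hF8
            norm_num at hF8
          obtain ⟨u, huF, huV⟩ := SetLike.exists_of_lt hVltF
          have hu4 : u ^ (2 ^ 2) = 1 := by
            have h1 : orderOf (⟨u, huF⟩ : F) ∣ 8 := hF8 ▸ orderOf_dvd_natCard _
            have h2 : orderOf (⟨u, huF⟩ : F) ≠ 8 := by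
              intro h
              haveI : IsCyclic F := isCyclic_of_orderOf_eq_card _ (h.trans hF8.symm)
              have : IsCyclic (V.subgroupOf F) := inferInstance
              exact hcyc (isCyclic_of_surjective (Subgroup.subgroupOfEquivOfLe hVF)
                (Subgroup.subgroupOfEquivOfLe hVF).surjective)
            have h3 : orderOf (⟨u, huF⟩ : F) ∣ 4 := by
              have : orderOf (⟨u, huF⟩ : F) ∈ Nat.divisors 8 :=
                Nat.mem_divisors.mpr ⟨h1, by norm_num⟩
              have hd : Nat.divisors 8 = {1, 2, 4, 8} := by decide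
              rw [hd] at this
              simp only [Finset.mem_insert, Finset.mem_singleton] at this
              rcases this with h | h | h | h
              · rw [h]; norm_num
              · rw [h]; norm_num
              · rw [h]
              · exact absurd h h2
            have h4 : (⟨u, huF⟩ : F) ^ 4 = 1 := orderOf_dvd_iff_pow_eq_one.mp h3
            have := congrArg Subtype.val h4
            simpa using this
          obtain ⟨E', hE'F, huE', hE'4⟩ := exists_card_eq_of_mem (P.2.to_le hFP) (d := 2)
            (by rw [hF8]; norm_num) huF hu4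
          have hSE' := hSC E' (hE'F.trans hFP) hE'4
          have hW'inv : ∀ w ∈ (E' ⊓ V : Subgroup G), g * w * g⁻¹ ∈ (E' ⊓ V : Subgroup G) := by
            intro w hw
            have hwV : g * w * g⁻¹ ∈ V := hVinv w hw.2
            exact ⟨hSE' w hw.1 g (hVP hwV), hwV⟩
          have hW'd : Nat.card (E' ⊓ V : Subgroup G) ∣ 4 := by
            have := Subgroup.card_dvd_of_le (inf_le_left : E' ⊓ V ≤ E')
            rwa [hE'4] at this
          have hW'4 : Nat.card (E' ⊓ V : Subgroup G) ≠ 4 := by
            intro h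
            have : (E' ⊓ V : Subgroup G) = E' :=
              Subgroup.eq_of_le_of_card_ge inf_le_left (by rw [h, hE'4]; norm_num)
            have hu' : u ∈ (E' ⊓ V : Subgroup G) := by rw [this]; exact huE'
            exact huV hu'.2
          have hW'1 := card_inf_ne_one_of_four_in_eight hE'F hVF hF8 hE'4 hV4
          have hW'2 : Nat.card (E' ⊓ V : Subgroup G) = 2 := by
            have : Nat.card (E' ⊓ V : Subgroup G) ∈ Nat.divisors 4 :=
              Nat.mem_divisors.mpr ⟨hW'd, by norm_num⟩
            have hd : Nat.divisors 4 = {1, 2, 4} := by decide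
            rw [hd] at this
            simp only [Finset.mem_insert, Finset.mem_singleton] at this
            rcases this with h | h | h
            · exact absurd h hW'1
            · exact h
            · exact absurd h hW'4
          have hcyc' : IsCyclic (E' ⊓ V : Subgroup G) := isCyclic_of_prime_card hW'2
          have hfix := conj_eq_self_of_cyclic hcyc' (pow_orderOf_eq_one g) hW'inv
            (by rw [hW'2]; simp)
          have hne : (E' ⊓ V : Subgroup G) ≠ ⊥ := by
            intro h
            rw [h, Subgroup.card_bot] at hW'2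
            norm_num at hW'2
          obtain ⟨v₀, hv₀1⟩ := (Subgroup.ne_bot_iff_exists_ne_one).mp hne
          have hv₀1' : (v₀ : G) ≠ 1 := fun h => hv₀1 (Subtype.ext h)
          exact odd_cent_four hV4 hcyc (pow_orderOf_eq_one g) hodd hVinv v₀.2.2 hv₀1'
            (hfix v₀ v₀.2) x hxV
    · exact conj_eq_of_scl_zpowers hmin hQP hg hcop hx hc (hSC _ hCP hc))
  exact ⟨P, N, hN, hNc⟩

end Cfsg.Agent.Lib.Helper72.HSub
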