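import Mathlib
import Cfsg.Agent.Lib.Helper1.Tools
import Cfsg.Agent.Lib.Helper72.HSubBasic

set_option autoImplicit false

namespace Cfsg.Agent.Lib.Helper72.HSub

variable {G : Type*} [Group G]

/-- In a `p`-group, an element with `x ^ (p ^ d) ≠ 1` has a power generating a cyclic group of order
`p ^ d`. -/
theorem exists_zpowers_card_of_large [Finite G] {p : ℕ} [hp : Fact p.Prime] {T : Subgroup G}
    (hT : IsPGroup p T) {d : ℕ} {x : G} (hx : x ∈ T) (hxl : x ^ (p ^ d) ≠ 1) :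
    ∃ e ∈ Subgroup.zpowers x, Nat.card (Subgroup.zpowers e) = p ^ d := by
  obtain ⟨k, hk⟩ := hT ⟨x, hx⟩
  have hk' : x ^ (p ^ k) = 1 := by
    have := congrArg Subtype.val hk; simpa using this
  obtain ⟨j, -, hj⟩ := (Nat.dvd_prime_pow hp.out).mp (orderOf_dvd_of_pow_eq_one hk')
  have hdj : d < j := by
    by_contra hcon
    push Not at hcon
    apply hxl
    apply orderOf_dvd_iff_pow_eq_one.mp
    rw [hj]; exact pow_dvd_pow p hcon
  refine ⟨x ^ (p ^ (j - d)), Subgroup.npow_mem_zpowers x _, ?_⟩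
  rw [Nat.card_zpowers, orderOf_pow' x (pow_pos hp.out.pos _).ne', hj]
  have h1 : Nat.gcd (p ^ j) (p ^ (j - d)) = p ^ (j - d) :=
    Nat.gcd_eq_right (pow_dvd_pow p (by omega))
  rw [h1, Nat.pow_div (by omega) hp.out.pos]
  congr 1; omega

/-- A normal cyclic subgroup of order `p ^ d`, `d ≥ 1`, `p` the smallest prime divisor of `|G|`,
contains a central subgroup of order `p`. -/
theorem exists_central_of_cyclic_normal [Finite G] {p : ℕ} [hp : Fact p.Prime]
    (hmin : ∀ q : ℕ, q.Prime → q ∣ Nat.card G → p ≤ q) {E₀ : Subgroup G} (hcyc : IsCyclic E₀)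
    {d : ℕ} (hd : 1 ≤ d) (hcard : Nat.card E₀ = p ^ d)
    (hnorm : ∀ u : G, ∀ y ∈ E₀, u * y * u⁻¹ ∈ E₀) :
    ∃ Z₀ : Subgroup G, Z₀ ≤ E₀ ∧ Nat.card Z₀ = p ∧ Z₀ ≤ Subgroup.center G := by
  obtain ⟨g, hg⟩ := hcyc.exists_generator
  set e : G := (g : G) with he
  have hgo : orderOf g = p ^ d := by
    rw [orderOf_eq_card_of_forall_mem_zpowers hg, hcard]
  have heo : orderOf e = p ^ d := by rw [he, Subgroup.orderOf_coe, hgo]
  have hmemE : ∀ y ∈ E₀, ∃ j : ℤ, y = e ^ j := by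
    intro y hy
    obtain ⟨j, hj⟩ := Subgroup.mem_zpowers_iff.mp (hg ⟨y, hy⟩)
    refine ⟨j, ?_⟩
    have := congrArg Subtype.val hj
    simpa [he] using this.symm
  set z : G := e ^ (p ^ (d - 1)) with hz
  have hzo : orderOf z = p := by
    rw [hz, orderOf_pow' e (pow_pos hp.out.pos _).ne', heo]
    have h1 : Nat.gcd (p ^ d) (p ^ (d - 1)) = p ^ (d - 1) :=
      Nat.gcd_eq_right (pow_dvd_pow p (by omega))
    rw [h1, Nat.pow_div (by omega) hp.out.pos]
    have : d - (d - 1) = 1 := by omega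
    rw [this, pow_one]
  have hzE : z ∈ E₀ := by rw [hz]; exact E₀.pow_mem g.2 _
  have hZE : Subgroup.zpowers z ≤ E₀ := by rw [Subgroup.zpowers_le]; exact hzE
  have hZc : Nat.card (Subgroup.zpowers z) = p := by rw [Nat.card_zpowers, hzo]
  -- elements of `E₀` of order dividing `p` lie in `⟨z⟩`
  have hΩ : ∀ y ∈ E₀, y ^ p = 1 → y ∈ Subgroup.zpowers z := by
    intro y hy hyp
    obtain ⟨j, rfl⟩ := hmemE y hy
    rw [← zpow_natCast, ← zpow_mul] at hyp
    have h1 : (orderOf e : ℤ) ∣ j * (p : ℤ) := orderOf_dvd_iff_zpow_eq_one.mpr hyp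
    rw [heo] at h1
    have h2 : ((p ^ (d - 1) : ℕ) : ℤ) ∣ j := by
      have hpd : (p ^ d : ℕ) = p ^ (d - 1) * p := by
        rw [← pow_succ]; congr 1; omega
      rw [hpd] at h1
      push_cast at h1 ⊢
      exact Int.dvd_of_mul_dvd_mul_right (by exact_mod_cast hp.out.ne_zero) h1
    obtain ⟨c, rfl⟩ := h2
    rw [Subgroup.mem_zpowers_iff]
    refine ⟨c, ?_⟩
    rw [hz, ← zpow_natCast, ← zpow_mul]
  have hconjZ : ∀ u : G, ∀ y ∈ Subgroup.zpowers z, u * y * u⁻¹ ∈ Subgroup.zpowers z := by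
    intro u y hy
    apply hΩ _ (hnorm u y (hZE hy))
    have hyp : y ^ p = 1 := by
      obtain ⟨k, rfl⟩ := Subgroup.mem_zpowers_iff.mp hy
      rw [← zpow_natCast, ← zpow_mul, mul_comm, zpow_mul, zpow_natCast, ← hzo, pow_orderOf_eq_one,
        one_zpow]
    rw [conj_pow, hyp]; simp
  refine ⟨Subgroup.zpowers z, hZE, hZc, ?_⟩
  rw [Subgroup.zpowers_le, Subgroup.mem_center_iff]
  intro u
  have hcop : Nat.Coprime (orderOf u) (Nat.totient (Nat.card (Subgroup.zpowers z))) := by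
    rw [hZc, Nat.totient_prime hp.out]
    exact coprime_pred_of_min hp.out hmin (orderOf_dvd_natCard u)
  have := conj_eq_self_of_cyclic (C := Subgroup.zpowers z) inferInstance (pow_orderOf_eq_one u)
    (hconjZ u) hcop z (Subgroup.mem_zpowers z)
  calc u * z = u * z * u⁻¹ * u := by group
    _ = z * u := by rw [this]

section sub

variable [Finite G] {p : ℕ} [hp : Fact p.Prime] (N : Subgroup G) (P : Sylow p G)
  (hPN : (P : Subgroup G) ≤ N)

theorem card_sylow_subtype : Nat.card ((P.subtype hPN : Sylow p N) : Subgroup N) =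
    Nat.card (P : Subgroup G) := by
  rw [Sylow.coe_subtype]
  exact Nat.card_congr (Subgroup.subgroupOfEquivOfLe hPN).toEquiv

theorem scl_sylow_subtype {d : ℕ}
    (hSC : ∀ E : Subgroup G, E ≤ (P : Subgroup G) → Nat.card E = p ^ d → SCl (P : Subgroup G) E)
    (E' : Subgroup N) (hE' : E' ≤ ((P.subtype hPN : Sylow p N) : Subgroup N))
    (hc : Nat.card E' = p ^ d) : SCl ((P.subtype hPN : Sylow p N) : Subgroup N) E' := by
  have hmemP : ∀ y : N, y ∈ ((P.subtype hPN : Sylow p N) : Subgroup N) ↔ (y : G) ∈ (P : Subgroup G) := by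
    intro y; rw [Sylow.coe_subtype, Subgroup.mem_subgroupOf]
  have hE : E'.map N.subtype ≤ (P : Subgroup G) := by
    rintro _ ⟨y, hy, rfl⟩
    exact (hmemP y).mp (hE' hy)
  have hcE : Nat.card (E'.map N.subtype) = p ^ d := by
    rw [← hc]
    exact Nat.card_congr (E'.equivMapOfInjective _ (Subgroup.subtype_injective _)).symm.toEquiv
  have h := hSC _ hE hcE
  intro x hx g hg
  have h1 := h (x : G) ⟨x, hx, rfl⟩ (g : G) ((hmemP _).mp hg)
  obtain ⟨y, hy, hyx⟩ := h1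
  have : y = g * x * g⁻¹ := by
    apply Subtype.ext
    simpa using hyx
  rw [← this]; exact hy

end sub

section quot

variable [Finite G] {p : ℕ} [hp : Fact p.Prime] (Z₀ : Subgroup G) [Z₀.Normal] (P : Sylow p G)
  (hZP : Z₀ ≤ (P : Subgroup G))

/-- The image of `P` in `G ⧸ Z₀`. -/
noncomputable def Pbar : Sylow p (G ⧸ Z₀) := P.mapSurjective (QuotientGroup.mk'_surjective Z₀)

theorem coe_Pbar : ((Pbar Z₀ P : Sylow p (G ⧸ Z₀)) : Subgroup (G ⧸ Z₀)) =
    (P : Subgroup G).map (QuotientGroup.mk' Z₀) := Sylow.coe_mapSurjective _ _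

include hZP in
theorem mem_of_mk_mem_Pbar {x : G} (hx : (QuotientGroup.mk' Z₀ x) ∈
    ((Pbar Z₀ P : Sylow p (G ⧸ Z₀)) : Subgroup (G ⧸ Z₀))) : x ∈ (P : Subgroup G) := by
  rw [coe_Pbar] at hx
  obtain ⟨y, hy, hyx⟩ := hx
  have h1 : y⁻¹ * x ∈ Z₀ := by
    have : (QuotientGroup.mk y : G ⧸ Z₀) = QuotientGroup.mk x := hyx
    exact QuotientGroup.eq.mp this
  have : x = y * (y⁻¹ * x) := by group
  rw [this]; exact (P : Subgroup G).mul_mem hy (hZP h1)

include hZP in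
theorem card_Pbar : Nat.card ((Pbar Z₀ P : Sylow p (G ⧸ Z₀)) : Subgroup (G ⧸ Z₀)) * Nat.card Z₀ =
    Nat.card (P : Subgroup G) := by
  rw [coe_Pbar]
  exact Cfsg.Agent.Lib.Helper1.card_map_mk_of_le Z₀ (P : Subgroup G) hZP

include hZP in
theorem scl_Pbar {d' : ℕ} (hZc : Nat.card Z₀ = p)
    (hSC : ∀ E : Subgroup G, E ≤ (P : Subgroup G) → Nat.card E = p ^ (d' + 1) →
      SCl (P : Subgroup G) E)
    (Eb : Subgroup (G ⧸ Z₀)) (hEb : Eb ≤ ((Pbar Z₀ P : Sylow p (G ⧸ Z₀)) : Subgroup (G ⧸ Z₀)))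
    (hc : Nat.card Eb = p ^ d') :
    SCl ((Pbar Z₀ P : Sylow p (G ⧸ Z₀)) : Subgroup (G ⧸ Z₀)) Eb := by
  set E : Subgroup G := Eb.comap (QuotientGroup.mk' Z₀) with hE
  have hEP : E ≤ (P : Subgroup G) := by
    intro x hx
    exact mem_of_mk_mem_Pbar Z₀ P hZP (hEb (Subgroup.mem_comap.mp hx))
  have hZE : Z₀ ≤ E := by
    intro z hz
    rw [hE, Subgroup.mem_comap]
    have : QuotientGroup.mk' Z₀ z = 1 := (QuotientGroup.eq_one_iff z).mpr hz
    rw [this]; exact Eb.one_mem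
  have hmap : E.map (QuotientGroup.mk' Z₀) = Eb :=
    Subgroup.map_comap_eq_self_of_surjective (QuotientGroup.mk'_surjective Z₀) Eb
  have hcE : Nat.card E = p ^ (d' + 1) := by
    have := Cfsg.Agent.Lib.Helper1.card_map_mk_of_le Z₀ E hZE
    rw [hmap, hc, hZc] at this
    rw [← this, pow_succ]
  have h := hSC E hEP hcE
  intro xb hxb gb hgb
  obtain ⟨x, rfl⟩ := QuotientGroup.mk'_surjective Z₀ xb
  obtain ⟨g, rfl⟩ := QuotientGroup.mk'_surjective Z₀ gb
  have hx : x ∈ E := Subgroup.mem_comap.mpr hxb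
  have hg' : QuotientGroup.mk' Z₀ (g * x * g⁻¹) ∈
      ((Pbar Z₀ P : Sylow p (G ⧸ Z₀)) : Subgroup (G ⧸ Z₀)) := by
    simpa using hgb
  have h1 := h x hx g (mem_of_mk_mem_Pbar Z₀ P hZP hg')
  have h2 : QuotientGroup.mk' Z₀ (g * x * g⁻¹) ∈ Eb := Subgroup.mem_comap.mp h1
  simpa using h2

end quot

end Cfsg.Agent.Lib.Helper72.HSub
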