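import Mathlib
import Cfsg.Agent.Lib.Helper54.ZJChainTools
import Cfsg.Agent.Lib.Helper72.HSubFlow
import Cfsg.Agent.Lib.Helper72.HSubFour
import Cfsg.Agent.Lib.Helper72.HSubTransfer

set_option autoImplicit false

universe u

namespace Cfsg.Agent.Lib.Helper72.HSub

open Cfsg.Agent.Lib.Helper2

/-- Main theorem (induction form): if `p` is the smallest prime divisor of `|G|` and all subgroups
of order `p ^ d` (and `4` when `p ^ d = 2`) of a Sylow `p`-subgroup `P`, `1 ≤ d`, `p ^ d < |P|`, are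
strongly closed in `P` with respect to `G`, then `G` has a normal `p`-complement. -/
theorem main_aux : ∀ n : ℕ, ∀ (G : Type u) [Group G] [Finite G], Nat.card G = n →
    ∀ (p : ℕ) [Fact p.Prime], (∀ q : ℕ, q.Prime → q ∣ Nat.card G → p ≤ q) →
    ∀ (P : Sylow p G) (d : ℕ), 1 ≤ d → p ^ d < Nat.card (P : Subgroup G) →
    (∀ E : Subgroup G, E ≤ (P : Subgroup G) →
      (Nat.card E = p ^ d ∨ (p ^ d = 2 ∧ Nat.card E = 4)) → SCl (P : Subgroup G) E) →
    Cfsg.HasNormalPComplement p G := by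
  intro n
  induction n using Nat.strong_induction_on with
  | _ n ih =>
  intro G _ _ hn p hp hmin P d hd hlt hSC
  by_cases hd1 : d = 1
  · subst hd1
    apply npc_of_d1 hmin P
    intro E hE hc
    apply hSC E hE
    rcases hc with h | ⟨h2, h4⟩
    · left; rw [h, pow_one]
    · right; exact ⟨by rw [pow_one]; exact h2, h4⟩
  by_cases h22 : p = 2 ∧ d = 2
  · obtain ⟨rfl, rfl⟩ := h22
    exact npc_of_22 P hlt (fun E hE hc => hSC E hE (Or.inl hc))
  have hd2 : 2 ≤ d := by omega
  have hSC' : ∀ E : Subgroup G, E ≤ (P : Subgroup G) → Nat.card E = p ^ d →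
      SCl (P : Subgroup G) E := fun E hE hc => hSC E hE (Or.inl hc)
  have hpd2 : ∀ d' : ℕ, p ^ d' = 2 → p = 2 ∧ d' = 1 := by
    intro d' h
    have hd'0 : d' ≠ 0 := by
      rintro rfl; norm_num at h
    have hp2 : p = 2 := by
      have : p ∣ 2 := h ▸ dvd_pow_self p hd'0
      exact (Nat.prime_dvd_prime_iff_eq hp.out Nat.prime_two).mp this
    subst hp2
    refine ⟨rfl, ?_⟩
    exact Nat.pow_right_injective (le_refl 2) (by simpa using h)
  by_cases hα : ∃ E₀ : Subgroup G, E₀ ≤ (P : Subgroup G) ∧ Nat.card E₀ = p ^ d ∧ IsCyclic E₀ ∧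
      ∀ u : G, ∀ y ∈ E₀, u * y * u⁻¹ ∈ E₀
  · -- a cyclic normal subgroup of order `p ^ d`: pass to the quotient by its subgroup of order `p`
    obtain ⟨E₀, hE₀P, hE₀c, hcyc, hnorm⟩ := hα
    obtain ⟨Z₀, hZE, hZc, hZcen⟩ := exists_central_of_cyclic_normal hmin hcyc hd hE₀c hnorm
    haveI hZn : Z₀.Normal := ⟨fun z hz g => by
      have := Subgroup.mem_center_iff.mp (hZcen hz) g
      have e : g * z * g⁻¹ = z := by
        calc g * z * g⁻¹ = z * g * g⁻¹ := by rw [this]
          _ = z := by group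
      rw [e]; exact hz⟩
    have hZP : Z₀ ≤ (P : Subgroup G) := hZE.trans hE₀P
    obtain ⟨d', rfl⟩ : ∃ d', d = d' + 1 := ⟨d - 1, by omega⟩
    have hcardG : Nat.card G = Nat.card (G ⧸ Z₀) * p := by
      rw [← hZc]; exact Subgroup.card_eq_card_quotient_mul_card_subgroup Z₀
    have hcardQ : Nat.card (G ⧸ Z₀) < n := by
      rw [← hn, hcardG]
      have h1 : 0 < Nat.card (G ⧸ Z₀) := Nat.card_pos
      have h2 := hp.out.two_le
      nlinarith
    have hminQ : ∀ q : ℕ, q.Prime → q ∣ Nat.card (G ⧸ Z₀) → p ≤ q := by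
      intro q hq hqd
      exact hmin q hq (hqd.trans (by rw [hcardG]; exact dvd_mul_right _ _))
    have hltQ : p ^ d' < Nat.card ((Pbar Z₀ P : Sylow p (G ⧸ Z₀)) : Subgroup (G ⧸ Z₀)) := by
      have h1 := card_Pbar Z₀ P hZP
      rw [hZc] at h1
      rw [← h1, pow_succ] at hlt
      exact lt_of_mul_lt_mul_right hlt (Nat.zero_le _)
    have hq := ih (Nat.card (G ⧸ Z₀)) hcardQ (G ⧸ Z₀) rfl p hminQ (Pbar Z₀ P) d' (by omega) hltQ
      (by
        intro Eb hEb hc
        rcases hc with hc | ⟨h2, -⟩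
        · exact scl_Pbar Z₀ P hZP hZc hSC' Eb hEb hc
        · exfalso
          obtain ⟨rfl, rfl⟩ := hpd2 d' h2
          exact h22 ⟨rfl, rfl⟩)
    apply Cfsg.Agent.Lib.Helper54.hasNPC_of_quotient_pGroup Z₀ (IsPGroup.of_card (n := 1) (by rw [hZc, pow_one]))
      ?_ hq
    intro g _
    rw [Subgroup.mem_centralizer_iff]
    intro z hz
    exact (Subgroup.mem_center_iff.mp (hZcen hz) g).symm
  · -- the fusion argument
    apply npc_of_flow (P := P) (d := d)
    refine ⟨hmin, hlt, hSC', ?_⟩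
    rintro T hT h hhT hcop ⟨x, hxT, hxl⟩
    obtain ⟨e, heX, hec⟩ := exists_zpowers_card_of_large (P.2.to_le hT) hxT hxl
    have heT : e ∈ T := (Subgroup.zpowers_le.mpr hxT) heX
    have hExT : Subgroup.zpowers e ≤ T := Subgroup.zpowers_le.mpr heT
    have hExP : Subgroup.zpowers e ≤ (P : Subgroup G) := hExT.trans hT
    have hS := hSC' _ hExP hec
    have hhN : h ∈ Subgroup.normalizer ((Subgroup.zpowers e : Subgroup G) : Set G) := by
      apply mem_normalizer_of_conj_mem
      intro y hy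
      exact hS y hy h (hT ((Subgroup.mem_normalizer_iff.mp hhT y).mp (hExT hy)))
    have hPN : (P : Subgroup G) ≤ Subgroup.normalizer ((Subgroup.zpowers e : Subgroup G) : Set G) :=
      hS.le_normalizer hExP
    set N : Subgroup G := Subgroup.normalizer ((Subgroup.zpowers e : Subgroup G) : Set G) with hNdef
    have hNtop : N ≠ ⊤ := by
      intro htop
      apply hα
      refine ⟨Subgroup.zpowers e, hExP, hec, inferInstance, ?_⟩
      intro u y hy
      have hu : u ∈ N := htop ▸ Subgroup.mem_top u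
      exact (Subgroup.mem_normalizer_iff.mp hu y).mp hy
    have hNcard : Nat.card N < n := by
      rw [← hn, ← Subgroup.card_top (G := G)]
      exact card_lt_of_lt' (lt_top_iff_ne_top.mpr hNtop)
    have hminN : ∀ q : ℕ, q.Prime → q ∣ Nat.card N → p ≤ q := fun q hq hqd =>
      hmin q hq (hqd.trans (Subgroup.card_subgroup_dvd_card N))
    have hNnpc : Cfsg.HasNormalPComplement p N :=
      ih (Nat.card N) hNcard N rfl p hminN (P.subtype hPN) d hd
        (by rw [card_sylow_subtype]; exact hlt)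
        (by
          intro E' hE' hc
          rcases hc with hc | ⟨h2, -⟩
          · exact scl_sylow_subtype N P hPN hSC' E' hE' hc
          · exfalso
            obtain ⟨rfl, rfl⟩ := hpd2 d h2
            omega)
    exact Cfsg.Agent.Lib.Helper51.p'_centralizes (N ⊓ Subgroup.normalizer (T : Set G)) T
      (Cfsg.Agent.Lib.Helper51.hnpc_of_le inf_le_left hNnpc)
      (le_inf (hT.trans hPN) Subgroup.le_normalizer) (P.2.to_le hT) inf_le_right ⟨hhN, hhT⟩ hcop

end Cfsg.Agent.Lib.Helper72.HSub
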