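import Mathlib

set_option autoImplicit false

/-!
# Auxiliary lemmas for groups whose maximal subgroups are `p`-nilpotent or of prime index

* `exists_normal_complement_of_central`: a central normal Hall subgroup `N` of a normal subgroup
  `X` of `G` has a complement in `X` which is normal in `G`.
* `not_dvd_index_centralizer_of_card_eq_prime`: if `N` is normal of order `p` then `p` does not
  divide the index of `C_G(N)`.
-/

namespace Cfsg.Agent.Lib.Helper72

open Subgroup

variable {G : Type*} [Group G] [Finite G]

theorem card_subgroupOf_of_le {H K : Subgroup G} (h : H ≤ K) :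
    Nat.card (H.subgroupOf K) = Nat.card H :=
  Nat.card_congr (Subgroup.subgroupOfEquivOfLe h).toEquiv

theorem card_mul_relIndex_of_le {H K : Subgroup G} (h : H ≤ K) :
    Nat.card H * H.relIndex K = Nat.card K := by
  have := Subgroup.relIndex_mul_relIndex ⊥ H K bot_le h
  rwa [Subgroup.relIndex_bot_left, Subgroup.relIndex_bot_left] at this

/-- A central normal Hall subgroup `N` of a normal subgroup `X` of `G` has a complement in `X`
which is normal in `G`. -/
theorem exists_normal_complement_of_central (X N : Subgroup G) [hX : X.Normal] [hN : N.Normal]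
    (hNX : N ≤ X) (hXZ : X ≤ Subgroup.centralizer (N : Set G))
    (hcop : (Nat.card N).Coprime (N.relIndex X)) :
    ∃ Q : Subgroup G, Q.Normal ∧ Q ≤ X ∧ Nat.card Q = N.relIndex X := by
  have hN' : (N.subgroupOf X).Normal := inferInstance
  have hcardN' : Nat.card (N.subgroupOf X) = Nat.card N := card_subgroupOf_of_le hNX
  have hcop' : (Nat.card (N.subgroupOf X)).Coprime (N.subgroupOf X).index := by
    rw [hcardN']; exact hcop
  obtain ⟨H', hH'⟩ := Subgroup.exists_right_complement'_of_coprime hcop'
  have hm : Nat.card H' = N.relIndex X := by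
    have h1 := hH'.card_mul_card
    have h2 := Subgroup.card_mul_index (N.subgroupOf X)
    have hpos : 0 < Nat.card (N.subgroupOf X) := Nat.card_pos
    have : Nat.card (N.subgroupOf X) * Nat.card H' =
        Nat.card (N.subgroupOf X) * (N.subgroupOf X).index := by rw [h1, h2]
    exact Nat.eq_of_mul_eq_mul_left hpos this
  set m := N.relIndex X with hmdef
  have hchar : ∀ x : G, x ∈ H'.map X.subtype ↔ x ∈ X ∧ x ^ m = 1 := by
    intro x
    constructor
    · rintro ⟨h, hh, rfl⟩
      refine ⟨h.2, ?_⟩
      have h1 : (⟨h, hh⟩ : H') ^ Nat.card H' = 1 := pow_card_eq_one'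
      rw [hm] at h1
      have h2 := congrArg (fun z : H' => ((z : X) : G)) h1
      simpa using h2
    · rintro ⟨hx, hxm⟩
      obtain ⟨⟨n', h'⟩, hnh, -⟩ := (Subgroup.isComplement'_def.mp hH').existsUnique ⟨x, hx⟩
      have hnh' : ((n' : X) : G) * ((h' : X) : G) = x := by
        have := congrArg (fun z : X => (z : G)) hnh
        simpa using this
      have hnN : ((n' : X) : G) ∈ N := Subgroup.mem_subgroupOf.mp n'.2
      have hcomm : Commute ((n' : X) : G) ((h' : X) : G) := by
        have h1 : ((h' : X) : G) ∈ Subgroup.centralizer (N : Set G) := hXZ (h' : X).2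
        exact (Subgroup.mem_centralizer_iff.mp h1 _ hnN)
      have hh'm : ((h' : X) : G) ^ m = 1 := by
        have h1 : (h' : H') ^ Nat.card H' = 1 := pow_card_eq_one'
        rw [hm] at h1
        have h2 := congrArg (fun z : H' => ((z : X) : G)) h1
        simpa using h2
      have hn'm : ((n' : X) : G) ^ m = 1 := by
        have h1 := hcomm.mul_pow m
        rw [hnh', hxm, hh'm, mul_one] at h1
        exact h1.symm
      have hn'c : ((n' : X) : G) ^ Nat.card N = 1 := by
        have h1 : (⟨((n' : X) : G), hnN⟩ : N) ^ Nat.card N = 1 := pow_card_eq_one'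
        calc ((n' : X) : G) ^ Nat.card N
            = (((⟨((n' : X) : G), hnN⟩ : N) ^ Nat.card N : N) : G) := rfl
          _ = 1 := by rw [h1]; rfl
      have hn1 : ((n' : X) : G) = 1 := by
        have h1 : orderOf ((n' : X) : G) ∣ m := orderOf_dvd_of_pow_eq_one hn'm
        have h2 : orderOf ((n' : X) : G) ∣ Nat.card N := orderOf_dvd_of_pow_eq_one hn'c
        have h3 : orderOf ((n' : X) : G) = 1 := Nat.eq_one_of_dvd_coprimes hcop h2 h1
        exact orderOf_eq_one_iff.mp h3
      rw [hn1, one_mul] at hnh'
      refine ⟨(h' : X), h'.2, ?_⟩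
      exact hnh'
  refine ⟨H'.map X.subtype, ?_, ?_, ?_⟩
  · constructor
    intro x hx g
    rw [hchar] at hx ⊢
    refine ⟨hX.conj_mem x hx.1 g, ?_⟩
    rw [conj_pow, hx.2, mul_one, mul_inv_cancel]
  · exact Subgroup.map_subtype_le _
  · rw [Subgroup.card_map_of_injective X.subtype_injective, hm]

/-- If `N` is a normal subgroup of prime order `p`, then `p` does not divide `|G : C_G(N)|`. -/
theorem not_dvd_index_centralizer_of_card_eq_prime {p : ℕ} [hp : Fact p.Prime] (N : Subgroup G)
    [hN : N.Normal] (hcard : Nat.card N = p) :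
    ¬ p ∣ (Subgroup.centralizer (N : Set G)).index := by
  have hker : (MulAut.conjNormal : G →* MulAut N).ker = Subgroup.centralizer (N : Set G) := by
    ext g
    rw [MonoidHom.mem_ker, Subgroup.mem_centralizer_iff]
    constructor
    · intro h x hx
      have h1 := congrArg (fun φ : MulAut N => ((φ ⟨x, hx⟩ : N) : G)) h
      simp only [MulAut.conjNormal_apply, MulAut.one_apply] at h1
      calc x * g = (g * x * g⁻¹) * g := by rw [h1]
        _ = g * x := by group
    · intro h
      apply MulEquiv.ext
      intro x
      apply Subtype.ext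
      rw [MulAut.conjNormal_apply, MulAut.one_apply]
      have := h x x.2
      rw [← this]; group
  have : IsCyclic N := isCyclic_of_prime_card hcard
  have h1 : (Subgroup.centralizer (N : Set G)).index ∣ p - 1 := by
    rw [← hker, Subgroup.index_ker]
    have h2 := Subgroup.card_subgroup_dvd_card (MulAut.conjNormal : G →* MulAut N).range
    rw [IsCyclic.card_mulAut, hcard, Nat.totient_prime hp.out] at h2
    exact h2
  intro h2
  have h3 : p ∣ p - 1 := h2.trans h1
  have hp1 : 0 < p - 1 := Nat.sub_pos_of_lt hp.out.one_lt
  have := Nat.le_of_dvd hp1 h3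
  omega

theorem le_centralizer_of_card_eq_prime {p : ℕ} [hp : Fact p.Prime] (N : Subgroup G)
    (hcard : Nat.card N = p) : N ≤ Subgroup.centralizer (N : Set G) := by
  have : IsCyclic N := isCyclic_of_prime_card hcard
  intro x hx
  rw [Subgroup.mem_centralizer_iff]
  intro y hy
  have hc : IsMulCommutative N := IsCyclic.isMulCommutative
  have h1 := hc.is_comm.comm ⟨y, hy⟩ ⟨x, hx⟩
  exact congrArg (fun z : N => (z : G)) h1

end Cfsg.Agent.Lib.Helper72
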