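import Mathlib
import Cfsg.Agent.Lib.Helper72.MaxPNilpA

set_option autoImplicit false

/-!
# Groups whose maximal subgroups are `p`-nilpotent or of prime index: basic reductions
-/

namespace Cfsg.Agent.Lib.Helper72

open Subgroup

universe u

/-- every maximal subgroup has a normal `p`-complement or has prime index -/
def MaxHyp (p : ℕ) (G : Type*) [Group G] : Prop :=
  ∀ M : Subgroup G, IsCoatom M →
    (∃ K : Subgroup ↥M, K.Normal ∧ ¬ p ∣ Nat.card K ∧ ∃ k : ℕ, K.index = p ^ k) ∨ (M.index).Prime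

/-- a normal series `1 ≤ A ≤ B ≤ C ≤ G` with factors `p'`, `p`, `p'`, `p` -/
def MaxConcl (p : ℕ) (G : Type*) [Group G] : Prop :=
  ∃ A B C : Subgroup G, A.Normal ∧ B.Normal ∧ C.Normal ∧ A ≤ B ∧ B ≤ C ∧ ¬ p ∣ Nat.card A ∧
    (∃ k : ℕ, A.relIndex B = p ^ k) ∧ ¬ p ∣ B.relIndex C ∧ ∃ k : ℕ, C.index = p ^ k

/-- the series of `G ⧸ N` pulled back to `G` -/
def MaxLifted (p : ℕ) {G : Type*} [Group G] (N : Subgroup G) : Prop :=
  ∃ A B C : Subgroup G, A.Normal ∧ B.Normal ∧ C.Normal ∧ N ≤ A ∧ A ≤ B ∧ B ≤ C ∧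
    ¬ p ∣ N.relIndex A ∧ (∃ k : ℕ, A.relIndex B = p ^ k) ∧ ¬ p ∣ B.relIndex C ∧
    ∃ k : ℕ, C.index = p ^ k

variable {G : Type u} [Group G]

theorem isCoatom_comap_mk' (N : Subgroup G) [N.Normal] (M' : Subgroup (G ⧸ N))
    (hM : IsCoatom M') : IsCoatom (M'.comap (QuotientGroup.mk' N)) := by
  have hsurj := QuotientGroup.mk'_surjective N
  constructor
  · intro h
    apply hM.1
    rw [← Subgroup.map_comap_eq_self_of_surjective hsurj M', h, ← MonoidHom.range_eq_map,
      MonoidHom.range_eq_top.mpr hsurj]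
  · intro L hL
    have hNL : N ≤ L := by
      refine le_trans ?_ hL.le
      intro x hx
      rw [Subgroup.mem_comap]
      have : (QuotientGroup.mk' N) x = 1 := (QuotientGroup.eq_one_iff x).mpr hx
      rw [this]; exact one_mem _
    have hLc : (L.map (QuotientGroup.mk' N)).comap (QuotientGroup.mk' N) = L := by
      rw [Subgroup.comap_map_eq, QuotientGroup.ker_mk']
      exact sup_eq_left.mpr hNL
    have hlt : M' < L.map (QuotientGroup.mk' N) := by
      refine lt_of_le_of_ne ?_ ?_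
      · rw [← Subgroup.map_comap_eq_self_of_surjective hsurj M']
        exact Subgroup.map_mono hL.le
      · intro h
        rw [← h] at hLc
        exact hL.ne hLc
    have := hM.2 _ hlt
    rw [← hLc, this, Subgroup.comap_top]

theorem maxHyp_quotient {p : ℕ} [hp : Fact p.Prime] (N : Subgroup G) [N.Normal]
    (h : MaxHyp p G) : MaxHyp p (G ⧸ N) := by
  intro M' hM'
  have hsurj := QuotientGroup.mk'_surjective N
  set M := M'.comap (QuotientGroup.mk' N) with hMdef
  have hM : IsCoatom M := isCoatom_comap_mk' N M' hM'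
  rcases h M hM with ⟨K, hKn, hKc, k, hKi⟩ | hprime
  · left
    set f' := (QuotientGroup.mk' N).subgroupComap M' with hf'
    have hf's : Function.Surjective f' :=
      MonoidHom.subgroupComap_surjective_of_surjective _ _ hsurj
    refine ⟨K.map f', hKn.map f' hf's, ?_, ?_⟩
    · intro hdvd
      apply hKc
      exact hdvd.trans (Subgroup.card_map_dvd K f')
    · have h1 : (K.map f').index ∣ K.index := Subgroup.index_map_dvd K hf's
      rw [hKi] at h1
      obtain ⟨j, -, hj⟩ := (Nat.dvd_prime_pow hp.out).mp h1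
      exact ⟨j, hj⟩
  · right
    rw [hMdef, Subgroup.index_comap_of_surjective _ hsurj] at hprime
    exact hprime

theorem maxLifted_of_quotient {p : ℕ} (N : Subgroup G) [N.Normal]
    (h : MaxConcl p (G ⧸ N)) : MaxLifted p N := by
  obtain ⟨A', B', C', hA'n, hB'n, hC'n, hAB, hBC, hA'c, ⟨k, hk⟩, hBCi, ⟨k', hk'⟩⟩ := h
  have hsurj := QuotientGroup.mk'_surjective N
  set f := QuotientGroup.mk' N with hf
  have hrel : ∀ X Y : Subgroup (G ⧸ N), (X.comap f).relIndex (Y.comap f) = X.relIndex Y := by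
    intro X Y
    rw [Subgroup.relIndex_comap, Subgroup.map_comap_eq_self_of_surjective hsurj]
  have hN : (⊥ : Subgroup (G ⧸ N)).comap f = N := by
    rw [MonoidHom.comap_bot, hf, QuotientGroup.ker_mk']
  refine ⟨A'.comap f, B'.comap f, C'.comap f, hA'n.comap f, hB'n.comap f, hC'n.comap f, ?_,
    Subgroup.comap_mono hAB, Subgroup.comap_mono hBC, ?_, ⟨k, ?_⟩, ?_, ⟨k', ?_⟩⟩
  · have h1 : (⊥ : Subgroup (G ⧸ N)).comap f ≤ A'.comap f := Subgroup.comap_mono bot_le
    rwa [hN] at h1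
  · have h1 := hrel ⊥ A'
    rw [hN, Subgroup.relIndex_bot_left] at h1
    rw [h1]; exact hA'c
  · rw [hrel]; exact hk
  · rw [hrel]; exact hBCi
  · rw [Subgroup.index_comap_of_surjective _ hsurj]; exact hk'

variable [Finite G]

theorem maxConcl_of_lifted_of_coprime {p : ℕ} [hp : Fact p.Prime] (N : Subgroup G)
    (hN : (Nat.card N).Coprime p) (h : MaxLifted p N) : MaxConcl p G := by
  obtain ⟨A, B, C, hAn, hBn, hCn, hNA, hAB, hBC, hNAi, hk, hBCi, hk'⟩ := h
  refine ⟨A, B, C, hAn, hBn, hCn, hAB, hBC, ?_, hk, hBCi, hk'⟩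
  rw [← card_mul_relIndex_of_le hNA]
  intro hdvd
  rcases (Nat.Prime.dvd_mul hp.out).mp hdvd with h1 | h1
  · have := Nat.Coprime.eq_one_of_dvd hN.symm h1
    exact hp.out.one_lt.ne' this
  · exact hNAi h1

theorem relIndex_dvd_of_le_right_of_normal' {A K B : Subgroup G} [A.Normal] (hKB : K ≤ B) :
    A.relIndex K ∣ A.relIndex B := by
  have h1 : A.relIndex K = (A ⊓ K).relIndex K := (Subgroup.inf_relIndex_right A K).symm
  have h2 : A.relIndex B = (A ⊓ B).relIndex B := (Subgroup.inf_relIndex_right A B).symm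
  -- `|K : A ∩ K| = |KA : A|` divides `|B A : A| = |B : A ∩ B|`
  have h3 : A.relIndex (K ⊔ A) = A.relIndex K := Subgroup.relIndex_sup_right K A
  have h4 : A.relIndex (B ⊔ A) = A.relIndex B := Subgroup.relIndex_sup_right B A
  rw [← h3, ← h4]
  have hle : K ⊔ A ≤ B ⊔ A := sup_le_sup_right hKB A
  exact Dvd.intro _ (Subgroup.relIndex_mul_relIndex A (K ⊔ A) (B ⊔ A) le_sup_right hle)

/-- the case of a normal subgroup of order `p` -/
theorem maxConcl_of_lifted_of_card_eq_prime {p : ℕ} [hp : Fact p.Prime] (N : Subgroup G)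
    [hNn : N.Normal] (hN : Nat.card N = p) (h : MaxLifted p N) : MaxConcl p G := by
  obtain ⟨A, B, C, hAn, hBn, hCn, hNA, hAB, hBC, hNAi, ⟨k, hk⟩, hBCi, hk'⟩ := h
  set Z := Subgroup.centralizer (N : Set G) with hZ
  have hZn : Z.Normal := Subgroup.normal_centralizer
  have hNZ : N ≤ Z := le_centralizer_of_card_eq_prime N hN
  have hZi : ¬ p ∣ Z.index := not_dvd_index_centralizer_of_card_eq_prime N hN
  have hXn : (A ⊓ Z).Normal := inferInstance
  have hNX : N ≤ A ⊓ Z := le_inf hNA hNZ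
  have hXA : (A ⊓ Z) ≤ A := inf_le_left
  have hrel : N.relIndex (A ⊓ Z) * (A ⊓ Z).relIndex A = N.relIndex A :=
    Subgroup.relIndex_mul_relIndex N (A ⊓ Z) A hNX hXA
  have hNXi : ¬ p ∣ N.relIndex (A ⊓ Z) := by
    intro hd
    apply hNAi
    rw [← hrel]; exact hd.mul_right _
  have hcop : (Nat.card N).Coprime (N.relIndex (A ⊓ Z)) := by
    rw [hN]; exact (Nat.Prime.coprime_iff_not_dvd hp.out).mpr hNXi
  obtain ⟨Q, hQn, hQX, hQc⟩ :=
    exists_normal_complement_of_central (A ⊓ Z) N hNX inf_le_right hcop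
  have hSn : (B ⊓ Z).Normal := inferInstance
  have hXS : A ⊓ Z ≤ B ⊓ Z := inf_le_inf_right Z hAB
  have hQS : Q ≤ B ⊓ Z := hQX.trans hXS
  refine ⟨Q, B ⊓ Z, C, hQn, hSn, hCn, hQS, inf_le_left.trans hBC, ?_, ?_, ?_, hk'⟩
  · rw [hQc]; exact hNXi
  · -- `|S : Q|` is a power of `p`
    have h1 : (A ⊓ Z).relIndex (B ⊓ Z) ∣ p ^ k := by
      have h2 : A ⊓ Z = A ⊓ (B ⊓ Z) := by
        rw [← inf_assoc, inf_eq_left.mpr hAB]
      rw [h2, Subgroup.inf_relIndex_right, ← hk]
      exact relIndex_dvd_of_le_right_of_normal' inf_le_left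
    obtain ⟨j, -, hj⟩ := (Nat.dvd_prime_pow hp.out).mp h1
    refine ⟨j + 1, ?_⟩
    have h3 := card_mul_relIndex_of_le hQS
    have h4 := card_mul_relIndex_of_le hXS
    have h5 := card_mul_relIndex_of_le hNX
    rw [hj] at h4
    rw [hN, ← hQc] at h5
    have hpos : 0 < Nat.card Q := Nat.card_pos
    have h6 : Nat.card Q * Q.relIndex (B ⊓ Z) = Nat.card Q * p ^ (j + 1) := by
      rw [h3, ← h4, ← h5, pow_succ]; ring
    exact Nat.eq_of_mul_eq_mul_left hpos h6
  · have h1 : (B ⊓ Z).relIndex B * B.relIndex C = (B ⊓ Z).relIndex C :=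
      Subgroup.relIndex_mul_relIndex (B ⊓ Z) B C inf_le_left hBC
    rw [← h1, Subgroup.inf_relIndex_left]
    intro hd
    rcases (Nat.Prime.dvd_mul hp.out).mp hd with h2 | h2
    · exact hZi (h2.trans (Subgroup.relIndex_dvd_index_of_normal Z B))
    · exact hBCi h2

end Cfsg.Agent.Lib.Helper72
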