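import Mathlib
import Cfsg.Agent.Lib.Helper72.MaxPNilpB
import Cfsg.Agent.Lib.Helper72.SylowStep
import Cfsg.Agent.Lib.Helper24.SZCompl

set_option autoImplicit false

/-!
# Groups whose maximal subgroups are `p`-nilpotent or of prime index: the Frattini step
-/

namespace Cfsg.Agent.Lib.Helper72

open Subgroup

universe u

variable {G : Type u} [Group G] [Finite G]

theorem map_conj_eq_of_forall_mem (S : Subgroup G) (t : G) (h : ∀ x ∈ S, t * x * t⁻¹ ∈ S) :
    S.map (MulAut.conj t).toMonoidHom = S := by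
  apply Subgroup.eq_of_le_of_card_ge
  · rintro y ⟨x, hx, rfl⟩
    exact h x hx
  · rw [Subgroup.card_map_of_injective (MulAut.conj t).injective]

theorem mem_normalizer_of_map_conj_eq (S : Subgroup G) (t : G)
    (h : S.map (MulAut.conj t).toMonoidHom = S) : t ∈ Subgroup.normalizer (S : Set G) := by
  rw [Subgroup.mem_normalizer_iff]
  intro x
  constructor
  · intro hx
    rw [← h]
    exact ⟨x, hx, rfl⟩
  · intro hx
    rw [← h] at hx
    obtain ⟨y, hy, hyx⟩ := hx
    have : y = x := by
      have h1 : t * y * t⁻¹ = t * x * t⁻¹ := hyx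
      have h2 := congrArg (fun z => t⁻¹ * z * t) h1
      simpa [mul_assoc] using h2
    rw [← this]; exact hy

/-- Frattini argument for a Schur–Zassenhaus complement of a normal `p`-subgroup `N` in a normal
subgroup `A`: there is a complement `A₀` of `N` in `A` with `G = N * N_G(A₀)`. -/
theorem exists_complement_frattini {p : ℕ} [hp : Fact p.Prime] (N A : Subgroup G) [hNn : N.Normal]
    [hAn : A.Normal] (hNp : IsPGroup p N) (hNA : N ≤ A) (hNAi : ¬ p ∣ N.relIndex A) :
    ∃ A₀ : Subgroup G, A₀ ≤ A ∧ Nat.card A₀ = N.relIndex A ∧ N ⊓ A₀ = ⊥ ∧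
      N ⊔ Subgroup.normalizer (A₀ : Set G) = ⊤ := by
  have hN' : (N.subgroupOf A).Normal := inferInstance
  have hcardN' : Nat.card (N.subgroupOf A) = Nat.card N := card_subgroupOf_of_le hNA
  obtain ⟨a, ha⟩ := IsPGroup.iff_card.mp hNp
  have hcop : (Nat.card N).Coprime (N.relIndex A) := by
    rw [ha]
    exact Nat.Coprime.pow_left _ ((Nat.Prime.coprime_iff_not_dvd hp.out).mpr hNAi)
  have hcop' : (Nat.card (N.subgroupOf A)).Coprime (N.subgroupOf A).index := by
    rw [hcardN']; exact hcop
  obtain ⟨H', hH'⟩ := Subgroup.exists_right_complement'_of_coprime hcop'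
  have hm : Nat.card H' = N.relIndex A := by
    have h1 := hH'.card_mul_card
    have h2 := Subgroup.card_mul_index (N.subgroupOf A)
    have hpos : 0 < Nat.card (N.subgroupOf A) := Nat.card_pos
    have : Nat.card (N.subgroupOf A) * Nat.card H' =
        Nat.card (N.subgroupOf A) * (N.subgroupOf A).index := by rw [h1, h2]
    exact Nat.eq_of_mul_eq_mul_left hpos this
  set A₀ := H'.map A.subtype with hA₀
  have hA₀A : A₀ ≤ A := Subgroup.map_subtype_le _
  have hA₀c : Nat.card A₀ = N.relIndex A := by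
    rw [hA₀, Subgroup.card_map_of_injective A.subtype_injective, hm]
  have hdisj : N ⊓ A₀ = ⊥ := by
    rw [eq_bot_iff]
    rintro x ⟨hxN, h, hh, rfl⟩
    have h1 : h ∈ N.subgroupOf A ⊓ H' := ⟨Subgroup.mem_subgroupOf.mpr hxN, hh⟩
    rw [hH'.disjoint.eq_bot] at h1
    rw [Subgroup.mem_bot] at h1 ⊢
    rw [h1]; rfl
  refine ⟨A₀, hA₀A, hA₀c, hdisj, ?_⟩
  have hsolv : Group.IsSolvable (N.subgroupOf A) := by
    have h1 : IsPGroup p (N.subgroupOf A) := hNp.comap_subtype
    have h2 : Group.IsNilpotent (N.subgroupOf A) := h1.isNilpotent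
    infer_instance
  rw [eq_top_iff]
  intro g _
  -- the conjugate complement
  set A₀g := A₀.map (MulAut.conj g).toMonoidHom with hA₀g
  have hA₀gA : A₀g ≤ A := by
    rintro y ⟨x, hx, rfl⟩
    exact hAn.conj_mem x (hA₀A hx) g
  have hA₀gc : Nat.card A₀g = N.relIndex A := by
    rw [hA₀g, Subgroup.card_map_of_injective (MulAut.conj g).injective, hA₀c]
  have hcompl : (N.subgroupOf A).IsComplement' (A₀g.subgroupOf A) := by
    apply Subgroup.isComplement'_of_card_mul_and_disjoint
    · rw [hcardN', card_subgroupOf_of_le hA₀gA, hA₀gc]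
      exact card_mul_relIndex_of_le hNA
    · rw [Subgroup.disjoint_def]
      intro x hxN hxA
      rw [Subgroup.mem_subgroupOf] at hxN hxA
      obtain ⟨y, hy, hyx⟩ := hxA
      have hyx' : g * y * g⁻¹ = (x : G) := hyx
      have hyN : y ∈ N := by
        have h1 : y = g⁻¹ * (x : G) * g⁻¹⁻¹ := by rw [← hyx']; group
        rw [h1]; exact hNn.conj_mem _ hxN g⁻¹
      have hy1 : y ∈ N ⊓ A₀ := ⟨hyN, hy⟩
      rw [hdisj, Subgroup.mem_bot] at hy1
      apply Subtype.ext
      rw [← hyx', hy1]; simp
  obtain ⟨x, hxN, hx⟩ := Cfsg.Agent.Lib.Helper24.sz_conj (N.subgroupOf A) hcop' (Or.inl hsolv)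
    H' (A₀g.subgroupOf A) hH' hcompl
  have hnN : (x : G) ∈ N := Subgroup.mem_subgroupOf.mp hxN
  -- `A₀` conjugated by `x` equals `A₀` conjugated by `g`
  have heq : A₀.map (MulAut.conj (x : G)).toMonoidHom = A₀g := by
    apply Subgroup.eq_of_le_of_card_ge
    · rintro y ⟨z, ⟨h, hh, rfl⟩, rfl⟩
      have h1 : (MulAut.conj x).toMonoidHom h ∈ H'.map (MulAut.conj x).toMonoidHom :=
        ⟨h, hh, rfl⟩
      rw [hx, Subgroup.mem_subgroupOf] at h1
      exact h1
    · rw [hA₀gc, Subgroup.card_map_of_injective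
        (f := (MulAut.conj (x : G)).toMonoidHom) (MulAut.conj (x : G)).injective, hA₀c]
  have hnorm : (x : G)⁻¹ * g ∈ Subgroup.normalizer (A₀ : Set G) := by
    apply mem_normalizer_of_map_conj_eq
    have h1 : (MulAut.conj ((x : G)⁻¹ * g)).toMonoidHom =
        (MulAut.conj (x : G)⁻¹).toMonoidHom.comp (MulAut.conj g).toMonoidHom := by
      ext y; simp [mul_assoc]
    rw [h1, ← Subgroup.map_map, ← hA₀g, ← heq, Subgroup.map_map]
    have h2 : (MulAut.conj (x : G)⁻¹).toMonoidHom.comp (MulAut.conj (x : G)).toMonoidHom =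
        MonoidHom.id G := by
      ext y; simp [mul_assoc]
    rw [h2, Subgroup.map_id]
  have : g = (x : G) * ((x : G)⁻¹ * g) := by group
  rw [this]
  exact Subgroup.mul_mem_sup hnN hnorm

/-- the case of a minimal normal abelian `p`-subgroup which is not of order `p` -/
theorem maxConcl_of_lifted_of_minimal {p : ℕ} [hp : Fact p.Prime] (N : Subgroup G)
    [hNn : N.Normal] (hNp : IsPGroup p N) (hNc : ∀ a ∈ N, ∀ b ∈ N, a * b = b * a)
    (hmin : ∀ K : Subgroup G, K.Normal → K ≤ N → K = ⊥ ∨ K = N) (hcard : Nat.card N ≠ p)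
    (hyp : MaxHyp p G) (h : MaxLifted p N) : MaxConcl p G := by
  obtain ⟨A, B, C, hAn, hBn, hCn, hNA, hAB, hBC, hNAi, ⟨k, hk⟩, hBCi, hk'⟩ := h
  obtain ⟨a, ha⟩ := IsPGroup.iff_card.mp hNp
  obtain ⟨A₀, hA₀A, hA₀c, hdisj, hsup⟩ := exists_complement_frattini N A hNp hNA hNAi
  by_cases htop : Subgroup.normalizer (A₀ : Set G) = ⊤
  · -- `A₀` is normal
    have hA₀n : A₀.Normal := Subgroup.normalizer_eq_top_iff.mp htop
    refine ⟨A₀, B, C, hA₀n, hBn, hCn, hA₀A.trans hAB, hBC, ?_, ⟨a + k, ?_⟩, hBCi, hk'⟩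
    · rw [hA₀c]; exact hNAi
    · have h1 := Subgroup.relIndex_mul_relIndex A₀ A B hA₀A hAB
      have h2 := card_mul_relIndex_of_le hA₀A
      have h3 := card_mul_relIndex_of_le hNA
      have h4 : A₀.relIndex A = p ^ a := by
        have hpos : 0 < Nat.card A₀ := Nat.card_pos
        have : Nat.card A₀ * A₀.relIndex A = Nat.card A₀ * p ^ a := by
          rw [h2, ← h3, ha, hA₀c]; ring
        exact Nat.eq_of_mul_eq_mul_left hpos this
      rw [← h1, h4, hk, pow_add]
  · obtain ⟨M, hMco, hle⟩ := (eq_top_or_exists_le_coatom _).resolve_left htop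
    have hNM : N ⊔ M = ⊤ := by
      rw [eq_top_iff, ← hsup]
      exact sup_le_sup_left hle N
    -- `N ⊓ M` is normal in `G`
    have hinfn : (N ⊓ M).Normal := by
      rw [← Subgroup.normalizer_eq_top_iff, eq_top_iff, ← hNM]
      apply sup_le
      · intro n hn
        rw [Subgroup.mem_normalizer_iff]
        intro x
        constructor
        · intro hx
          obtain ⟨hxN, hxM⟩ := Subgroup.mem_inf.mp hx
          have : n * x * n⁻¹ = x := by rw [hNc n hn x hxN]; group
          rw [this]; exact hx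
        · intro hx
          obtain ⟨hxN, hxM⟩ := Subgroup.mem_inf.mp hx
          have hxN' : x ∈ N := by
            have h1 : x = n⁻¹ * (n * x * n⁻¹) * n⁻¹⁻¹ := by group
            rw [h1]; exact hNn.conj_mem _ hxN n⁻¹
          have : n * x * n⁻¹ = x := by rw [hNc n hn x hxN']; group
          rw [this] at hxM
          exact Subgroup.mem_inf.mpr ⟨hxN', hxM⟩
      · intro m hm
        rw [Subgroup.mem_normalizer_iff]
        intro x
        constructor
        · intro hx
          obtain ⟨hxN, hxM⟩ := Subgroup.mem_inf.mp hx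
          exact Subgroup.mem_inf.mpr
            ⟨hNn.conj_mem x hxN m, M.mul_mem (M.mul_mem hm hxM) (M.inv_mem hm)⟩
        · intro hx
          obtain ⟨hxN, hxM⟩ := Subgroup.mem_inf.mp hx
          have h1 : x = m⁻¹ * (m * x * m⁻¹) * m⁻¹⁻¹ := by group
          refine Subgroup.mem_inf.mpr ⟨?_, ?_⟩
          · rw [h1]; exact hNn.conj_mem _ hxN m⁻¹
          · rw [h1]
            exact M.mul_mem (M.mul_mem (M.inv_mem hm) hxM) (M.inv_mem (M.inv_mem hm))
    have hinf : N ⊓ M = ⊥ := by
      rcases hmin (N ⊓ M) hinfn inf_le_left with h1 | h1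
      · exact h1
      · exfalso
        apply hMco.1
        rw [← hNM]
        exact (sup_eq_right.mpr (inf_eq_left.mp h1)).symm
    have hMi : M.index = Nat.card N := by
      have h1 := relIndex_sup_mul_card_inf M N
      rw [sup_comm, hNM, inf_comm, hinf, Subgroup.card_bot, mul_one,
        Subgroup.relIndex_top_right] at h1
      exact h1
    rcases hyp M hMco with ⟨K, hKn, hKc, k₂, hKi⟩ | hprime
    · -- `M` has a normal `p`-complement `K`
      set K' := K.map M.subtype with hK'
      have hK'M : K' ≤ M := Subgroup.map_subtype_le _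
      have hK'c : Nat.card K' = Nat.card K :=
        Subgroup.card_map_of_injective M.subtype_injective
      have hC'n : (N ⊔ K').Normal := by
        rw [← Subgroup.normalizer_eq_top_iff, eq_top_iff, ← hNM]
        apply sup_le
        · exact le_sup_left.trans Subgroup.le_normalizer
        · intro m hm
          apply mem_normalizer_of_map_conj_eq
          rw [Subgroup.map_sup]
          congr 1
          · exact map_conj_eq_of_forall_mem N m (fun x hx => hNn.conj_mem x hx m)
          · apply map_conj_eq_of_forall_mem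
            rintro y ⟨z, hz, rfl⟩
            refine ⟨(⟨m, hm⟩ : M) * z * (⟨m, hm⟩ : M)⁻¹, hKn.conj_mem z hz ⟨m, hm⟩, ?_⟩
            simp
      have hNK' : N ⊓ K' = ⊥ := by
        rw [eq_bot_iff, ← hinf]
        exact inf_le_inf_left N hK'M
      have hrel : N.relIndex (N ⊔ K') = Nat.card K := by
        rw [Subgroup.relIndex_sup_left, ← Subgroup.inf_relIndex_right, hNK',
          Subgroup.relIndex_bot_left, hK'c]
      refine ⟨⊥, N, N ⊔ K', Subgroup.normal_bot, hNn, hC'n, bot_le, le_sup_left, ?_,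
        ⟨a, ?_⟩, ?_, ⟨k₂, ?_⟩⟩
      · rw [Subgroup.card_bot]
        intro h1
        exact hp.out.one_lt.ne' (Nat.dvd_one.mp h1)
      · rw [Subgroup.relIndex_bot_left, ha]
      · rw [hrel]; exact hKc
      · have h1 := card_mul_relIndex_of_le (le_sup_left : N ≤ N ⊔ K')
        rw [hrel] at h1
        have h2 := Subgroup.card_mul_index (N ⊔ K')
        have h3 := Subgroup.card_mul_index M
        have h4 := Subgroup.card_mul_index K
        rw [hKi] at h4
        rw [hMi, ← h4] at h3
        have hpos : 0 < Nat.card (N ⊔ K' : Subgroup G) := Nat.card_pos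
        have h5 : Nat.card (N ⊔ K' : Subgroup G) * (N ⊔ K').index =
            Nat.card (N ⊔ K' : Subgroup G) * p ^ k₂ := by
          rw [h2, ← h3, ← h1]; ring
        exact Nat.eq_of_mul_eq_mul_left hpos h5
    · -- `M` has prime index: impossible as `|N| ≠ p`
      exfalso
      rw [hMi, ha] at hprime
      have ha0 : a ≠ 0 := by
        intro h0
        rw [h0, pow_zero] at hprime
        exact Nat.not_prime_one hprime
      rcases (Nat.dvd_prime hprime).mp (dvd_pow_self p ha0) with h1 | h1
      · exact hp.out.one_lt.ne' h1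
      · apply hcard
        rw [ha, ← h1]

end Cfsg.Agent.Lib.Helper72
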