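import Mathlib
import Cfsg.Prelude.Def_Local
import Cfsg.Agent.Lib.Helper72.MaxPNilpC
import Cfsg.Agent.Lib.Helper1.Basic
import Cfsg.Agent.Lib.Helper76.PSolvable

set_option autoImplicit false

/-!
# Groups whose maximal subgroups are `p`-nilpotent or of prime index

`maxConcl_of_maxHyp`: a finite `p`-solvable group all of whose maximal subgroups either have a
normal `p`-complement or have prime index has a normal series `1 ≤ A ≤ B ≤ C ≤ G` with
`A` a `p'`-group, `B/A` a `p`-group, `C/B` a `p'`-group and `G/C` a `p`-group.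
-/

namespace Cfsg.Agent.Lib.Helper72

open Subgroup Cfsg

universe u

theorem card_quotient_lt {G : Type u} [Group G] [Finite G] (N : Subgroup G) [N.Normal]
    (hN : N ≠ ⊥) : Nat.card (G ⧸ N) < Nat.card G := by
  have h1 := Subgroup.card_eq_card_quotient_mul_card_subgroup N
  have h2 : 1 < Nat.card N := by
    rw [Subgroup.one_lt_card_iff_ne_bot]; exact hN
  have h3 : 0 < Nat.card (G ⧸ N) := Nat.card_pos
  rw [h1]
  nlinarith

theorem maxConcl_of_maxHyp (p : ℕ) [hp : Fact p.Prime] (G : Type u) [Group G] [Finite G] :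
    IsPSolvable p G → MaxHyp p G → MaxConcl p G := by
  apply Cfsg.Agent.Lib.Helper1.finite_group_induction
    (fun (G : Type u) [Group G] => IsPSolvable p G → MaxHyp p G → MaxConcl p G)
  intro G _ _ ih hsolv hyp
  rcases subsingleton_or_nontrivial G with hsub | hnt
  · -- trivial group
    refine ⟨⊥, ⊥, ⊥, Subgroup.normal_bot, Subgroup.normal_bot, Subgroup.normal_bot, le_rfl, le_rfl,
      ?_, ⟨0, ?_⟩, ?_, ⟨0, ?_⟩⟩
    · rw [Subgroup.card_bot]
      intro h1
      exact hp.out.one_lt.ne' (Nat.dvd_one.mp h1)
    · rw [Subgroup.relIndex_bot_left, Subgroup.card_bot, pow_zero]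
    · rw [Subgroup.relIndex_bot_left, Subgroup.card_bot]
      intro h1
      exact hp.out.one_lt.ne' (Nat.dvd_one.mp h1)
    · rw [Subgroup.index_bot, pow_zero]
      exact Nat.card_of_subsingleton 1
  · obtain ⟨N₀, hN₀n, hN₀ne, hN₀⟩ := Cfsg.Agent.Lib.Helper76.exists_normal_of_isPSolvable hsolv
    rcases hN₀ with hN₀p | hN₀c
    · -- a normal `p`-subgroup: pass to a minimal normal subgroup inside it
      let S : Set (Subgroup G) := {K | K.Normal ∧ K ≠ ⊥ ∧ K ≤ N₀}
      have hS : S.Nonempty := ⟨N₀, hN₀n, hN₀ne, le_rfl⟩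
      obtain ⟨N, hNS, hNmin⟩ := (Set.toFinite S).exists_minimal hS
      obtain ⟨hNn, hNne, hNN₀⟩ := hNS
      have hmin : ∀ K : Subgroup G, K.Normal → K ≤ N → K = ⊥ ∨ K = N := by
        intro K hKn hKN
        by_cases hK : K = ⊥
        · exact Or.inl hK
        · right
          exact le_antisymm hKN (hNmin ⟨hKn, hK, hKN.trans hNN₀⟩ hKN)
      have hNp : IsPGroup p N := hN₀p.to_le hNN₀
      -- `N` is abelian
      have hNc : ∀ a ∈ N, ∀ b ∈ N, a * b = b * a := by
        haveI : Nontrivial N := (Subgroup.nontrivial_iff_ne_bot N).mpr hNne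
        have hcen : Nontrivial (Subgroup.center N) := hNp.center_nontrivial
        have hZn : ((Subgroup.center N).map N.subtype).Normal :=
          ConjAct.normal_of_characteristic_of_normal
        have hZle : (Subgroup.center N).map N.subtype ≤ N := Subgroup.map_subtype_le _
        have hZne : (Subgroup.center N).map N.subtype ≠ ⊥ := by
          intro h0
          rw [Subgroup.map_eq_bot_iff_of_injective _ N.subtype_injective] at h0
          rw [Subgroup.nontrivial_iff_ne_bot] at hcen
          exact hcen h0
        have hZeq := (hmin _ hZn hZle).resolve_left hZne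
        intro a ha b hb
        have ha' : a ∈ (Subgroup.center N).map N.subtype := by rw [hZeq]; exact ha
        obtain ⟨z, hz, rfl⟩ := ha'
        have := (Subgroup.mem_center_iff.mp hz) ⟨b, hb⟩
        have h2 := congrArg (fun w : N => (w : G)) this
        exact h2.symm
      have hlift : MaxLifted p N := by
        apply maxLifted_of_quotient
        exact ih (G ⧸ N) (card_quotient_lt N hNne)
          (Cfsg.Agent.Lib.Helper76.isPSolvable_quotient N hsolv) (maxHyp_quotient N hyp)
      by_cases hcard : Nat.card N = p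
      · exact maxConcl_of_lifted_of_card_eq_prime N hcard hlift
      · exact maxConcl_of_lifted_of_minimal N hNp hNc hmin hcard hyp hlift
    · -- a normal `p'`-subgroup
      have hlift : MaxLifted p N₀ := by
        apply maxLifted_of_quotient
        exact ih (G ⧸ N₀) (card_quotient_lt N₀ hN₀ne)
          (Cfsg.Agent.Lib.Helper76.isPSolvable_quotient N₀ hsolv) (maxHyp_quotient N₀ hyp)
      exact maxConcl_of_lifted_of_coprime N₀ hN₀c hlift

end Cfsg.Agent.Lib.Helper72
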