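import Mathlib
import Cfsg.Prelude.Def_Classical
import Cfsg.Agent.S0293
import Cfsg.Agent.Lib.Helper89.FieldTransfer
import Cfsg.Agent.Lib.Helper89.ClassicalTransfer

/-!
# A concrete model of `PΩ⁺₈(2)`: the group `Ω(ZMod 2, Σ xᵢyᵢ)` of `8 × 8` matrices over `ZMod 2`

Base file for the Schur multiplier pipeline (S2098): the concrete group `G0`, its order, the
isomorphism with `POmega F (quadFormPlus 4 F)` for every field `F` with two elements, and a
constructor `mkG0` turning an explicit matrix of odd order preserving the form into an element of `G0`.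
-/

set_option autoImplicit false

namespace Cfsg.Agent.Lib.Helper72.O8

open Cfsg Matrix Cfsg.Agent.Lib.Helper37 Cfsg.Agent.Lib.Helper8 Cfsg.Agent.Lib.Helper43

/-- coordinates -/
abbrev I8 : Type := Fin 4 ⊕ Fin 4

/-- the natural module -/
abbrev V : Type := I8 → ZMod 2

/-- the ambient matrices -/
abbrev Mat : Type := Matrix I8 I8 (ZMod 2)

/-- the quadratic form `Σ xᵢ yᵢ` -/
abbrev Q8 : V → ZMod 2 := Cfsg.quadFormPlus 4 (ZMod 2)

/-- the orthogonal group `O⁺₈(2)` -/
abbrev O0 : Type := ↥(Cfsg.isometryGroup (ZMod 2) Q8)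

/-- the group `Ω⁺₈(2)` -/
abbrev G0 : Type := ↥(Cfsg.Omega (ZMod 2) Q8)

/-- the matrix of an element of `G0` -/
def toMat (g : G0) : Mat := (((g : O0) : GL I8 (ZMod 2)) : Mat)

theorem toMat_one : toMat 1 = 1 := rfl

theorem toMat_mul (g h : G0) : toMat (g * h) = toMat g * toMat h := rfl

theorem toMat_injective : Function.Injective toMat := fun _ _ h =>
  Subtype.ext (Subtype.ext (Units.ext h))

/-- the action on the natural module (by `mulVec`) -/
instance (priority := 10000) instSMulG0 : SMul G0 V := ⟨fun g v => toMat g *ᵥ v⟩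

/-- the action on the natural module (by `mulVec`) -/
instance (priority := 10000) instMulActionG0 : MulAction G0 V where
  one_smul v := by
    show toMat 1 *ᵥ v = v
    rw [toMat_one, Matrix.one_mulVec]
  mul_smul g h v := by
    show toMat (g * h) *ᵥ v = toMat g *ᵥ (toMat h *ᵥ v)
    rw [toMat_mul, Matrix.mulVec_mulVec]

theorem smul_def (g : G0) (v : V) : g • v = toMat g *ᵥ v := rfl

/-! ### index two, trivial centre, order -/

theorem two_eq_zero : (2 : ZMod 2) = 0 := by decide

theorem index_omega : (Cfsg.Omega (ZMod 2) Q8).index = 2 := by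
  have h := commutator_index_two_char2 two_eq_zero (plusForm 4 (ZMod 2)) (plusForm_nondegenerate _ _)
    (Or.inr (by rw [Module.finrank_fintype_fun_eq_card]; decide))
    ⟨Pi.single (Sum.inl 0) 1 + Pi.single (Sum.inr 0) 1, by
      rw [← plusForm_coe]; decide⟩
  rw [← plusForm_coe] at h
  exact h

theorem card_center : Nat.card (Subgroup.center G0) = 1 := by
  have h := card_center_omega_one (plusForm 4 (ZMod 2)) (plusForm_nondegenerate _ _)
    (Cfsg.Agent.S0293.plus_hypFam 4 (ZMod 2)) (by norm_num) (Or.inl two_eq_zero)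
  rw [← plusForm_coe] at h
  exact h

theorem center_eq_bot : Subgroup.center G0 = ⊥ :=
  Subgroup.eq_bot_of_card_eq _ card_center

theorem card_POmega : Nat.card (Cfsg.POmega (ZMod 2) Q8) = 174182400 := by
  have h := Cfsg.Agent.S0293.result (F := ZMod 2) (q := 2) (ZMod.card 2) 4 le_rfl
  have hg : Nat.gcd 4 (2 ^ 4 - 1) = 1 := by decide
  rw [hg, one_mul] at h
  rw [h]
  norm_num [Finset.prod_range_succ]

/-- `POmega` is `G0` itself (trivial centre) -/
noncomputable def quotEquiv : Cfsg.POmega (ZMod 2) Q8 ≃* G0 :=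
  Cfsg.Agent.Lib.Helper89.ClassicalTransfer.quotCenterEquivOfEqBot center_eq_bot

theorem card_G0 : Nat.card G0 = 174182400 := by
  rw [← Nat.card_congr quotEquiv.toEquiv, card_POmega]

/-! ### elements of odd order lie in `Ω` -/

theorem mem_omega_of_pow_odd (g : O0) (k : ℕ) (hk : Odd k) (hg : g ^ k = 1) :
    g ∈ Cfsg.Omega (ZMod 2) Q8 := by
  obtain ⟨j, rfl⟩ := hk
  have h2 : g ^ 2 ∈ Cfsg.Omega (ZMod 2) Q8 := Subgroup.sq_mem_of_index_two index_omega g
  have h3 : (g ^ 2) ^ j ∈ Cfsg.Omega (ZMod 2) Q8 := Subgroup.pow_mem _ h2 j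
  have h4 : g = ((g ^ 2) ^ j)⁻¹ := by
    rw [eq_inv_iff_mul_eq_one, ← pow_mul, ← pow_succ']
    exact hg
  rw [h4]
  exact Subgroup.inv_mem _ h3

/-- an explicit matrix `M` with `M ^ k = 1`, `k` odd, preserving the form, as an element of `G0` -/
def mkG0 (M : Mat) (k : ℕ) (hk : Odd k) (hpow : M ^ k = 1) (hq : ∀ u : V, Q8 (M *ᵥ u) = Q8 u) : G0 :=
  have h1 : M * M ^ (k - 1) = 1 := by
    rw [← pow_succ']
    obtain ⟨j, rfl⟩ := hk
    exact hpow
  have h2 : M ^ (k - 1) * M = 1 := by
    rw [← pow_succ]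
    obtain ⟨j, rfl⟩ := hk
    exact hpow
  ⟨⟨⟨M, M ^ (k - 1), h1, h2⟩, fun u _ => hq u⟩,
    mem_omega_of_pow_odd _ k hk (by
      apply Subtype.ext
      apply Units.ext
      exact hpow)⟩

theorem toMat_mkG0 (M : Mat) (k : ℕ) (hk : Odd k) (hpow : M ^ k = 1)
    (hq : ∀ u : V, Q8 (M *ᵥ u) = Q8 u) : toMat (mkG0 M k hk hpow hq) = M := rfl

theorem mkG0_smul (M : Mat) (k : ℕ) (hk : Odd k) (hpow : M ^ k = 1)
    (hq : ∀ u : V, Q8 (M *ᵥ u) = Q8 u) (v : V) : mkG0 M k hk hpow hq • v = M *ᵥ v := rfl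


/-! ### the 256 vectors, table-driven isometry check -/

/-- position of a coordinate -/
def cidx : I8 → ℕ
  | .inl i => i.val
  | .inr i => 4 + i.val

/-- the vector with bit pattern `n` -/
def pt (n : ℕ) : V := fun j => if n.testBit (cidx j) then 1 else 0

/-- the bit pattern of a vector -/
def enc (v : V) : ℕ := ∑ j : I8, (v j).val * 2 ^ cidx j

theorem enc_pt : ∀ x < 256, enc (pt x) = x := by decide +kernel

theorem pt_inj : ∀ x < 256, ∀ y < 256, pt x = pt y → x = y := by
  intro x hx y hy h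
  rw [← enc_pt x hx, ← enc_pt y hy, h]

theorem pt_surj (v : V) : ∃ x < 256, pt x = v := by
  have hinj : Function.Injective (fun x : Fin 256 => pt x.val) := by
    intro a b h
    exact Fin.ext (pt_inj a.val a.isLt b.val b.isLt h)
  have hcard : Fintype.card (Fin 256) = Fintype.card V := by
    simp [ZMod.card]
  have hbij := (Fintype.bijective_iff_injective_and_card _).mpr ⟨hinj, hcard⟩
  obtain ⟨x, hx⟩ := hbij.2 v
  exact ⟨x.val, x.isLt, hx⟩

theorem pt_basis : ∀ c : I8, pt (2 ^ cidx c) = Pi.single c 1 := by decide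

/-- the form is preserved as soon as it is preserved along a table of the action on the 256 vectors -/
theorem iso_of_table (M : Mat) (tab : ℕ → ℕ) (hmv : ∀ x < 256, M *ᵥ pt x = pt (tab x))
    (hq : ∀ x < 256, Q8 (pt (tab x)) = Q8 (pt x)) : ∀ u : V, Q8 (M *ᵥ u) = Q8 u := by
  intro u
  obtain ⟨x, hx, rfl⟩ := pt_surj u
  rw [hmv x hx, hq x hx]

/-- an element of `G0` is determined by its action on the eight basis vectors -/
theorem faithful (g g' : G0) (h : ∀ x ∈ [1, 2, 4, 8, 16, 32, 64, 128], g • pt x = g' • pt x) : g = g' := by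
  apply toMat_injective
  ext r c
  have hc : 2 ^ cidx c ∈ [1, 2, 4, 8, 16, 32, 64, 128] := by
    rcases c with c | c <;> fin_cases c <;> decide
  have h1 := h _ hc
  rw [pt_basis c, smul_def, smul_def, Matrix.mulVec_single_one, Matrix.mulVec_single_one] at h1
  exact congrFun h1 r

/-! ### transfer to an arbitrary field with two elements -/

/-- an isomorphism of groups induces an isomorphism of the commutator subgroups -/
noncomputable def commutatorCongr {G H : Type*} [Group G] [Group H] (e : G ≃* H) :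
    ↥(commutator G) ≃* ↥(commutator H) :=
  (e.subgroupMap (commutator G)).trans (MulEquiv.subgroupCongr (by
    rw [commutator_def, commutator_def, Subgroup.map_commutator]
    have : Subgroup.map (e : G →* H) ⊤ = ⊤ :=
      Subgroup.map_top_of_surjective (e : G →* H) e.surjective
    rw [this]))

theorem quadFormPlus_comp {F K : Type*} [Field F] [Field K] (σ : F ≃+* K) (m : ℕ)
    (v : Fin m ⊕ Fin m → F) :
    Cfsg.quadFormPlus m K (σ ∘ v) = σ (Cfsg.quadFormPlus m F v) := by
  unfold Cfsg.quadFormPlus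
  rw [map_sum]
  apply Finset.sum_congr rfl
  intro i _
  rw [map_mul]
  rfl

/-- `PΩ⁺_{2m}` over isomorphic fields -/
noncomputable def pomegaPlusCongr {F K : Type*} [Field F] [Field K] (σ : F ≃+* K) (m : ℕ) :
    Cfsg.POmega F (Cfsg.quadFormPlus m F) ≃* Cfsg.POmega K (Cfsg.quadFormPlus m K) :=
  Cfsg.Agent.Lib.Helper89.ClassicalTransfer.quotCenterCongr
    (commutatorCongr (Cfsg.Agent.Lib.Helper89.isometryGroupCongr σ (Cfsg.quadFormPlus m F)
      (Cfsg.quadFormPlus m K) (quadFormPlus_comp σ m)))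

/-- the final transfer: `PΩ⁺₈(F) ≃* G0` for every field `F` with two elements -/
noncomputable def equivG0 {F : Type*} [Field F] [Fintype F] (hF : Fintype.card F = 2) :
    Cfsg.POmega F (Cfsg.quadFormPlus 4 F) ≃* G0 :=
  haveI : Fact (Nat.Prime 2) := ⟨Nat.prime_two⟩
  (pomegaPlusCongr (ZMod.ringEquivOfPrime F Nat.prime_two hF).symm 4).trans quotEquiv

end Cfsg.Agent.Lib.Helper72.O8
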