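import Cfsg.Agent.Lib.Helper36.ChevConjS
import Cfsg.Prelude.Def_ChevG2
import Cfsg.Prelude.Def_ChevB2
import Cfsg.Prelude.Def_ChevD4
import Cfsg.Prelude.Def_ChevF4
import Cfsg.Prelude.Def_ChevE6
import Cfsg.Prelude.Def_ChevE7
import Cfsg.Prelude.Def_ChevE8

/-! # A table check on the root systems: every fundamental root `p_k` is the difference of two positive roots
involving a given fundamental root `p_{i0}` (helper72, for S2155) -/

set_option autoImplicit false
set_option maxRecDepth 100000

namespace Cfsg.Agent.Lib.Helper72.Para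

open Cfsg Cfsg.Lie Cfsg.Agent.Lib.Helper36

/-- the relation `N' r'^∨ = N r^∨ + M p_k^∨` between coroot vectors -/
def relOK (D : ChevalleyDatum) (r r' k : ℕ) (N N' M : ℤ) : Bool :=
  (List.range D.rank).all fun j => N' * cor D r' j == N * cor D r j + (if j = k then M else 0)

/-- `r` and `r' = r + p_k` are positive roots involving `p_{i0}`, with a relation between the coroots -/
def pathOK (D : ChevalleyDatum) (i0 k r : ℕ) : Bool :=
  match D.chainRoot r (D.simple k) 1 with
  | none => false
  | some r' => decide (D.IsPosRoot r') && (cor D r i0 != 0) && (cor D r' i0 != 0) &&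
      ([1, 2, 3] : List ℤ).any fun N => ([1, 2, 3] : List ℤ).any fun N' => ([1, 2, 3] : List ℤ).any fun M =>
        relOK D r r' k N N' M

def chkPath (D : ChevalleyDatum) : Bool :=
  (List.range D.rank).all fun i0 => (List.range D.rank).all fun k =>
    (k == i0) || D.posRoots.any fun r => pathOK D i0 k r

theorem chkPath_spec (D : ChevalleyDatum) (h : chkPath D = true) (i0 k : ℕ) (hi0 : i0 < D.rank)
    (hk : k < D.rank) (hne : k ≠ i0) :
    ∃ r r' : ℕ, D.IsPosRoot r ∧ D.IsPosRoot r' ∧ cor D r i0 ≠ 0 ∧ cor D r' i0 ≠ 0 ∧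
      D.chainRoot r (D.simple k) 1 = some r' ∧
      ∃ N N' M : ℤ, M ≠ 0 ∧ ∀ j < D.rank, N' * cor D r' j = N * cor D r j + (if j = k then M else 0) := by
  unfold chkPath at h
  rw [List.all_eq_true] at h
  have h1 := h i0 (List.mem_range.2 hi0)
  rw [List.all_eq_true] at h1
  have h2 := h1 k (List.mem_range.2 hk)
  rw [Bool.or_eq_true] at h2
  rcases h2 with h2 | h2
  · exact absurd (beq_iff_eq.1 h2) hne
  · rw [List.any_eq_true] at h2
    obtain ⟨r, hr, hp⟩ := h2
    have hrpos : D.IsPosRoot r := by
      unfold ChevalleyDatum.posRoots at hr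
      rw [List.mem_filter] at hr
      simpa using hr.2
    unfold pathOK at hp
    split at hp
    · exact absurd hp (by simp)
    · rename_i r' hr'
      simp only [Bool.and_eq_true, decide_eq_true_eq, bne_iff_ne, ne_eq, List.any_eq_true] at hp
      obtain ⟨⟨⟨h1, h2⟩, h3⟩, N, hN, N', hN', M, hM, hrel⟩ := hp
      refine ⟨r, r', hrpos, h1, h2, h3, hr', N, N', M, ?_, ?_⟩
      · simp only [List.mem_cons, List.not_mem_nil, or_false] at hM
        omega
      · intro j hj
        unfold relOK at hrel
        rw [List.all_eq_true] at hrel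
        exact beq_iff_eq.1 (hrel j (List.mem_range.2 hj))

theorem chkPath_G2 : chkPath chevG2 = true := by decide +kernel
theorem chkPath_B2 : chkPath chevB2 = true := by decide +kernel
theorem chkPath_D4 : chkPath chevD4 = true := by decide +kernel
theorem chkPath_F4 : chkPath chevF4 = true := by decide +kernel
theorem chkPath_E6 : chkPath chevE6 = true := by decide +kernel
theorem chkPath_E7 : chkPath chevE7 = true := by decide +kernel
theorem chkPath_E8 : chkPath chevE8 = true := by decide +kernel

theorem chkPath_all (D : ChevalleyDatum)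
    (hD : D ∈ [chevG2, chevB2, chevD4, chevF4, chevE6, chevE7, chevE8]) : chkPath D = true := by
  simp only [List.mem_cons, List.not_mem_nil, or_false] at hD
  rcases hD with rfl | rfl | rfl | rfl | rfl | rfl | rfl
  · exact chkPath_G2
  · exact chkPath_B2
  · exact chkPath_D4
  · exact chkPath_F4
  · exact chkPath_E6
  · exact chkPath_E7
  · exact chkPath_E8

end Cfsg.Agent.Lib.Helper72.Para
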