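import Cfsg.Agent.Lib.Helper72.ParaLead
import Cfsg.Agent.Lib.Helper72.ParaPath
import Cfsg.Agent.Lib.Helper72.AutT2c
import Cfsg.Agent.Lib.Helper18.ChevNWord
import Cfsg.Agent.Lib.Helper18.AutT10
import Cfsg.Agent.Lib.Helper36.ChevLevi
import Cfsg.Agent.Lib.Helper36.ChevTwW
import Cfsg.Agent.Lib.Helper36.ChevTwPerf
import Cfsg.Agent.Lib.Helper36.ChevW0c
import Cfsg.Agent.Lib.Helper36.ChevPoin

/-! # The centraliser of the unipotent radical `U_J` of a proper parabolic subgroup lies in `U`
(helper72, for S2155) -/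

set_option autoImplicit false
set_option maxRecDepth 100000

namespace Cfsg.Agent.Lib.Helper72.Para

open Cfsg Cfsg.Lie Cfsg.Agent.Lib.Helper36 Cfsg.Agent.Lib.Helper18 Cfsg.Agent.Lib.Helper18.Au
open Cfsg.Agent.Lib.Helper72.Au

section
variable (D : ChevalleyDatum) (hD : D ∈ [chevG2, chevB2, chevD4, chevF4, chevE6, chevE7, chevE8])
variable (F : Type*) [Field F]

theorem xGL_mem_radical (J : Set ℕ) (r : ℕ) (hr : D.IsPosRoot r) (hJ : ¬ D.InRootSub J r) (t : F) :
    xGL D hD F r t ∈ D.unipotentRadical F J :=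
  Subgroup.subset_closure ⟨r, t, hr, hJ, xGL_coe D hD F r t⟩

theorem not_inRootSub_of_cor_ne (J : Set ℕ) (i0 : ℕ) (hi0 : i0 < D.rank) (hi0J : i0 ∉ J) (r : ℕ)
    (h : cor D r i0 ≠ 0) : ¬ D.InRootSub J r :=
  fun hr => h (hr.2 i0 hi0 hi0J)

/-- conjugation by `m` maps `U` into `U` if it does so on the generators -/
theorem conj_pos_mem (m : GL D.Idx F)
    (hm : ∀ r, D.IsPosRoot r → ∀ t : F, m * xGL D hD F r t * m⁻¹ ∈ D.posUnipotent F) :
    ∀ g ∈ D.posUnipotent F, m * g * m⁻¹ ∈ D.posUnipotent F := by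
  intro g hg
  unfold ChevalleyDatum.posUnipotent at hg
  induction hg using Subgroup.closure_induction with
  | mem x hx =>
    obtain ⟨r, t, hr, hx⟩ := hx
    have e : x = xGL D hD F r t := Units.ext (by rw [hx, xGL_coe])
    rw [e]
    exact hm r hr t
  | one =>
    rw [mul_one, mul_inv_cancel]
    exact one_mem _
  | mul a b _ _ ha hb =>
    have e : m * (a * b) * m⁻¹ = (m * a * m⁻¹) * (m * b * m⁻¹) := by group
    rw [e]
    exact mul_mem ha hb
  | inv a _ ha =>
    have e : m * a⁻¹ * m⁻¹ = (m * a * m⁻¹)⁻¹ := by group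
    rw [e]
    exact inv_mem ha

include hD in
/-- Step 1: a monomial element `m` such that `v m` centralises `U_J` for some `v ∈ U` is trivial -/
theorem monomial_eq_one (J : Set ℕ) (i0 : ℕ) (hi0 : i0 < D.rank) (hi0J : i0 ∉ J)
    (v m : GL D.Idx F) (hv : v ∈ D.posUnipotent F) (hm : m ∈ D.monomialSubgroup F)
    (hc : ∀ x ∈ D.unipotentRadical F J, (v * m) * x = x * (v * m)) : m = 1 := by
  obtain ⟨l, hl, hact⟩ := exists_word_conj D hD F m hm
  -- Claim A
  have hA : ∀ r, D.IsPosRoot r → ¬ D.InRootSub J r →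
      wRoot D l r = r ∧ ∀ t : F, m * xGL D hD F r t * m⁻¹ = xGL D hD F r t := by
    intro r hr hrJ
    obtain ⟨c, hc0, hcr⟩ := hact r hr.1
    have hslt := wRoot_lt D hD l hl r hr.1
    have hx := hc _ (xGL_mem_radical D hD F J r hr hrJ 1)
    have h1 : xGL D hD F r 1 = v * xGL D hD F (wRoot D l r) (c * 1) * v⁻¹ := by
      rw [← hcr 1]
      have : v * (m * xGL D hD F r 1 * m⁻¹) * v⁻¹ = (v * m) * xGL D hD F r 1 * (v * m)⁻¹ := by group
      rw [this, hx]
      group
    have hc1 : c * 1 ≠ 0 := by rwa [mul_one]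
    have hspos : D.IsPosRoot (wRoot D l r) := by
      rcases pos_or_neg D hD _ hslt with h | h
      · exact h
      · exfalso
        have hU : xGL D hD F (wRoot D l r) (c * 1) ∈ D.posUnipotent F := by
          have e : xGL D hD F (wRoot D l r) (c * 1) = v⁻¹ * xGL D hD F r 1 * v := by
            rw [h1]; group
          rw [e]
          exact mul_mem (mul_mem (inv_mem hv) (xGL_mem_pos D hD F r hr 1)) hv
        have hV : xGL D hD F (wRoot D l r) (c * 1) ∈ D.negUnipotent F :=
          Subgroup.subset_closure ⟨_, _, h, xGL_coe D hD F _ _⟩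
        have hbot : xGL D hD F (wRoot D l r) (c * 1) ∈ D.borelSubgroup F ⊓ D.negUnipotent F :=
          Subgroup.mem_inf.2 ⟨pos_le_borel D F hU, hV⟩
        rw [borel_inf_neg D hD F, Subgroup.mem_bot] at hbot
        have h3 : D.x F (wRoot D l r) (c * 1) = 1 := by
          rw [← xGL_coe D hD, hbot]; rfl
        exact hc1 (x_eq_one_iff D hD F _ hslt _ h3)
    obtain ⟨e1, e2⟩ := conj_root_unique D hD F v hv (wRoot D l r) r hspos hr (c * 1) 1 h1 hc1
    refine ⟨e1.symm, fun t => ?_⟩
    have hcone : c = 1 := by rw [mul_one] at e2; exact e2.symm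
    rw [hcr t, ← e1, hcone, one_mul]
  -- Claim B
  have hB : ∀ k < D.rank, wRoot D l (D.simple k) = D.simple k := by
    intro k hk
    by_cases hkJ : k ∈ J
    · have hne : k ≠ i0 := fun e => hi0J (e ▸ hkJ)
      obtain ⟨r, r', hr, hr', hri, hri', -, N, N', M, hM, hrel⟩ :=
        chkPath_spec D (chkPath_all D hD) i0 k hi0 hk hne
      have hwr := (hA r hr (not_inRootSub_of_cor_ne D J i0 hi0 hi0J r hri)).1
      have hwr' := (hA r' hr' (not_inRootSub_of_cor_ne D J i0 hi0 hi0J r' hri')).1
      have hklt := (chkN2_spec D (chkN2_all D hD) k hk).1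
      apply cor_injective D hD _ _ (wRoot_lt D hD l hl _ hklt) hklt
      intro j hj
      have h1 := cor_wRoot_lin D hD l hl r hr.1 j hj
      have h2 := cor_wRoot_lin D hD l hl r' hr'.1 j hj
      rw [hwr] at h1
      rw [hwr'] at h2
      have h3 : N' * cor D r' j = N * cor D r j + M * cor D (wRoot D l (D.simple k)) j := by
        rw [h1, h2, Finset.mul_sum, Finset.mul_sum]
        have hsplit : ∀ q : Fin D.rank, N' * (cor D r' q * cor D (wRoot D l (D.simple q)) j) =
            N * (cor D r q * cor D (wRoot D l (D.simple q)) j) +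
              (if q = (⟨k, hk⟩ : Fin D.rank) then M * cor D (wRoot D l (D.simple k)) j else 0) := by
          intro q
          have hq := hrel q q.2
          by_cases hqk : q = (⟨k, hk⟩ : Fin D.rank)
          · have hqk' : (q : ℕ) = k := by rw [hqk]
            rw [if_pos hqk, ← mul_assoc, hq, if_pos hqk', hqk']
            ring
          · have hqk' : (q : ℕ) ≠ k := fun e => hqk (Fin.ext e)
            rw [if_neg hqk, ← mul_assoc, hq, if_neg hqk']
            ring
        rw [Finset.sum_congr rfl (fun q _ => hsplit q), Finset.sum_add_distrib,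
          Finset.sum_ite_eq' Finset.univ (⟨k, hk⟩ : Fin D.rank), if_pos (Finset.mem_univ _)]
      have h4 := hrel j hj
      rw [h3] at h4
      rw [cor_simple D hD k j hk hj]
      have h5 : M * cor D (wRoot D l (D.simple k)) j = M * (if j = k then 1 else 0) := by
        have : N * cor D r j + M * cor D (wRoot D l (D.simple k)) j =
            N * cor D r j + (if j = k then M else 0) := h4
        have h6 := add_left_cancel this
        rw [h6]
        split_ifs <;> simp
      exact mul_left_cancel₀ hM h5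
    · exact (hA _ (isPosRoot_simple D hD k hk) (simple_not_inRootSub D hD J k hk hkJ)).1
  -- `w` fixes every root
  have hW : ∀ r < D.nroots, wRoot D l r = r := by
    intro r hr
    apply cor_injective D hD _ _ (wRoot_lt D hD l hl r hr) hr
    intro j hj
    rw [cor_wRoot_lin D hD l hl r hr j hj]
    have : ∀ q : Fin D.rank, cor D r q * cor D (wRoot D l (D.simple q)) j =
        if q = (⟨j, hj⟩ : Fin D.rank) then cor D r j else 0 := by
      intro q
      rw [hB q q.2, cor_simple D hD q j q.2 hj]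
      by_cases hqj : q = (⟨j, hj⟩ : Fin D.rank)
      · have : j = (q : ℕ) := by rw [hqj]
        rw [if_pos hqj, if_pos this, mul_one, this]
      · have : j ≠ (q : ℕ) := fun e => hqj (Fin.ext e.symm)
        rw [if_neg hqj, if_neg this, mul_zero]
    rw [Finset.sum_congr rfl (fun q _ => this q), Finset.sum_ite_eq' Finset.univ (⟨j, hj⟩ : Fin D.rank),
      if_pos (Finset.mem_univ _)]
  -- `m` normalises `U`, hence lies in `B ∩ N = H`
  have hact' : ∀ r < D.nroots, ∃ c : F, c ≠ 0 ∧ ∀ t : F, m * xGL D hD F r t * m⁻¹ = xGL D hD F r (c * t) := by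
    intro r hr
    obtain ⟨c, hc0, hcr⟩ := hact r hr
    exact ⟨c, hc0, fun t => by rw [hcr t, hW r hr]⟩
  have hmU : ∀ g ∈ D.posUnipotent F, m * g * m⁻¹ ∈ D.posUnipotent F := by
    apply conj_pos_mem D hD F m
    intro r hr t
    obtain ⟨c, -, hcr⟩ := hact' r hr.1
    rw [hcr t]
    exact xGL_mem_pos D hD F r hr _
  have hmU' : ∀ g ∈ D.posUnipotent F, m⁻¹ * g * m⁻¹⁻¹ ∈ D.posUnipotent F := by
    apply conj_pos_mem D hD F m⁻¹
    intro r hr t
    obtain ⟨c, hc0, hcr⟩ := hact' r hr.1
    have e : m⁻¹ * xGL D hD F r t * m⁻¹⁻¹ = xGL D hD F r (c⁻¹ * t) := by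
      have := hcr (c⁻¹ * t)
      rw [← mul_assoc, mul_inv_cancel₀ hc0, one_mul] at this
      rw [← this]
      group
    rw [e]
    exact xGL_mem_pos D hD F r hr _
  have hmN : m ∈ Subgroup.normalizer (D.posUnipotent F : Set (GL D.Idx F)) := by
    rw [Subgroup.mem_normalizer_iff]
    intro g
    constructor
    · exact hmU g
    · intro h
      have := hmU' _ h
      have e : m⁻¹ * (m * g * m⁻¹) * m⁻¹⁻¹ = g := by group
      rwa [e] at this
  have hmB : m ∈ D.borelSubgroup F := by
    rw [← normalizer_pos_inf_group D hD F]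
    exact Subgroup.mem_inf.2 ⟨hmN, monomial_le_group D hD F hm⟩
  have hmH : m ∈ D.diagonalSubgroup F := by
    rw [← borel_inf_monomial D hD F]
    exact Subgroup.mem_inf.2 ⟨hmB, hm⟩
  -- the character of `m`
  obtain ⟨χ, hχ, hmχ⟩ := exists_character_of_mem_diagonal D hD F m hmH
  have hχA : ∀ r, D.IsPosRoot r → ¬ D.InRootSub J r → χ r = 1 := by
    intro r hr hrJ
    have h1 := diag_conj_xGL D hD F m χ hχ hmχ r hr.1 1
    rw [(hA r hr hrJ).2 1] at h1
    have h2 : D.x F r 1 = D.x F r ((χ r : F) * 1) := by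
      rw [← xGL_coe D hD, ← xGL_coe D hD, ← h1]
    have h3 := x_injective D hD r hr.1 _ _ h2
    rw [mul_one] at h3
    exact Units.ext (by rw [Units.val_one]; exact h3.symm)
  have hχs : ∀ k < D.rank, χ (D.simple k) = 1 := by
    intro k hk
    by_cases hkJ : k ∈ J
    · have hne : k ≠ i0 := fun e => hi0J (e ▸ hkJ)
      obtain ⟨r, r', hr, hr', hri, hri', hch, -⟩ :=
        chkPath_spec D (chkPath_all D hD) i0 k hi0 hk hne
      have h1 := hχA r hr (not_inRootSub_of_cor_ne D J i0 hi0 hi0J r hri)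
      have h2 := hχA r' hr' (not_inRootSub_of_cor_ne D J i0 hi0 hi0J r' hri')
      have hklt := (chkN2_spec D (chkN2_all D hD) k hk).1
      have h3 := hχ.2 r (D.simple k) r' hr.1 hklt hch
      rw [h1, h2, one_mul] at h3
      exact h3.symm
    · exact hχA _ (isPosRoot_simple D hD k hk) (simple_not_inRootSub D hD J k hk hkJ)
  have hχn : ∀ k < D.rank, χ (D.neg (D.simple k)) = 1 := by
    intro k hk
    have hklt := (chkN2_spec D (chkN2_all D hD) k hk).1
    rw [hχ.1 _ hklt, hχs k hk, inv_one]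
  -- `m` is central in the group
  have hmG : m ∈ D.group F := monomial_le_group D hD F hm
  have hcent : (MulAut.conj (⟨m, hmG⟩ : ↥(D.group F))).toMonoidHom = MonoidHom.id ↥(D.group F) := by
    apply T10_ext' D hD F
    intro i t
    have hilt := (chkN2_spec D (chkN2_all D hD) i i.2).1
    have hnlt := wf_neg D (wf_all D hD) _ hilt
    constructor
    · apply Subtype.ext
      have := diag_conj_xGL D hD F m χ hχ hmχ (D.simple i) hilt t
      rw [hχs i i.2, Units.val_one, one_mul] at this
      show m * xGL D hD F (D.simple i) t * m⁻¹ = xGL D hD F (D.simple i) t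
      exact this
    · apply Subtype.ext
      have := diag_conj_xGL D hD F m χ hχ hmχ (D.neg (D.simple i)) hnlt t
      rw [hχn i i.2, Units.val_one, one_mul] at this
      show m * xGL D hD F (D.neg (D.simple i)) t * m⁻¹ = xGL D hD F (D.neg (D.simple i)) t
      exact this
  have hχall : ∀ r : Fin D.nroots, (χ r.val : F) = 1 := by
    intro r
    have h1 := diag_conj_xGL D hD F m χ hχ hmχ r.val r.2 1
    have h0 := congrArg (fun f => ((f (xGr D hD F r.val 1) : ↥(D.group F)) : GL D.Idx F)) hcent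
    have h0' : m * xGL D hD F r.val 1 * m⁻¹ = xGL D hD F r.val 1 := h0
    rw [h0'] at h1
    have h2 : D.x F r.val 1 = D.x F r.val ((χ r.val : F) * 1) := by
      rw [← xGL_coe D hD, ← xGL_coe D hD, ← h1]
    have h3 := x_injective D hD r.val r.2 _ _ h2
    rw [mul_one] at h3
    exact h3.symm
  apply Units.ext
  rw [hmχ]
  unfold ChevalleyDatum.charDiag
  rw [Units.val_one, ← Matrix.diagonal_one]
  congr 1
  funext x
  rcases x with j | s
  · rfl
  · exact hχall s

include hD in
/-- Step 2: the centraliser of `U_J` in the Chevalley group lies in `U`, for a proper `J` -/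
theorem centralizer_radical_le_pos (J : Set ℕ) (i0 : ℕ) (hi0 : i0 < D.rank) (hi0J : i0 ∉ J)
    (c : GL D.Idx F) (hcG : c ∈ D.group F)
    (hc : ∀ x ∈ D.unipotentRadical F J, c * x = x * c) : c ∈ D.posUnipotent F := by
  have h45 : ∀ i < D.rank, H45 D F i := fun i hi => Cfsg.Agent.S1045.result D hD i hi
  obtain ⟨n, hn, b1, hb1, b2, hb2, rfl⟩ := Cfsg.Agent.Lib.Helper36.bruhat_exists D hD F h45 c hcG
  obtain ⟨u1, hu1, h1, hh1, rfl⟩ := (mem_borel_iff D hD F b1).1 hb1
  obtain ⟨u2, hu2, h2, hh2, rfl⟩ := (mem_borel_iff D hD F b2).1 hb2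
  have hHN : D.diagonalSubgroup F ≤ D.monomialSubgroup F := by
    unfold ChevalleyDatum.monomialSubgroup
    exact le_sup_left
  set m := h1 * n * h2 with hm
  have hmN : m ∈ D.monomialSubgroup F := mul_mem (mul_mem (hHN hh1) hn) (hHN hh2)
  set u2' := h2⁻¹ * u2 * h2 with hu2'
  have hu2'U : u2' ∈ D.posUnipotent F := by
    have := (Subgroup.mem_normalizer_iff.1 (diagonal_le_normalizer_pos D hD F (inv_mem hh2)) u2).1 hu2
    rwa [inv_inv] at this
  have hce : u1 * h1 * n * (u2 * h2) = u1 * m * u2' := by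
    rw [hm, hu2']; group
  rw [hce] at hc ⊢
  -- `U` normalises `U_J`
  have hUn : D.posUnipotent F ≤ Subgroup.normalizer (D.unipotentRadical F J : Set (GL D.Idx F)) :=
    (pos_le_borel D F).trans ((borel_le_parabolic D F J).trans
      (parabolic_le_normalizer D hD F (hcomm_all D hD F) J))
  have hc' : ∀ x ∈ D.unipotentRadical F J, (u2' * u1 * m) * x = x * (u2' * u1 * m) := by
    intro x hx
    have hx' : u2'⁻¹ * x * u2'⁻¹⁻¹ ∈ D.unipotentRadical F J :=
      (Subgroup.mem_normalizer_iff.1 (hUn (inv_mem hu2'U)) x).1 hx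
    have := hc _ hx'
    have e1 : (u2' * u1 * m) * x = u2' * (u1 * m * u2' * (u2'⁻¹ * x * u2'⁻¹⁻¹)) * u2'⁻¹ := by group
    rw [e1, this]
    group
  have hm1 := monomial_eq_one D hD F J i0 hi0 hi0J (u2' * u1) m (mul_mem hu2'U hu1) hmN hc'
  rw [hm1, mul_one]
  exact mul_mem hu1 hu2'U

end

end Cfsg.Agent.Lib.Helper72.Para
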