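import Cfsg.Agent.Lib.Helper18.ChevOrdMain

/-! # Leading terms of conjugates of root elements under `U` (helper72, for S2155)

`x_s(t') = v x_r(t) v⁻¹` with `v ∈ U`, `r, s` positive and `t ≠ 0` forces `s = r` and `t' = t`;
proved with helper18's weighted height filtration. -/

set_option autoImplicit false
set_option maxRecDepth 100000

namespace Cfsg.Agent.Lib.Helper72.Para

open Cfsg Cfsg.Lie Cfsg.Agent.Lib.Helper36 Cfsg.Agent.Lib.Helper18

section
variable (D : ChevalleyDatum) (hD : D ∈ [chevG2, chevB2, chevD4, chevF4, chevE6, chevE7, chevE8])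
variable (F : Type*) [Field F]

include hD in
/-- if `x_m(c) - 1` raises the weighted level by more than `htW m` then `c = 0` -/
theorem eq_zero_of_raises_succ (m : ℕ) (hm : D.IsPosRoot m) (c : F)
    (hR : Raises (lvIW D (htW D)) (htW D m + 1) (D.x F m c - 1)) : c = 0 := by
  obtain ⟨hadd, hpos, hmono⟩ := chkW_spec D (chkW_all D hD)
  have hne : D.neg m ≠ m := (wf2_spec D (wf2_all D hD) m hm.1).1
  have hnr : D.neg m < D.nroots := wf_neg D (wf_all D hD) m hm.1
  have hzero : ∀ i : Fin D.rank, ((cor D m i : ℤ) : F) * c = 0 := by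
    intro i
    by_contra hne0
    have hent : (D.x F m c - 1) (Sum.inl i) (Sum.inr ⟨D.neg m, hnr⟩) ≠ 0 := by
      rw [Matrix.sub_apply, x_apply_inl_neg D F m hm.1 hnr hne i c, Matrix.one_apply_ne (by simp), sub_zero]
      exact hne0
    have := hR _ _ hent
    have hneg := (hadd m hm.1).1
    simp only [lvIW, enc, Sum.map_inl, Sum.map_inr, lvBW] at this
    rw [hneg] at this
    omega
  by_contra hc
  have hz : ∀ i < D.rank, ((cor D m i : ℤ) : F) = 0 := by
    intro i hi
    rcases mul_eq_zero.1 (hzero ⟨i, hi⟩) with h | h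
    · exact h
    · exact absurd h hc
  have := ringChar.charP F
  have hd : ∀ i < D.rank, ((ringChar F : ℕ) : ℤ) ∣ cor D m i := by
    intro i hi
    exact (CharP.intCast_eq_zero_iff F (ringChar F) _).1 (hz i hi)
  have h1' := chkPrim_spec D (chkPrim_all D hD) m hm _ hd
  have : ringChar F = 1 := by
    have := Int.natCast_dvd_natCast.1 (show ((ringChar F : ℕ) : ℤ) ∣ ((1 : ℕ) : ℤ) by simpa using h1')
    exact Nat.dvd_one.1 this
  exact CharP.ringChar_ne_one this

theorem raises_le {k k' : ℤ} (hk : 1 ≤ k) (hk' : 1 ≤ k') (h : k' ≤ k) :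
    raisesSubgroup (lvIW D (htW D)) F k hk ≤ raisesSubgroup (lvIW D (htW D)) F k' hk' := by
  intro g hg
  exact (mem_raisesSubgroup k' hk' g).2 (((mem_raisesSubgroup k hk g).1 hg).mono h)

include hD in
theorem xGL_mem_raises (s : ℕ) (hs : D.IsPosRoot s) (u : F) (k : ℤ) (hk1 : 1 ≤ k) (hk : k ≤ htW D s) :
    xGL D hD F s u ∈ raisesSubgroup (lvIW D (htW D)) F k hk1 := by
  obtain ⟨hadd, hpos, hmono⟩ := chkW_spec D (chkW_all D hD)
  rw [mem_raisesSubgroup, xGL_coe]
  exact (x_sub_one_raisesW D (htW D) (wf_all D hD) F s hs.1 (hadd s hs.1) (hpos s hs) u).mono hk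

include hD in
theorem pos_le_raises : D.posUnipotent F ≤ raisesSubgroup (lvIW D (htW D)) F 1 le_rfl := by
  obtain ⟨hadd, hpos, hmono⟩ := chkW_spec D (chkW_all D hD)
  unfold ChevalleyDatum.posUnipotent
  rw [Subgroup.closure_le]
  rintro g ⟨s, u, hs, hg⟩
  have e : g = xGL D hD F s u := Units.ext (by rw [hg, xGL_coe])
  rw [SetLike.mem_coe, e]
  have := hpos s hs
  exact xGL_mem_raises D hD F s hs u 1 le_rfl (by omega)

include hD in
/-- if `x_m(c)` lies in the subgroup raising the weighted level by more than `htW m` then `c = 0` -/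
theorem eq_zero_of_mem_raises_succ (m : ℕ) (hm : D.IsPosRoot m) (c : F) (k : ℤ) (hk1 : 1 ≤ k)
    (hk : htW D m + 1 ≤ k) (h : xGL D hD F m c ∈ raisesSubgroup (lvIW D (htW D)) F k hk1) : c = 0 := by
  apply eq_zero_of_raises_succ D hD F m hm c
  have := (mem_raisesSubgroup k hk1 _).1 h
  rw [xGL_coe] at this
  exact this.mono hk

include hD in
/-- the leading term lemma: `x_s(t') = v x_r(t) v⁻¹` with `v ∈ U` and `t ≠ 0` forces `s = r`, `t' = t` -/
theorem conj_root_unique (v : GL D.Idx F) (hv : v ∈ D.posUnipotent F) (r s : ℕ) (hr : D.IsPosRoot r)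
    (hs : D.IsPosRoot s) (t t' : F) (h : xGL D hD F s t' = v * xGL D hD F r t * v⁻¹) (ht : t ≠ 0) :
    s = r ∧ t' = t := by
  obtain ⟨hadd, hpos, hmono⟩ := chkW_spec D (chkW_all D hD)
  have hv1 := pos_le_raises D hD F hv
  have hr0 := hpos r hr
  have hs0 := hpos s hs
  have hr1 : 1 ≤ htW D r := by omega
  have hs1 : 1 ≤ htW D s := by omega
  have hcomm : v * xGL D hD F r t * v⁻¹ * (xGL D hD F r t)⁻¹ ∈
      raisesSubgroup (lvIW D (htW D)) F (1 + htW D r) (by omega) :=
    comm_mem_raisesSubgroup le_rfl hr1 v _ hv1 (xGL_mem_raises D hD F r hr t _ hr1 le_rfl)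
  rw [← h] at hcomm
  rcases lt_trichotomy s r with hsr | hsr | hsr
  · exfalso
    have hlt := hmono s r hs hr hsr
    have h1 : xGL D hD F s t' ∈ raisesSubgroup (lvIW D (htW D)) F (htW D s + 1) (by omega) := by
      have e : xGL D hD F s t' = (xGL D hD F s t' * (xGL D hD F r t)⁻¹) * xGL D hD F r t := by group
      rw [e]
      exact mul_mem (raises_le D F _ _ (by omega) hcomm)
        (xGL_mem_raises D hD F r hr t _ (by omega) (by omega))
    have h0 : t' = 0 := eq_zero_of_mem_raises_succ D hD F s hs t' _ (by omega) le_rfl h1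
    rw [h0, Cfsg.Agent.Lib.Helper18.xGL_zero] at h
    have h2 : xGL D hD F r t = 1 := conj_eq_one_iff.1 h.symm
    have h3 : D.x F r t = 1 := by
      rw [← xGL_coe D hD, h2]; rfl
    exact ht (x_eq_one_iff D hD F r hr.1 _ h3)
  · subst hsr
    refine ⟨rfl, ?_⟩
    have e : xGL D hD F s t' * (xGL D hD F s t)⁻¹ = xGL D hD F s (t' + -t) := by
      rw [Cfsg.Agent.Lib.Helper18.xGL_inv, Cfsg.Agent.Lib.Helper18.xGL_mul]
    rw [e] at hcomm
    have h0 := eq_zero_of_mem_raises_succ D hD F s hs _ _ (by omega) (by omega) hcomm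
    linear_combination h0
  · exfalso
    have hlt := hmono r s hr hs hsr
    have h1 : xGL D hD F r t ∈ raisesSubgroup (lvIW D (htW D)) F (htW D r + 1) (by omega) := by
      have e : xGL D hD F r t = (xGL D hD F s t' * (xGL D hD F r t)⁻¹)⁻¹ * xGL D hD F s t' := by group
      rw [e]
      exact mul_mem (inv_mem (raises_le D F _ _ (by omega) hcomm))
        (xGL_mem_raises D hD F s hs t' _ (by omega) (by omega))
    exact ht (eq_zero_of_mem_raises_succ D hD F r hr t _ (by omega) le_rfl h1)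

end

end Cfsg.Agent.Lib.Helper72.Para
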