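import Mathlib

set_option autoImplicit false

namespace Cfsg.Agent.Lib.Helper72

open Equiv

/-- A nontrivial normal subgroup of a full symmetric group is transitive. -/
theorem exists_mem_apply_eq_of_normal_ne_bot {α : Type*} [DecidableEq α]
    (N : Subgroup (Perm α)) [hN : N.Normal] (hne : N ≠ ⊥) :
    ∃ a : α, ∀ c : α, ∃ n ∈ N, n a = c := by
  obtain ⟨⟨σ, hσN⟩, hσ1⟩ := (Subgroup.ne_bot_iff_exists_ne_one).mp hne
  have hσ1' : σ ≠ 1 := fun h => hσ1 (Subtype.ext h)
  have : ∃ a, σ a ≠ a := by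
    by_contra hcon
    push Not at hcon
    exact hσ1' (Equiv.ext hcon)
  obtain ⟨a, ha⟩ := this
  refine ⟨a, fun c => ?_⟩
  by_cases hca : c = a
  · exact ⟨1, N.one_mem, by simp [hca]⟩
  · refine ⟨swap (σ a) c * σ * (swap (σ a) c)⁻¹, hN.conj_mem σ hσN _, ?_⟩
    have h1 : (swap (σ a) c)⁻¹ a = a := by
      rw [swap_inv]
      exact swap_apply_of_ne_of_ne (Ne.symm ha) (Ne.symm hca)
    rw [Perm.mul_apply, Perm.mul_apply, h1]
    exact swap_apply_left _ _

/-- The degree divides the order of a nontrivial normal subgroup of a symmetric group. -/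
theorem card_dvd_card_of_normal_ne_bot {α : Type*} [DecidableEq α] [Finite α]
    (N : Subgroup (Perm α)) [hN : N.Normal] (hne : N ≠ ⊥) :
    Nat.card α ∣ Nat.card N := by
  obtain ⟨a, ha⟩ := exists_mem_apply_eq_of_normal_ne_bot N hne
  have htrans : MulAction.IsPretransitive N α := by
    refine ⟨fun x y => ?_⟩
    obtain ⟨n₁, hn₁, h₁⟩ := ha x
    obtain ⟨n₂, hn₂, h₂⟩ := ha y
    refine ⟨⟨n₂ * n₁⁻¹, N.mul_mem hn₂ (N.inv_mem hn₁)⟩, ?_⟩
    show (n₂ * n₁⁻¹) x = y
    rw [Perm.mul_apply, ← h₁]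
    simp [h₂]
  have h := MulAction.index_stabilizer_of_transitive N a
  rw [← h]
  exact Subgroup.index_dvd_card _

end Cfsg.Agent.Lib.Helper72
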