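import Mathlib

/-!
# Orbits of subgroups of `Equiv.Perm α` as finsets, and small lemmas on permutations of odd order

Helper lemmas for S4349 (helper72).
-/

set_option autoImplicit false

namespace Cfsg.Agent.Lib.Helper72

open Equiv Equiv.Perm

variable {α : Type*} [Fintype α] [DecidableEq α]

/-- A permutation mapping a finset into itself maps it onto itself. -/
theorem perm_mem_iff_of_maps (y : Perm α) (B : Finset α) (h : ∀ b ∈ B, y b ∈ B) :
    ∀ b, y b ∈ B ↔ b ∈ B := by
  have himg : B.image y = B := by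
    apply Finset.eq_of_subset_of_card_le
    · intro c hc
      obtain ⟨b, hb, rfl⟩ := Finset.mem_image.mp hc
      exact h b hb
    · rw [Finset.card_image_of_injective _ y.injective]
  intro b
  constructor
  · intro hb
    rw [← himg] at hb
    obtain ⟨b', hb', hbb⟩ := Finset.mem_image.mp hb
    rw [← y.injective hbb]; exact hb'
  · exact h b

/-- A finite-group version: if conjugation by `t` maps `S` into itself, `t` normalizes `S`. -/
theorem mem_normalizer_of_conj_mem_fin {G : Type*} [Group G] [Finite G] (S : Subgroup G) (t : G)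
    (h : ∀ x ∈ S, t * x * t⁻¹ ∈ S) : t ∈ Subgroup.normalizer (S : Set G) := by
  have hmap : S.map (MulAut.conj t).toMonoidHom = S := by
    apply Subgroup.eq_of_le_of_card_ge
    · rintro y ⟨x, hx, rfl⟩
      exact h x hx
    · rw [Subgroup.card_map_of_injective (MulAut.conj t).injective]
  rw [Subgroup.mem_normalizer_iff]
  intro x
  constructor
  · exact h x
  · intro hx
    rw [← hmap] at hx
    obtain ⟨y, hy, hyx⟩ := hx
    have : y = x := by
      have h1 : t * y * t⁻¹ = t * x * t⁻¹ := hyx
      have h2 := mul_right_cancel h1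
      exact mul_left_cancel h2
    rw [← this]; exact hy

/-- If `g` swaps two disjoint finsets and has odd order, they are empty. -/
theorem eq_empty_of_swap_odd (g : Perm α) (U V : Finset α) (hUV : Disjoint U V)
    (h1 : ∀ a ∈ U, g a ∈ V) (h2 : ∀ a ∈ V, g a ∈ U) {k : ℕ} (hk : Odd k) (hg : g ^ k = 1) :
    U = ∅ := by
  have key : ∀ j : ℕ, (∀ a ∈ U, (g ^ j) a ∈ (if Even j then U else V)) ∧
      (∀ a ∈ V, (g ^ j) a ∈ (if Even j then V else U)) := by
    intro j
    induction j with
    | zero => simp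
    | succ j ih =>
      rw [pow_succ']
      by_cases hj : Even j
      · have hj' : ¬ Even (j + 1) := by
          rw [Nat.even_add_one]; exact not_not.mpr hj
        simp only [hj, hj', if_true, if_false] at ih ⊢
        exact ⟨fun a ha => h1 _ (ih.1 a ha), fun a ha => h2 _ (ih.2 a ha)⟩
      · have hj' : Even (j + 1) := by
          rw [Nat.even_add_one]; exact hj
        simp only [hj, hj', if_true, if_false] at ih ⊢
        exact ⟨fun a ha => h2 _ (ih.1 a ha), fun a ha => h1 _ (ih.2 a ha)⟩
  by_contra hne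
  obtain ⟨a, ha⟩ := Finset.nonempty_iff_ne_empty.mpr hne
  have h3 := (key k).1 a ha
  have hk' : ¬ Even k := Nat.not_even_iff_odd.mpr hk
  rw [hg] at h3
  simp only [hk', if_false, Perm.coe_one, id_eq] at h3
  exact (Finset.disjoint_left.mp hUV ha) h3

/-- A permutation of odd order preserving a set with at most two elements fixes it pointwise. -/
theorem fix_of_card_le_two (g : Perm α) (s : Finset α) (hs : s.card ≤ 2) (hgs : ∀ a ∈ s, g a ∈ s)
    {k : ℕ} (hk : Odd k) (hg : g ^ k = 1) : ∀ a ∈ s, g a = a := by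
  intro a ha
  by_contra hne
  have hb : g a ∈ s := hgs a ha
  have hs2 : s = {a, g a} := by
    symm
    apply Finset.eq_of_subset_of_card_le
    · intro c hc
      rcases Finset.mem_insert.mp hc with rfl | hc
      · exact ha
      · rw [Finset.mem_singleton.mp hc]; exact hb
    · rw [Finset.card_pair (Ne.symm hne)]; exact hs
  have hgb : g (g a) = a := by
    have h1 : g (g a) ∈ s := hgs _ hb
    rw [hs2] at h1
    rcases Finset.mem_insert.mp h1 with h | h
    · exact h
    · exfalso
      have := g.injective (Finset.mem_singleton.mp h)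
      exact hne this
  have := eq_empty_of_swap_odd g {a} {g a} (by simpa using Ne.symm hne)
    (by intro c hc; rw [Finset.mem_singleton.mp hc]; simp)
    (by intro c hc; rw [Finset.mem_singleton.mp hc]; simp [hgb]) hk hg
  simp at this

section orb

/-- The orbit of `a` under the subgroup `D`, as a finset. -/
noncomputable def orb (D : Subgroup (Perm α)) (a : α) : Finset α :=
  haveI := Classical.decPred (fun b => ∃ d ∈ D, d a = b)
  Finset.univ.filter (fun b => ∃ d ∈ D, d a = b)

theorem mem_orb {D : Subgroup (Perm α)} {a b : α} : b ∈ orb D a ↔ ∃ d ∈ D, d a = b := by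
  unfold orb
  simp

theorem self_mem_orb (D : Subgroup (Perm α)) (a : α) : a ∈ orb D a :=
  mem_orb.mpr ⟨1, D.one_mem, rfl⟩

theorem apply_mem_orb {D : Subgroup (Perm α)} {d : Perm α} (hd : d ∈ D) (a : α) : d a ∈ orb D a :=
  mem_orb.mpr ⟨d, hd, rfl⟩

theorem orb_eq_of_mem {D : Subgroup (Perm α)} {a b : α} (h : b ∈ orb D a) : orb D b = orb D a := by
  obtain ⟨d, hd, rfl⟩ := mem_orb.mp h
  ext c
  rw [mem_orb, mem_orb]
  constructor
  · rintro ⟨e, he, rfl⟩
    exact ⟨e * d, D.mul_mem he hd, rfl⟩
  · rintro ⟨e, he, rfl⟩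
    exact ⟨e * d⁻¹, D.mul_mem he (D.inv_mem hd), by simp⟩

theorem orb_disjoint_of_not_mem {D : Subgroup (Perm α)} {a b : α} (h : b ∉ orb D a) :
    Disjoint (orb D a) (orb D b) := by
  rw [Finset.disjoint_left]
  intro c hca hcb
  apply h
  have h1 := orb_eq_of_mem hca
  have h2 := orb_eq_of_mem hcb
  rw [← h1, h2]
  exact self_mem_orb D b

theorem orb_subset {D : Subgroup (Perm α)} {s : Finset α} (hs : ∀ d ∈ D, ∀ a ∈ s, d a ∈ s) {a : α}
    (ha : a ∈ s) : orb D a ⊆ s := by
  intro b hb
  obtain ⟨d, hd, rfl⟩ := mem_orb.mp hb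
  exact hs d hd a ha

theorem orb_mono {K D : Subgroup (Perm α)} (h : K ≤ D) (a : α) : orb K a ⊆ orb D a := by
  intro b hb
  obtain ⟨d, hd, rfl⟩ := mem_orb.mp hb
  exact mem_orb.mpr ⟨d, h hd, rfl⟩

/-- An element normalizing `D` maps `D`-orbits to `D`-orbits. -/
theorem apply_mem_orb_of_normalizes {D : Subgroup (Perm α)} {g : Perm α}
    (hg : g ∈ Subgroup.normalizer (D : Set (Perm α))) {a b : α} (hb : b ∈ orb D a) :
    g b ∈ orb D (g a) := by
  obtain ⟨d, hd, rfl⟩ := mem_orb.mp hb
  refine mem_orb.mpr ⟨g * d * g⁻¹, (Subgroup.mem_normalizer_iff.mp hg d).mp hd, ?_⟩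
  simp

theorem exists_of_mem_orb_apply {D : Subgroup (Perm α)} {g : Perm α}
    (hg : g ∈ Subgroup.normalizer (D : Set (Perm α))) {a c : α} (hc : c ∈ orb D (g a)) :
    ∃ b ∈ orb D a, g b = c := by
  obtain ⟨d, hd, rfl⟩ := mem_orb.mp hc
  refine ⟨(g⁻¹ * d * g) a, mem_orb.mpr ⟨g⁻¹ * d * g, ?_, rfl⟩, by simp⟩
  have := (Subgroup.mem_normalizer_iff.mp (Subgroup.inv_mem _ hg) d).mp hd
  simpa using this

theorem card_orb_apply_of_normalizes {D : Subgroup (Perm α)} {g : Perm α}
    (hg : g ∈ Subgroup.normalizer (D : Set (Perm α))) (a : α) :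
    (orb D (g a)).card = (orb D a).card := by
  have : orb D (g a) = (orb D a).image g := by
    ext c
    rw [Finset.mem_image]
    constructor
    · intro hc
      exact exists_of_mem_orb_apply hg hc
    · rintro ⟨b, hb, rfl⟩
      exact apply_mem_orb_of_normalizes hg hb
  rw [this, Finset.card_image_of_injective _ g.injective]

theorem card_orb_two_pow {D : Subgroup (Perm α)} (hD : IsPGroup 2 D) (a : α) :
    ∃ n : ℕ, (orb D a).card = 2 ^ n := by
  have : Fact (Nat.Prime 2) := ⟨Nat.prime_two⟩
  obtain ⟨n, hn⟩ := hD.card_orbit (α := α) a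
  refine ⟨n, ?_⟩
  rw [← hn]
  have : (MulAction.orbit D a : Set α) = ((orb D a : Finset α) : Set α) := by
    ext b
    rw [Finset.mem_coe, mem_orb, MulAction.mem_orbit_iff]
    constructor
    · rintro ⟨d, rfl⟩
      exact ⟨d, d.2, rfl⟩
    · rintro ⟨d, hd, rfl⟩
      exact ⟨⟨d, hd⟩, rfl⟩
  rw [this]
  simp

end orb

end Cfsg.Agent.Lib.Helper72
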