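import Mathlib
import Cfsg.Agent.Lib.Helper72.PermOrb

/-!
# The subgroup generated by squares, and its orbits (blocks) for a transitive 2-group

Helper lemmas for S4349 (helper72).
-/

set_option autoImplicit false

namespace Cfsg.Agent.Lib.Helper72

open Equiv Equiv.Perm

section general

variable {G : Type*} [Group G]

/-- The subgroup generated by the squares of the elements of `D`. -/
def sqSub (D : Subgroup G) : Subgroup G := Subgroup.closure {y | ∃ d ∈ D, d * d = y}

theorem sqSub_le (D : Subgroup G) : sqSub D ≤ D := by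
  unfold sqSub
  rw [Subgroup.closure_le]
  rintro y ⟨d, hd, rfl⟩
  exact D.mul_mem hd hd

theorem mul_self_mem_sqSub {D : Subgroup G} {d : G} (hd : d ∈ D) : d * d ∈ sqSub D :=
  Subgroup.subset_closure ⟨d, hd, rfl⟩

theorem comm_mem_sqSub {D : Subgroup G} {d e : G} (hd : d ∈ D) (he : e ∈ D) :
    d * e * d⁻¹ * e⁻¹ ∈ sqSub D := by
  have h : d * e * d⁻¹ * e⁻¹ =
      (d * e) * (d * e) * ((e⁻¹ * d⁻¹ * e) * (e⁻¹ * d⁻¹ * e)) * (e⁻¹ * e⁻¹) := by group
  rw [h]
  refine mul_mem (mul_mem (mul_self_mem_sqSub (D.mul_mem hd he)) (mul_self_mem_sqSub ?_))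
    (mul_self_mem_sqSub (D.inv_mem he))
  exact D.mul_mem (D.mul_mem (D.inv_mem he) (D.inv_mem hd)) he

theorem conj_mem_sqSub {D : Subgroup G} {g : G} (hg : ∀ d ∈ D, g * d * g⁻¹ ∈ D) {k : G}
    (hk : k ∈ sqSub D) : g * k * g⁻¹ ∈ sqSub D := by
  unfold sqSub at hk
  induction hk using Subgroup.closure_induction with
  | mem y hy =>
    obtain ⟨d, hd, rfl⟩ := hy
    have : g * (d * d) * g⁻¹ = (g * d * g⁻¹) * (g * d * g⁻¹) := by group
    rw [this]
    exact mul_self_mem_sqSub (hg d hd)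
  | one => simp
  | mul x y _ _ hx hy =>
    have : g * (x * y) * g⁻¹ = (g * x * g⁻¹) * (g * y * g⁻¹) := by group
    rw [this]
    exact mul_mem hx hy
  | inv x _ hx =>
    have : g * x⁻¹ * g⁻¹ = (g * x * g⁻¹)⁻¹ := by group
    rw [this]
    exact inv_mem hx

theorem mem_normalizer_sqSub {D : Subgroup G} {g : G}
    (hg : g ∈ Subgroup.normalizer (D : Set G)) : g ∈ Subgroup.normalizer (sqSub D : Set G) := by
  have h1 : ∀ d ∈ D, g * d * g⁻¹ ∈ D := fun d hd => (Subgroup.mem_normalizer_iff.mp hg d).mp hd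
  have h2 : ∀ d ∈ D, g⁻¹ * d * g⁻¹⁻¹ ∈ D := fun d hd =>
    (Subgroup.mem_normalizer_iff.mp (Subgroup.inv_mem _ hg) d).mp hd
  rw [Subgroup.mem_normalizer_iff]
  intro k
  constructor
  · exact fun hk => conj_mem_sqSub h1 hk
  · intro hk
    have := conj_mem_sqSub h2 hk
    have e : g⁻¹ * (g * k * g⁻¹) * g⁻¹⁻¹ = k := by group
    rwa [e] at this

theorem mem_normalizer_sqSub_of_mem {D : Subgroup G} {d : G} (hd : d ∈ D) :
    d ∈ Subgroup.normalizer (sqSub D : Set G) :=
  mem_normalizer_sqSub (Subgroup.le_normalizer hd)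

end general

variable {α : Type*} [Fintype α] [DecidableEq α]

/-- If `y ∈ D` fixes the block (orbit of the squares subgroup) of `a`, it fixes the block of `d a`. -/
theorem apply_mem_orb_sqSub_of {D : Subgroup (Perm α)} {y d : Perm α} (hy : y ∈ D) (hd : d ∈ D)
    {a : α} (h : y a ∈ orb (sqSub D) a) : y (d a) ∈ orb (sqSub D) (d a) := by
  obtain ⟨k, hk, hka⟩ := mem_orb.mp h
  have hc : d⁻¹ * y * d * y⁻¹ ∈ sqSub D := by
    have := comm_mem_sqSub (D.inv_mem hd) hy
    simpa using this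
  have hconj : d * ((d⁻¹ * y * d * y⁻¹) * k) * d⁻¹ ∈ sqSub D :=
    conj_mem_sqSub (fun e he => D.mul_mem (D.mul_mem hd he) (D.inv_mem hd)) (mul_mem hc hk)
  refine mem_orb.mpr ⟨_, hconj, ?_⟩
  simp only [Perm.coe_mul, Function.comp_apply]
  have e1 : d⁻¹ (d a) = a := by simp
  rw [e1, hka]
  simp

/-- The squares subgroup of a transitive 2-group on at least two points is not transitive. -/
theorem exists_not_mem_orb_sqSub {D : Subgroup (Perm α)} (hD : IsPGroup 2 D) {s : Finset α}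
    (hs : ∀ d ∈ D, ∀ a ∈ s, d a ∈ s) {a : α} (ha : a ∈ s) (htr : ∀ b ∈ s, b ∈ orb D a)
    (hcard : 2 ≤ s.card) : ∃ b ∈ s, b ∉ orb (sqSub D) a := by
  have : Fact (Nat.Prime 2) := ⟨Nat.prime_two⟩
  -- the stabilizer of `a` in `D`
  let H : Subgroup D := MulAction.stabilizer D a
  have hHne : H ≠ ⊤ := by
    intro hH
    obtain ⟨b, hb, hba⟩ : ∃ b ∈ s, b ≠ a := by
      by_contra hcon
      push Not at hcon
      have : s ⊆ {a} := fun b hb => Finset.mem_singleton.mpr (hcon b hb)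
      have := Finset.card_le_card this
      simp at this
      omega
    obtain ⟨d, hd, hda⟩ := mem_orb.mp (htr b hb)
    have : (⟨d, hd⟩ : D) ∈ H := by rw [hH]; trivial
    rw [MulAction.mem_stabilizer_iff] at this
    exact hba (hda.symm.trans this)
  obtain ⟨m, hm⟩ := IsPGroup.iff_card.mp hD
  obtain ⟨j, hj⟩ := IsPGroup.iff_card.mp (hD.to_subgroup H)
  have hjm : j < m := by
    have h1 : Nat.card H < Nat.card D := by
      rcases lt_or_eq_of_le (Subgroup.card_le_card_group H) with h | h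
      · exact h
      · exact absurd ((Subgroup.card_eq_iff_eq_top H).mp h) hHne
    rw [hm, hj] at h1
    exact (Nat.pow_lt_pow_iff_right (by norm_num)).mp h1
  obtain ⟨M0, hM0, hHM⟩ := Sylow.exists_subgroup_card_pow_prime_le 2 (m := m - 1)
    (by rw [hm]; exact pow_dvd_pow 2 (Nat.sub_le m 1)) H hj (by omega)
  have hidx : M0.index = 2 := by
    have h := M0.card_mul_index
    rw [hM0, hm] at h
    have h2 : (2 : ℕ) ^ m = 2 ^ (m - 1) * 2 := by
      rw [← pow_succ]; congr 1; omega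
    rw [h2] at h
    exact Nat.eq_of_mul_eq_mul_left (by positivity) h
  have hsq : sqSub D ≤ M0.map D.subtype := by
    unfold sqSub
    rw [Subgroup.closure_le]
    rintro y ⟨d, hd, rfl⟩
    exact ⟨⟨d, hd⟩ * ⟨d, hd⟩, Subgroup.mul_self_mem_of_index_two hidx _, rfl⟩
  have hM0ne : M0 ≠ ⊤ := by
    intro h
    rw [h, Subgroup.index_top] at hidx
    omega
  obtain ⟨d0, hd0⟩ : ∃ d0 : D, d0 ∉ M0 := by
    by_contra hcon
    push Not at hcon
    exact hM0ne (eq_top_iff.mpr fun x _ => hcon x)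
  refine ⟨(d0 : Perm α) a, hs _ d0.2 a ha, ?_⟩
  intro hmem
  obtain ⟨k, hk, hka⟩ := mem_orb.mp hmem
  obtain ⟨k', hk', hkk⟩ := hsq hk
  apply hd0
  have h1 : k'⁻¹ * d0 ∈ H := by
    rw [MulAction.mem_stabilizer_iff]
    change ((k'⁻¹ * d0 : D) : Perm α) a = a
    have hk'' : (k' : Perm α) = k := hkk
    rw [Subgroup.coe_mul, Subgroup.coe_inv, hk'', Perm.mul_apply, ← hka]
    simp
  have h2 := M0.mul_mem hk' (hHM h1)
  simpa using h2

end Cfsg.Agent.Lib.Helper72
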