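import Cfsg.Agent.Lib.Helper38.RhDefsB

set_option autoImplicit false

namespace Cfsg.Agent.Lib.Helper38.Rh

section fixuAux
variable {K : Type*} [Field K] [Fintype K] {m : ℕ}

/-- `gcd(3θ - 2, q - 1) = 1`: a unit with `s ^ (3θ - 2) = 1` is trivial -/
theorem fixu_pow_sub_two (hK : Fintype.card K = 3 ^ (2 * m + 1)) (s : Kˣ)
    (h : s ^ (3 ^ m * 3 - 2) = 1) : s = 1 := by
  have hq : s ^ (3 ^ (2 * m + 1) - 1) = 1 := by
    classical
    rw [← hK, ← Fintype.card_units]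
    exact pow_card_eq_one
  have hg := pow_gcd_eq_one.mpr ⟨h, hq⟩
  have hθ : 1 ≤ 3 ^ m := Nat.one_le_pow _ _ (by norm_num)
  have hcop : Nat.gcd (3 ^ m * 3 - 2) (3 ^ (2 * m + 1) - 1) = 1 := by
    rw [← Nat.coprime_iff_gcd_eq_one, ← Nat.isCoprime_iff_coprime]
    refine ⟨-(3 * 3 ^ m + 2), 3, ?_⟩
    have h1 : 2 ≤ 3 ^ m * 3 := by omega
    have h2 : 1 ≤ 3 ^ (2 * m + 1) := Nat.one_le_pow _ _ (by norm_num)
    push_cast [Nat.cast_sub h1, Nat.cast_sub h2]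
    ring
  rw [hcop, pow_one] at hg
  exact hg

/-- `gcd(3θ - 1, q - 1) = 2`: a unit with `s ^ (3θ - 1) = 1` has `s ^ 2 = 1` -/
theorem fixu_pow_sub_one (hK : Fintype.card K = 3 ^ (2 * m + 1)) (s : Kˣ)
    (h : s ^ (3 ^ m * 3 - 1) = 1) : s ^ 2 = 1 := by
  have hq : s ^ (3 ^ (2 * m + 1) - 1) = 1 := by
    classical
    rw [← hK, ← Fintype.card_units]
    exact pow_card_eq_one
  have hg := pow_gcd_eq_one.mpr ⟨h, hq⟩
  have hθ : 1 ≤ 3 ^ m := Nat.one_le_pow _ _ (by norm_num)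
  have hdvd : Nat.gcd (3 ^ m * 3 - 1) (3 ^ (2 * m + 1) - 1) ∣ 2 := by
    have h1 : 1 ≤ 3 ^ m * 3 := by omega
    have h2 : 1 ≤ 3 ^ (2 * m + 1) := Nat.one_le_pow _ _ (by norm_num)
    have e : ((2 : ℕ) : ℤ) = (1 + 3 * 3 ^ m) * ((3 ^ m * 3 - 1 : ℕ) : ℤ) - 3 * ((3 ^ (2 * m + 1) - 1 : ℕ) : ℤ) := by
      push_cast [Nat.cast_sub h1, Nat.cast_sub h2]
      ring
    rw [← Int.natCast_dvd_natCast, e]
    apply dvd_sub
    · exact Dvd.dvd.mul_left (Int.natCast_dvd_natCast.mpr (Nat.gcd_dvd_left _ _)) _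
    · exact Dvd.dvd.mul_left (Int.natCast_dvd_natCast.mpr (Nat.gcd_dvd_right _ _)) _
  obtain ⟨c, hc⟩ := hdvd
  rw [hc, pow_mul, hg, one_pow]

/-- the arithmetic core of RH-FIXU -/
theorem fixu_core (hK : Fintype.card K = 3 ^ (2 * m + 1)) (s : Kˣ) (hs : s ≠ 1) (p1 p2 p3 : K) :
    ((s : K) ^ 2 / ((s : K) ^ 3 ^ m) ^ 3 * p1 = p1 ∧ ((s : K) ^ 3 ^ m) ^ 3 / (s : K) * p2 = p2 ∧
        (s : K) * p3 = p3) ↔
      ((p1 = 0 ∧ p2 = 0 ∧ p3 = 0) ∨ (s = -1 ∧ p1 = 0 ∧ p3 = 0)) := by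
  have hx : (s : K) ≠ 0 := s.ne_zero
  have hx1 : (s : K) ≠ 1 := fun h => hs (Units.ext h)
  have ht : ((s : K) ^ 3 ^ m) ^ 3 = (s : K) ^ (3 ^ m * 3) := (pow_mul _ _ _).symm
  have hθ : 1 ≤ 3 ^ m := Nat.one_le_pow _ _ (by norm_num)
  have key1 : (s : K) ^ 2 / ((s : K) ^ 3 ^ m) ^ 3 ≠ 1 := by
    intro h
    apply hs
    apply fixu_pow_sub_two hK
    apply Units.ext
    rw [Units.val_pow_eq_pow_val, Units.val_one]
    rw [ht, div_eq_one_iff_eq (pow_ne_zero _ hx)] at h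
    have h2 : (s : K) ^ (3 ^ m * 3) = (s : K) ^ (3 ^ m * 3 - 2) * (s : K) ^ 2 := by
      have e : 3 ^ m * 3 = (3 ^ m * 3 - 2) + 2 := by omega
      rw [← pow_add (s : K) (3 ^ m * 3 - 2) 2, ← e]
    rw [h2] at h
    have h3 : (s : K) ^ (3 ^ m * 3 - 2) * (s : K) ^ 2 = 1 * (s : K) ^ 2 := by rw [one_mul]; exact h.symm
    exact mul_right_cancel₀ (pow_ne_zero _ hx) h3
  have key2 : ((s : K) ^ 3 ^ m) ^ 3 / (s : K) = 1 → s = -1 := by
    intro h
    rw [ht, div_eq_one_iff_eq hx] at h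
    have h2 : (s : K) ^ (3 ^ m * 3) = (s : K) ^ (3 ^ m * 3 - 1) * (s : K) := by
      have e : 3 ^ m * 3 = (3 ^ m * 3 - 1) + 1 := by omega
      rw [← pow_succ (s : K) (3 ^ m * 3 - 1), ← e]
    rw [h2] at h
    have h3 : (s : K) ^ (3 ^ m * 3 - 1) * (s : K) = 1 * (s : K) := by rw [one_mul]; exact h
    have h4 : (s : K) ^ (3 ^ m * 3 - 1) = 1 := mul_right_cancel₀ hx h3
    have h5 : s ^ 2 = 1 := by
      apply fixu_pow_sub_one hK
      apply Units.ext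
      rw [Units.val_pow_eq_pow_val, Units.val_one]
      exact h4
    have h6 : ((s : K) - 1) * ((s : K) + 1) = 0 := by
      have : (s : K) ^ 2 = 1 := by
        rw [← Units.val_pow_eq_pow_val, h5, Units.val_one]
      linear_combination this
    rcases mul_eq_zero.mp h6 with h7 | h7
    · exact absurd (sub_eq_zero.mp h7) hx1
    · apply Units.ext
      rw [Units.val_neg, Units.val_one]
      linear_combination h7
  have key3 : s = -1 → ((s : K) ^ 3 ^ m) ^ 3 / (s : K) = 1 := by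
    intro h
    rw [ht, h, Units.val_neg, Units.val_one, div_eq_one_iff_eq (by norm_num)]
    have hodd : Odd (3 ^ m * 3) := (Odd.pow (by decide)).mul (by decide)
    exact hodd.neg_one_pow
  constructor
  · rintro ⟨e1, e2, e3⟩
    have hp3 : p3 = 0 := by
      have : ((s : K) - 1) * p3 = 0 := by linear_combination e3
      exact (mul_eq_zero.mp this).resolve_left (sub_ne_zero.mpr hx1)
    have hp1 : p1 = 0 := by
      have : ((s : K) ^ 2 / ((s : K) ^ 3 ^ m) ^ 3 - 1) * p1 = 0 := by linear_combination e1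
      exact (mul_eq_zero.mp this).resolve_left (sub_ne_zero.mpr key1)
    by_cases hp2 : p2 = 0
    · exact Or.inl ⟨hp1, hp2, hp3⟩
    · right
      refine ⟨key2 ?_, hp1, hp3⟩
      have : (((s : K) ^ 3 ^ m) ^ 3 / (s : K) - 1) * p2 = 0 := by linear_combination e2
      exact sub_eq_zero.mp ((mul_eq_zero.mp this).resolve_right hp2)
  · rintro (⟨h1, h2, h3⟩ | ⟨h, h1, h3⟩)
    · rw [h1, h2, h3]; simp
    · rw [h1, h3, key3 h]; simp

end fixuAux

section partB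
open Cfsg.Agent.Lib.Helper12.Rt
variable {K : Type*} [Field K] [Fintype K] {G : Type*} [Group G] {m : ℕ} (D : RtData K G m)

/-- RH-FIXU.  The elements `u p` centralised by `h s`, `s ≠ 1`: only `p = 0`, except for `s = -1` where they are the
`u (0, p₂, 0)`. -/
theorem conj_hu_fixed (s : Kˣ) (hs : s ≠ 1) (p : K × K × K) :
    D.R.h s * D.R.u p * (D.R.h s)⁻¹ = D.R.u p ↔ (p = 0 ∨ (s = -1 ∧ p.1 = 0 ∧ p.2.2 = 0)) := by
  obtain ⟨p1, p2, p3⟩ := p
  rw [D.R.conj_hu]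
  have hcore := fixu_core D.R.hK s hs p1 p2 p3
  constructor
  · intro h
    have h' := D.R.u_inj h
    simp only [Prod.mk.injEq] at h'
    rcases hcore.mp h' with ⟨h1, h2, h3⟩ | ⟨h0, h1, h3⟩
    · left
      rw [h1, h2, h3]
      rfl
    · exact Or.inr ⟨h0, h1, h3⟩
  · intro h
    have h' : (s : K) ^ 2 / ((s : K) ^ 3 ^ m) ^ 3 * p1 = p1 ∧ ((s : K) ^ 3 ^ m) ^ 3 / (s : K) * p2 = p2 ∧
        (s : K) * p3 = p3 := by
      apply hcore.mpr
      rcases h with h | ⟨h0, h1, h3⟩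
      · left
        simp only [Prod.mk_eq_zero] at h
        exact h
      · exact Or.inr ⟨h0, h1, h3⟩
    obtain ⟨e1, e2, e3⟩ := h'
    show D.R.u (_, _, _) = D.R.u (p1, p2, p3)
    rw [e1, e2, e3]

end partB

end Cfsg.Agent.Lib.Helper38.Rh

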