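import Mathlib
import Cfsg.Agent.S0033
import Cfsg.Agent.S0035
import Cfsg.Agent.Lib.Helper21.SupNormalizer

/-!
# A solvable subgroup central in every solvable overgroup is central

Ingredients: Frobenius' theorem (S0035) and Thompson's theorem on fixed-point-free
automorphisms of prime order (S0033).
-/

universe u

namespace Cfsg.Agent.Lib.Helper72

open Subgroup
open scoped Pointwise

section basics

variable {G : Type u} [Group G]

theorem mem_conj_smul_iff72 (g x : G) (M : Subgroup G) :
    x ∈ MulAut.conj g • M ↔ g⁻¹ * x * g ∈ M := by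
  rw [Subgroup.mem_pointwise_smul_iff_inv_smul_mem, MulAut.smul_def, ← map_inv,
    MulAut.conj_apply, inv_inv]

/-- The Frobenius kernel (given as a normal subgroup) is nilpotent. -/
theorem frobenius_kernel_nilpotent72 [Finite G] (H : Subgroup G)
    (hH : Cfsg.IsFrobeniusComplement H) (N : Subgroup G) [hNn : N.Normal]
    (hN : (N : Set G) = Cfsg.frobeniusKernel H) : Group.IsNilpotent ↥N := by
  obtain ⟨hHbot, hHtop, hHfrob⟩ := hH
  -- an element of prime order in `H`
  have hcard : Nat.card ↥H ≠ 1 := by
    intro h
    exact hHbot ((Subgroup.card_eq_one).mp h)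
  obtain ⟨r, hr, hrdvd⟩ := Nat.exists_prime_and_dvd hcard
  have : Fact r.Prime := ⟨hr⟩
  obtain ⟨⟨h, hhH⟩, hord⟩ := exists_prime_orderOf_dvd_card' r hrdvd
  have hord' : orderOf h = r := by
    rw [← hord]
    exact (Subgroup.orderOf_mk h hhH).symm
  have hh1 : h ≠ 1 := by
    intro h1
    rw [h1, orderOf_one] at hord'
    exact hr.one_lt.ne hord'
  -- fixed point freeness
  have hfpf : ∀ n : ↥N, h * (n : G) * h⁻¹ = (n : G) → n = 1 := by
    intro n hn
    have hnker : (n : G) ∈ Cfsg.frobeniusKernel H := by
      rw [← hN]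
      exact n.2
    rcases hnker with h1 | hnot
    · exact Subtype.ext h1
    · exfalso
      have hnH : (n : G) ∉ H := by
        have := hnot 1
        simpa using this
      have hinf := hHfrob (n : G) hnH
      have hmem : h ∈ H ⊓ MulAut.conj (n : G) • H := by
        refine Subgroup.mem_inf.mpr ⟨hhH, ?_⟩
        rw [mem_conj_smul_iff72]
        have : (n : G)⁻¹ * h * (n : G) = h := by
          have h2 : h * (n : G) = (n : G) * h := by
            have := congrArg (fun t => t * h) hn
            simpa [mul_assoc] using this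
          rw [mul_assoc, h2, ← mul_assoc, inv_mul_cancel, one_mul]
        rw [this]
        exact hhH
      rw [hinf, Subgroup.mem_bot] at hmem
      exact hh1 hmem
  let φ : MulAut ↥N := MulAut.conjNormal h
  have hφfpf : MonoidHom.FixedPointFree ((φ : ↥N ≃* ↥N) : ↥N →* ↥N) := by
    intro n hn
    apply hfpf n
    have := congrArg (fun t : ↥N => (t : G)) hn
    simpa [φ] using this
  have hpow : φ ^ r = 1 := by
    change (MulAut.conjNormal h : MulAut ↥N) ^ r = 1
    rw [← map_pow, ← hord', pow_orderOf_eq_one, map_one]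
  have hdvd : orderOf φ ∣ r := orderOf_dvd_of_pow_eq_one hpow
  rcases (Nat.dvd_prime hr).mp hdvd with h1 | h1
  · -- trivial automorphism: `N` is trivial
    have hφ1 : φ = 1 := orderOf_eq_one_iff.mp h1
    have hsub : Subsingleton ↥N := by
      constructor
      intro a b
      have ha : a = 1 := hφfpf a (by rw [hφ1]; rfl)
      have hb : b = 1 := hφfpf b (by rw [hφ1]; rfl)
      rw [ha, hb]
    infer_instance
  · exact Cfsg.Agent.S0033.result φ hφfpf r hr h1

/-- A central extension of a nilpotent normal subgroup of `G ⧸ Z(G)` is nilpotent. -/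
theorem comap_center_nilpotent72 (Nb : Subgroup (G ⧸ center G))
    (hnil : Group.IsNilpotent ↥Nb) :
    Group.IsNilpotent ↥(Nb.comap (QuotientGroup.mk' (center G))) := by
  have := hnil
  apply Subgroup.isNilpotent_of_ker_le_center ((QuotientGroup.mk' (center G)).subgroupComap Nb)
  intro x hx
  rw [MonoidHom.mem_ker] at hx
  have hx' : (QuotientGroup.mk' (center G)) (x : G) = 1 := by
    have := congrArg (fun t : ↥Nb => (t : G ⧸ center G)) hx
    exact this
  have hxc : (x : G) ∈ center G := by
    have h2 : (x : G) ∈ (QuotientGroup.mk' (center G)).ker := MonoidHom.mem_ker.mpr hx'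
    rw [QuotientGroup.ker_mk'] at h2
    exact h2
  rw [Subgroup.mem_center_iff]
  intro y
  apply Subtype.ext
  rw [Subgroup.coe_mul, Subgroup.coe_mul]
  exact (Subgroup.mem_center_iff.mp hxc) (y : G)

end basics

section main

/-- The statement for a given group. -/
def SolvCentralProp (G : Type u) [Group G] : Prop :=
  ∀ A : Subgroup G, Group.IsSolvable A →
    (∀ S : Subgroup G, A ≤ S → Group.IsSolvable S → ∀ a ∈ A, ∀ s ∈ S, a * s = s * a) →
    A ≤ center G

theorem solv_central_main : ∀ (n : ℕ) (G : Type u) [Group G] [Finite G],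
    Nat.card G = n → SolvCentralProp G := by
  intro n
  induction n using Nat.strong_induction_on with
  | _ n ih =>
  intro G _ _ hcard A hA hc
  obtain ⟨M, hMdef⟩ : ∃ M : Subgroup G, M = centralizer (A : Set G) := ⟨_, rfl⟩
  have hmemM : ∀ x : G, x ∈ M ↔ ∀ a ∈ A, a * x = x * a := by
    intro x
    rw [hMdef, mem_centralizer_iff]
    rfl
  by_contra hAZ
  have hMtop : M ≠ ⊤ := by
    intro h
    apply hAZ
    intro a ha
    rw [mem_center_iff]
    intro g
    have hg : g ∈ M := by rw [h]; trivial
    exact ((hmemM g).mp hg a ha).symm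
  have hAM : A ≤ M := by
    intro a ha
    rw [hmemM]
    intro b hb
    exact hc A le_rfl hA b hb a ha
  -- Step 1: every proper overgroup of `A` lies in `M`.
  have hstep : ∀ H : Subgroup G, H ≠ ⊤ → A ≤ H → H ≤ M := by
    intro H hH hAH
    have hlt : Nat.card ↥H < n := by
      rw [← hcard]
      refine lt_of_le_of_ne (Subgroup.card_le_card_group H) ?_
      intro h
      exact hH (Subgroup.eq_top_of_card_eq H h)
    have hsolv : Group.IsSolvable ↥(A.subgroupOf H) := by
      have := hA
      exact Group.isSolvable_of_isSolvable_injective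
        (f := (Subgroup.subgroupOfEquivOfLe hAH).toMonoidHom) (MulEquiv.injective _)
    have hhyp : ∀ S' : Subgroup ↥H, A.subgroupOf H ≤ S' → Group.IsSolvable S' →
        ∀ a ∈ A.subgroupOf H, ∀ s ∈ S', a * s = s * a := by
      intro S' hAS' hS' a' ha' s' hs'
      have hAS : A ≤ S'.map H.subtype := by
        intro a ha
        exact ⟨⟨a, hAH ha⟩, hAS' (mem_subgroupOf.mpr ha), rfl⟩
      have hSsolv : Group.IsSolvable ↥(S'.map H.subtype) := by
        have := hS'
        exact Group.isSolvable_of_surjective
          (f := (Subgroup.equivMapOfInjective S' H.subtype H.subtype_injective).toMonoidHom)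
          (MulEquiv.surjective _)
      have := hc _ hAS hSsolv (a' : G) (mem_subgroupOf.mp ha') (s' : G) ⟨s', hs', rfl⟩
      apply Subtype.ext
      rw [Subgroup.coe_mul, Subgroup.coe_mul]
      exact this
    have hcen := ih _ hlt ↥H rfl (A.subgroupOf H) hsolv hhyp
    intro h hh
    rw [hmemM]
    intro a ha
    have hmem : (⟨a, hAH ha⟩ : ↥H) ∈ A.subgroupOf H := by
      rw [mem_subgroupOf]
      exact ha
    have hz := hcen hmem
    rw [mem_center_iff] at hz
    have := hz ⟨h, hh⟩
    have h2 := congrArg (fun t : ↥H => (t : G)) this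
    simp only [Subgroup.coe_mul] at h2
    exact h2.symm
  -- Step 2: for `g ∉ M`, `A` and its conjugate by `g` generate `G`.
  have hconj : ∀ g : G, g ∉ M → A ⊔ MulAut.conj g • A = ⊤ := by
    intro g hg
    by_contra hT
    have hTM := hstep _ hT le_sup_left
    have hAgM : MulAut.conj g • A ≤ M := le_sup_right.trans hTM
    have hAM' : A ≤ MulAut.conj g • M := by
      intro a ha
      rw [mem_conj_smul_iff72, hmemM]
      intro b hb
      have h1 : g * b * g⁻¹ ∈ MulAut.conj g • A := by
        rw [mem_conj_smul_iff72]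
        have : g⁻¹ * (g * b * g⁻¹) * g = b := by group
        rw [this]
        exact hb
      have h2 := (hmemM _).mp (hAgM h1) a ha
      calc b * (g⁻¹ * a * g) = g⁻¹ * ((g * b * g⁻¹) * a) * g := by group
        _ = g⁻¹ * (a * (g * b * g⁻¹)) * g := by rw [h2]
        _ = g⁻¹ * a * g * b := by group
    have hcardM' : Nat.card ↥(MulAut.conj g • M) = Nat.card ↥M :=
      (Nat.card_congr (Subgroup.equivSMul (MulAut.conj g) M).toEquiv).symm
    have hM'top : MulAut.conj g • M ≠ ⊤ := by
      intro h
      apply hMtop
      apply Subgroup.eq_top_of_card_eq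
      rw [← hcardM', h, Subgroup.card_top]
    have hM'M : MulAut.conj g • M ≤ M := hstep _ hM'top hAM'
    have hM'eq : MulAut.conj g • M = M :=
      Subgroup.eq_of_le_of_card_ge hM'M (le_of_eq hcardM'.symm)
    have hgN : g ∈ normalizer (M : Set G) := by
      rw [mem_normalizer_iff]
      intro x
      constructor
      · intro hx
        rw [← hM'eq, mem_conj_smul_iff72]
        have : g⁻¹ * (g * x * g⁻¹) * g = x := by group
        rw [this]
        exact hx
      · intro hx
        rw [← hM'eq, mem_conj_smul_iff72] at hx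
        have : g⁻¹ * (g * x * g⁻¹) * g = x := by group
        rw [this] at hx
        exact hx
    by_cases hNn : normalizer (M : Set G) = ⊤
    · have hMn : M.Normal := normalizer_eq_top_iff.mp hNn
      obtain ⟨D, hD⟩ : ∃ D : Subgroup G, D = M ⊓ centralizer (M : Set G) := ⟨_, rfl⟩
      have hDn : D.Normal := by
        rw [hD]
        infer_instance
      have hAD : A ≤ D := by
        rw [hD]
        refine le_inf hAM ?_
        intro a ha
        rw [mem_centralizer_iff]
        intro m hm
        exact ((hmemM m).mp hm a ha).symm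
      have hDsolv : Group.IsSolvable ↥D := by
        apply Group.isSolvable_of_comm
        intro x y
        apply Subtype.ext
        rw [Subgroup.coe_mul, Subgroup.coe_mul]
        have hx : (x : G) ∈ M ⊓ centralizer (M : Set G) := by
          rw [← hD]
          exact x.2
        have hy : (y : G) ∈ M ⊓ centralizer (M : Set G) := by
          rw [← hD]
          exact y.2
        have hy2 := (mem_inf.mp hy).2
        rw [mem_centralizer_iff] at hy2
        exact hy2 (x : G) (mem_inf.mp hx).1
      apply hMtop
      rw [eq_top_iff]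
      intro x _
      have hzs : Group.IsSolvable ↥(zpowers x) := by
        apply Group.isSolvable_of_comm
        rintro ⟨u, hu⟩ ⟨v, hv⟩
        apply Subtype.ext
        rw [Subgroup.coe_mul, Subgroup.coe_mul]
        obtain ⟨i, rfl⟩ := mem_zpowers_iff.mp hu
        obtain ⟨k, rfl⟩ := mem_zpowers_iff.mp hv
        change x ^ i * x ^ k = x ^ k * x ^ i
        rw [← zpow_add, ← zpow_add, add_comm]
      have hS : Group.IsSolvable ↥(D ⊔ zpowers x) :=
        Cfsg.Agent.Lib.Helper21.sup_isSolvable (X := D) (Y := zpowers x)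
          (by rw [normalizer_eq_top]; exact le_top) hDsolv hzs
      rw [hmemM]
      intro a ha
      exact hc _ (hAD.trans le_sup_left) hS a ha x (le_sup_right (α := Subgroup G) (mem_zpowers x))
    · have := hstep _ hNn (hAM.trans le_normalizer)
      exact hg (this hgN)
  -- Step 3: `M ∩ M^g ≤ Z(G)` for `g ∉ M`.
  have hfrob : ∀ g : G, g ∉ M → M ⊓ MulAut.conj g • M ≤ center G := by
    intro g hg x hx
    obtain ⟨hx1, hx2⟩ := mem_inf.mp hx
    have hT := hconj g hg
    have hle : A ⊔ MulAut.conj g • A ≤ centralizer ({x} : Set G) := by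
      refine sup_le ?_ ?_
      · intro a ha
        rw [mem_centralizer_iff]
        intro h hh
        rw [Set.mem_singleton_iff] at hh
        subst hh
        exact ((hmemM _).mp hx1 a ha).symm
      · intro b hb
        rw [mem_centralizer_iff]
        intro h hh
        rw [Set.mem_singleton_iff] at hh
        subst hh
        rw [mem_conj_smul_iff72] at hb hx2
        have h3 := (hmemM _).mp hx2 _ hb
        calc h * b = g * ((g⁻¹ * h * g) * (g⁻¹ * b * g)) * g⁻¹ := by group
          _ = g * ((g⁻¹ * b * g) * (g⁻¹ * h * g)) * g⁻¹ := by rw [h3]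
          _ = b * h := by group
    rw [mem_center_iff]
    intro y
    have hy : y ∈ centralizer ({x} : Set G) := by
      apply hle
      rw [hT]
      trivial
    rw [mem_centralizer_iff] at hy
    exact (hy x (Set.mem_singleton x)).symm
  -- Step 4: `M / Z(G)` is a Frobenius complement in `G / Z(G)`.
  have hZM : center G ≤ M := by
    rw [hMdef]
    exact center_le_centralizer _
  have hMb : Cfsg.IsFrobeniusComplement (M.map (QuotientGroup.mk' (center G))) := by
    refine ⟨?_, ?_, ?_⟩
    · intro h
      apply hAZ
      have h1 := (Subgroup.map_eq_bot_iff _).mp h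
      rw [QuotientGroup.ker_mk'] at h1
      exact hAM.trans h1
    · intro h
      apply hMtop
      rw [eq_top_iff]
      intro g _
      have hg : (QuotientGroup.mk' (center G)) g ∈ M.map (QuotientGroup.mk' (center G)) := by
        rw [h]
        trivial
      obtain ⟨m, hm, hmg⟩ := mem_map.mp hg
      have h2 : m⁻¹ * g ∈ center G := by
        have := (QuotientGroup.eq (s := center G) (a := m) (b := g)).mp hmg
        exact this
      have : g = m * (m⁻¹ * g) := by group
      rw [this]
      exact mul_mem hm (hZM h2)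
    · intro gb hgb
      obtain ⟨g, rfl⟩ := QuotientGroup.mk'_surjective (center G) gb
      have hg : g ∉ M := fun h => hgb (mem_map_of_mem _ h)
      rw [eq_bot_iff]
      intro xb hxb
      obtain ⟨h1, h2⟩ := mem_inf.mp hxb
      obtain ⟨m1, hm1, rfl⟩ := mem_map.mp h1
      rw [mem_conj_smul_iff72] at h2
      obtain ⟨m2, hm2, h2'⟩ := mem_map.mp h2
      have h3 : (QuotientGroup.mk' (center G)) m2 =
          (QuotientGroup.mk' (center G)) (g⁻¹ * m1 * g) := by
        rw [h2', map_mul, map_mul, map_inv]
      have h4 : m2⁻¹ * (g⁻¹ * m1 * g) ∈ center G :=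
        (QuotientGroup.eq (s := center G) (a := m2) (b := g⁻¹ * m1 * g)).mp h3
      have h5 : g⁻¹ * m1 * g ∈ M := by
        have : g⁻¹ * m1 * g = m2 * (m2⁻¹ * (g⁻¹ * m1 * g)) := by group
        rw [this]
        exact mul_mem hm2 (hZM h4)
      have h6 : m1 ∈ M ⊓ MulAut.conj g • M := by
        refine mem_inf.mpr ⟨hm1, ?_⟩
        rw [mem_conj_smul_iff72]
        exact h5
      have h7 := hfrob g hg h6
      rw [mem_bot]
      have h8 : m1 ∈ (QuotientGroup.mk' (center G)).ker := by
        rw [QuotientGroup.ker_mk']
        exact h7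
      exact MonoidHom.mem_ker.mp h8
  -- Step 5: Frobenius + Thompson.
  obtain ⟨Nb, hNbker, hNbn, hNbcomp⟩ := Cfsg.Agent.S0035.result _ hMb
  have hNbnil := frobenius_kernel_nilpotent72 _ hMb Nb hNbker
  have hNnil := comap_center_nilpotent72 Nb hNbnil
  have hNn : (Nb.comap (QuotientGroup.mk' (center G))).Normal := hNbn.comap _
  have hNsolv : Group.IsSolvable ↥(Nb.comap (QuotientGroup.mk' (center G))) :=
    IsNilpotent.to_isSolvable
  have hNA : Group.IsSolvable ↥(Nb.comap (QuotientGroup.mk' (center G)) ⊔ A) :=
    Cfsg.Agent.Lib.Helper21.sup_isSolvable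
      (by rw [normalizer_eq_top]; exact le_top) hNsolv hA
  have hNM : Nb.comap (QuotientGroup.mk' (center G)) ≤ M := by
    intro x hx
    rw [hmemM]
    intro a ha
    exact hc _ le_sup_right hNA a ha x (le_sup_left (α := Subgroup G) hx)
  apply hMtop
  rw [eq_top_iff]
  intro g _
  obtain ⟨⟨⟨nb, hnb⟩, ⟨mb, hmb⟩⟩, hprod⟩ := hNbcomp.2 ((QuotientGroup.mk' (center G)) g)
  obtain ⟨m, hm, rfl⟩ := mem_map.mp hmb
  have hprod' : nb * (QuotientGroup.mk' (center G)) m = (QuotientGroup.mk' (center G)) g :=
    hprod
  have h1 : (QuotientGroup.mk' (center G)) (g * m⁻¹) = nb := by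
    rw [map_mul, map_inv, ← hprod', mul_inv_cancel_right]
  have h2 : g * m⁻¹ ∈ Nb.comap (QuotientGroup.mk' (center G)) := by
    rw [mem_comap, h1]
    exact hnb
  have : g = (g * m⁻¹) * m := by group
  rw [this]
  exact mul_mem (hNM h2) hm

end main

end Cfsg.Agent.Lib.Helper72
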