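import Mathlib
import Cfsg.Agent.Lib.Helper20.SqCore
import Cfsg.Agent.Lib.Helper36.ChevTwGroup

/-! # Sq hive (helper20, S4625): generic core for the twisted groups `³D₄`, `²E₆` in characteristic 2 (helper72)

`U¹ = U ⊓ G¹` (the `σ`-fixed points of `U`) is generated by the `σ`-fixed points of the orbit root subgroups `X_B`,
and these are products of pairwise commuting root elements, hence involutions in characteristic 2. -/

set_option autoImplicit false

namespace Cfsg.Agent.Lib.Helper20.Sq

open Cfsg Cfsg.Lie Cfsg.Agent.Lib.Helper36 Cfsg.Agent.Lib.Helper18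

/-- a product of pairwise commuting elements of order dividing 2 has order dividing 2 -/
theorem sq3d4_list_prod_sq {M : Type*} [Group M] (L : List M) (hc : L.Pairwise Commute)
    (h2 : ∀ x ∈ L, x ^ 2 = 1) : L.prod ^ 2 = 1 := by
  induction L with
  | nil => simp
  | cons x L ih =>
    rw [List.pairwise_cons] at hc
    rw [List.prod_cons]
    have hx : Commute x L.prod := Commute.list_prod_right _ _ (fun y hy => hc.1 y hy)
    rw [hx.mul_pow, h2 x List.mem_cons_self,
      ih hc.2 (fun y hy => h2 y (List.mem_cons_of_mem _ hy)), one_mul]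

section
variable (D : ChevalleyDatum) (hD : D ∈ [chevG2, chevB2, chevD4, chevF4, chevE6, chevE7, chevE8])
variable (G : GraphTab) (hG : GraphOK D G) (orbs fund : List (List ℕ))
variable (F : Type*) [Field F] (φ : F →+* F)

/-- root elements are involutions in characteristic 2 -/
theorem sq3d4_xGL_sq [CharP F 2] (r : ℕ) (t : F) : xGL D hD F r t ^ 2 = 1 := by
  rw [pow_two, ← Cfsg.Agent.Lib.Helper36.xGL_add, CharTwo.add_self_eq_zero, Cfsg.Agent.Lib.Helper36.xGL_zero]

include hD in
/-- the `σ`-fixed points of an orbit root subgroup are involutions in characteristic 2 -/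
theorem sq3d4_fixed_sq [Fintype F] [CharP F 2] (hchk : chkOrb D G orbs = true) (B : List ℕ) (hB : B ∈ orbs)
    (g : GL D.Idx F) (hg : g ∈ XB D hD F B) (hσ : sigma D G hG F φ g = g) : g ^ 2 = 1 := by
  obtain ⟨hk, hb⟩ := chkOrb_spec D G orbs hchk
  obtain ⟨hnd, -, -, -⟩ := chkKeyOrd_spec D _ hk
  have hndB : B.Nodup := (List.nodup_flatten.1 hnd).1 B hB
  have hcomm : B.Pairwise fun r s => ∀ t u : F, Commute (xGL D hD F r t) (xGL D hD F s u) := by
    refine hndB.pairwise_of_forall_ne ?_
    intro r hr s hs hne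
    exact (so_of_chk D hD F r s ((hb B hB).2.1 r hr s hs hne)).xx
  obtain ⟨a, -, rfl⟩ := XB_fixed_eq_word D hD G hG orbs F φ hchk B hB g hg hσ
  unfold wordGL
  apply sq3d4_list_prod_sq
  · rw [List.map_map, List.pairwise_map]
    exact hcomm.imp (fun h => h _ _)
  · intro x hx
    obtain ⟨p, -, rfl⟩ := List.mem_map.1 hx
    exact sq3d4_xGL_sq D hD F p.1 p.2

include hD in
/-- orbit root subgroups lie in `U` -/
theorem sq3d4_XB_le_pos (hchk : chkOrb D G orbs = true) (B : List ℕ) (hB : B ∈ orbs) :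
    XB D hD F B ≤ D.posUnipotent F := by
  obtain ⟨hk, -⟩ := chkOrb_spec D G orbs hchk
  obtain ⟨-, -, hpos, -⟩ := chkKeyOrd_spec D _ hk
  unfold XB
  rw [Subgroup.closure_le]
  rintro x ⟨s, hs, a, rfl⟩
  have hs' : D.IsPosRoot s := (hpos s).2 (List.mem_flatten.2 ⟨B, hB, hs⟩)
  exact Subgroup.subset_closure ⟨s, a, hs', rfl⟩

include hD hG in
/-- **generic core**: in characteristic 2 the squares of the elements of `U¹ = U ⊓ G¹` lie in `[U¹, U¹]` -/
theorem sq3d4_sqG_tw [Fintype F] [CharP F 2] (hchk : chkOrb D G orbs = true) (hf : chkFund D G orbs fund = true)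
    (steps : List (List ℕ × List ℕ × List ℕ)) (hreach : chkReach2 D orbs fund steps = true) :
    SqG ↥(D.posUnipotent F ⊓ twGroup D hD G F φ fund) := by
  apply sq_of_closure_involutions _
    {g : GL D.Idx F | ∃ B ∈ orbs, g ∈ XB D hD F B ∧ sigma D G hG F φ g = g}
  · apply le_antisymm
    · rw [Subgroup.closure_le]
      rintro g ⟨B, hB, hg, hσ⟩
      have hpos : g ∈ D.posUnipotent F := sq3d4_XB_le_pos D hD G orbs F hchk B hB hg
      exact ⟨hpos, posFixed_mem D hD G hG orbs fund F φ hchk hf steps hreach g hpos hσ⟩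
    · rintro u ⟨hu, hut⟩
      have hσ : sigma D G hG F φ u = u := sigma_twGroup D hD G hG orbs fund F φ hchk hf u hut
      refine posFixed_le D hD G hG orbs F φ hchk _ ?_ u hu hσ
      intro B hB g hg hgσ
      exact Subgroup.subset_closure ⟨B, hB, hg, hgσ⟩
  · rintro s ⟨B, hB, hs, hσ⟩
    exact sq3d4_fixed_sq D hD G hG orbs F φ hchk B hB s hs hσ

end

end Cfsg.Agent.Lib.Helper20.Sq
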