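import Mathlib
import Cfsg.Prelude.Def_LieTypeChar
import Cfsg.Agent.Lib.Helper20.SqCore
import Cfsg.Agent.Lib.Helper72.Sq3D4core
import Cfsg.Agent.Lib.Helper36.ChevTwOrdE6
import Cfsg.Agent.S1066

/-! # Sq hive (helper20, S4625), leaf SQ-2E6 (helper72): a Sylow 2-subgroup `U¹ = U ⊓ ²E₆(q)` of `²E₆(q)`, `q` even,
has all squares in its derived subgroup. -/

set_option autoImplicit false

namespace Cfsg.Agent.Lib.Helper20.Sq

open Cfsg Cfsg.Lie Cfsg.Agent.Lib.Helper36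

/-- `q` is a power of 2 -/
theorem sq2e6_two_pow {K : Type*} [Field K] [Fintype K] [CharP K 2] (q d : ℕ) (hd : d ≠ 0)
    (hK : Fintype.card K = q ^ d) : ∃ k : ℕ, q = 2 ^ k := by
  obtain ⟨n, -, hn⟩ := FiniteField.card K 2
  have hdvd : q ∣ 2 ^ (n : ℕ) := by
    rw [← hn, hK]
    exact dvd_pow_self q hd
  obtain ⟨m, -, hm⟩ := (Nat.dvd_prime_pow Nat.prime_two).1 hdvd
  exact ⟨m, hm⟩

/-- the 2-part of `N` from `d * N = 2 ^ e * m` with `d`, `m` odd -/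
theorem sq2e6_factorization (d N e m : ℕ) (hd : ¬ 2 ∣ d) (hm : ¬ 2 ∣ m) (h : d * N = 2 ^ e * m) :
    N.factorization 2 = e := by
  have hd0 : d ≠ 0 := by rintro rfl; exact hd (dvd_zero 2)
  have hm0 : m ≠ 0 := by rintro rfl; exact hm (dvd_zero 2)
  have hN0 : N ≠ 0 := by
    rintro rfl
    rw [mul_zero] at h
    exact (Nat.mul_ne_zero (pow_ne_zero e two_ne_zero) hm0) h.symm
  have h1 : (d * N).factorization 2 = (2 ^ e * m).factorization 2 := by rw [h]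
  rw [Nat.factorization_mul hd0 hN0, Nat.factorization_mul (pow_ne_zero e two_ne_zero) hm0,
    Nat.factorization_pow] at h1
  simp only [Finsupp.coe_add, Pi.add_apply, Finsupp.coe_smul, Pi.smul_apply, smul_eq_mul] at h1
  rw [Nat.factorization_eq_zero_of_not_dvd hd, Nat.factorization_eq_zero_of_not_dvd hm,
    Nat.Prime.factorization_self Nat.prime_two] at h1
  omega

/-- the odd cofactor of `gcd(3,q+1) |²E₆(q)|` -/
theorem sq2e6_odd (q : ℕ) (hq : Even q) (h1 : 1 ≤ q) :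
    ¬ 2 ∣ (q ^ 2 - 1) * (q ^ 5 + 1) * (q ^ 6 - 1) * (q ^ 8 - 1) * (q ^ 9 + 1) * (q ^ 12 - 1) := by
  have ev : ∀ n : ℕ, n ≠ 0 → Even (q ^ n) := fun n hn => Nat.even_pow.2 ⟨hq, hn⟩
  have om : ∀ n : ℕ, n ≠ 0 → Odd (q ^ n - 1) := fun n hn =>
    Nat.Even.sub_odd (Nat.one_le_pow _ _ h1) (ev n hn) odd_one
  have op : ∀ n : ℕ, n ≠ 0 → Odd (q ^ n + 1) := fun n hn => (ev n hn).add_one
  have := ((((om 2 (by norm_num)).mul (op 5 (by norm_num))).mul (om 6 (by norm_num))).mul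
    (om 8 (by norm_num))).mul (op 9 (by norm_num)) |>.mul (om 12 (by norm_num))
  rw [Nat.two_dvd_ne_zero]
  exact Nat.odd_iff.1 this

/-- SQ-2E6. Twisted root groups are of type `A_1(q)`, `A_1(q^2)` only: all elementary abelian, so `U¹` is generated by
involutions; `|U¹| = q^36`, order S1066. -/
theorem sq_2e6 (K : Type) [Field K] [Fintype K] [CharP K 2] (q : ℕ) (hq : IsPrimePow q)
    (hK : Fintype.card K = q ^ 2) : SqD ↥(Cfsg.Lie.twistedE6 K q) := by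
  obtain ⟨φ, hφ, hfix, h2⟩ := frob_facts hq 2 hK
  have heq := twistedE6_eq K q φ hφ hK
  obtain ⟨k, rfl⟩ := sq2e6_two_pow (K := K) q 2 (by norm_num) hK
  have hk : k ≠ 0 := by
    rintro rfl
    exact absurd hq.one_lt (by norm_num)
  have hSq : SqG ↥(chevE6.posUnipotent K ⊓ Cfsg.Lie.twistedE6 K (2 ^ k)) := by
    rw [heq]
    exact sq3d4_sqG_tw chevE6 hE6 graphE6 twOK_E6.hG orbsE6 fundE6 K φ chkOrb_E6 chkFund_E6 stepsE6
      chkReach2_E6
  have hcard : Nat.card ↥(chevE6.posUnipotent K ⊓ Cfsg.Lie.twistedE6 K (2 ^ k)) = (2 ^ k) ^ 36 := by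
    rw [heq]
    exact card_pos_tw chevE6 hE6 graphE6 orbsE6 fundE6 stepsE6 twOK_E6 2 chkFundC_E6 K φ chkSgn_E6 (2 ^ k)
      hfix hK h2
  have hle : chevE6.posUnipotent K ⊓ Cfsg.Lie.twistedE6 K (2 ^ k) ≤ Cfsg.Lie.twistedE6 K (2 ^ k) :=
    inf_le_right
  have e := Subgroup.subgroupOfEquivOfLe hle
  have heven : Even (2 ^ k) := Nat.even_pow.2 ⟨even_two, hk⟩
  have hgcd : ¬ 2 ∣ Nat.gcd 3 (2 ^ k + 1) := by
    intro h
    have h3 : (2 : ℕ) ∣ 3 := h.trans (Nat.gcd_dvd_left _ _)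
    omega
  have hfac : (Nat.card ↥(Cfsg.Lie.twistedE6 K (2 ^ k))).factorization 2 = k * 36 := by
    apply sq2e6_factorization (Nat.gcd 3 (2 ^ k + 1)) _ (k * 36) _ hgcd
      (sq2e6_odd (2 ^ k) heven Nat.one_le_two_pow)
    rw [Cfsg.Agent.S1066.result hq hK, pow_mul]
    ring
  apply sqD_of_card
    ((chevE6.posUnipotent K ⊓ Cfsg.Lie.twistedE6 K (2 ^ k)).subgroupOf (Cfsg.Lie.twistedE6 K (2 ^ k)))
  · rw [Nat.card_congr e.toEquiv, hcard, hfac, pow_mul]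
  · exact sqG_of_mulEquiv e.symm hSq

end Cfsg.Agent.Lib.Helper20.Sq
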