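import Mathlib
import Cfsg.Prelude.Def_LieTypeChar
import Cfsg.Agent.Lib.Helper20.SqCore
import Cfsg.Agent.Lib.Helper72.Sq3D4core
import Cfsg.Agent.Lib.Helper36.ChevTwOrdD4
import Cfsg.Agent.S1067

/-! # Sq hive (helper20, S4625), leaf SQ-3D4 (helper72): a Sylow 2-subgroup `U¹ = U ⊓ ³D₄(q)` of `³D₄(q)`, `q` even,
has all squares in its derived subgroup. -/

set_option autoImplicit false

namespace Cfsg.Agent.Lib.Helper20.Sq

open Cfsg Cfsg.Lie Cfsg.Agent.Lib.Helper36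

/-- `q` is a power of 2 -/
theorem sq3d4_two_pow {K : Type*} [Field K] [Fintype K] [CharP K 2] (q d : ℕ) (hd : d ≠ 0)
    (hK : Fintype.card K = q ^ d) : ∃ k : ℕ, q = 2 ^ k := by
  obtain ⟨n, -, hn⟩ := FiniteField.card K 2
  have hdvd : q ∣ 2 ^ (n : ℕ) := by
    rw [← hn, hK]
    exact dvd_pow_self q hd
  obtain ⟨m, -, hm⟩ := (Nat.dvd_prime_pow Nat.prime_two).1 hdvd
  exact ⟨m, hm⟩

/-- the odd cofactor of `|³D₄(q)|` -/
theorem sq3d4_odd (q : ℕ) (hq : Even q) (h1 : 1 ≤ q) :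
    ¬ 2 ∣ (q ^ 2 - 1) * (q ^ 6 - 1) * (q ^ 8 + q ^ 4 + 1) := by
  have e2 : Even (q ^ 2) := Nat.even_pow.2 ⟨hq, by norm_num⟩
  have e6 : Even (q ^ 6) := Nat.even_pow.2 ⟨hq, by norm_num⟩
  have e8 : Even (q ^ 8) := Nat.even_pow.2 ⟨hq, by norm_num⟩
  have e4 : Even (q ^ 4) := Nat.even_pow.2 ⟨hq, by norm_num⟩
  have o1 : Odd (q ^ 2 - 1) := Nat.Even.sub_odd (Nat.one_le_pow _ _ h1) e2 odd_one
  have o2 : Odd (q ^ 6 - 1) := Nat.Even.sub_odd (Nat.one_le_pow _ _ h1) e6 odd_one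
  have o3 : Odd (q ^ 8 + q ^ 4 + 1) := (e8.add e4).add_one
  have := (o1.mul o2).mul o3
  rw [Nat.two_dvd_ne_zero]
  exact Nat.odd_iff.1 this

/-- SQ-3D4. Twisted root groups of type `A_1(q)`, `A_1(q^3)`: elementary abelian; `|U¹| = q^12`, order S1067. -/
theorem sq_3d4 (K : Type) [Field K] [Fintype K] [CharP K 2] (q : ℕ) (hq : IsPrimePow q)
    (hK : Fintype.card K = q ^ 3) : SqD ↥(Cfsg.Lie.twistedD4 K q) := by
  obtain ⟨φ, hφ, hfix, h3⟩ := frob_facts hq 3 hK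
  have heq := twistedD4_eq K q φ hφ hK
  obtain ⟨k, rfl⟩ := sq3d4_two_pow (K := K) q 3 (by norm_num) hK
  have hk : k ≠ 0 := by
    rintro rfl
    exact absurd hq.one_lt (by norm_num)
  have hSq : SqG ↥(chevD4.posUnipotent K ⊓ Cfsg.Lie.twistedD4 K (2 ^ k)) := by
    rw [heq]
    exact sq3d4_sqG_tw chevD4 hD4 graphD4 twOK_D4.hG orbsD4 fundD4 K φ chkOrb_D4 chkFund_D4 stepsD4
      chkReach2_D4
  have hcard : Nat.card ↥(chevD4.posUnipotent K ⊓ Cfsg.Lie.twistedD4 K (2 ^ k)) = (2 ^ k) ^ 12 := by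
    rw [heq]
    exact card_pos_tw chevD4 hD4 graphD4 orbsD4 fundD4 stepsD4 twOK_D4 3 chkFundC_D4 K φ chkSgn_D4 (2 ^ k)
      hfix hK h3
  have hle : chevD4.posUnipotent K ⊓ Cfsg.Lie.twistedD4 K (2 ^ k) ≤ Cfsg.Lie.twistedD4 K (2 ^ k) :=
    inf_le_right
  have e := Subgroup.subgroupOfEquivOfLe hle
  apply sqD_of_card_mul
    ((chevD4.posUnipotent K ⊓ Cfsg.Lie.twistedD4 K (2 ^ k)).subgroupOf (Cfsg.Lie.twistedD4 K (2 ^ k)))
    (k := k * 12) (m := ((2 ^ k) ^ 2 - 1) * ((2 ^ k) ^ 6 - 1) * ((2 ^ k) ^ 8 + (2 ^ k) ^ 4 + 1))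
  · exact sq3d4_odd (2 ^ k) (Nat.even_pow.2 ⟨even_two, hk⟩) (Nat.one_le_two_pow)
  · rw [Cfsg.Agent.S1067.result hq hK, pow_mul]
    ring
  · rw [Nat.card_congr e.toEquiv, hcard, pow_mul]
  · exact sqG_of_mulEquiv e.symm hSq

end Cfsg.Agent.Lib.Helper20.Sq
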