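import Mathlib
import Cfsg.Prelude.Def_LieTypeChar
import Cfsg.Agent.Lib.Helper20.SqCore
import Cfsg.Agent.Lib.Helper36.ChevGL
import Cfsg.Agent.S2326

/-! # Sq hive (helper20, S4625), leaves SQ-G2, SQ-F4, SQ-E6, SQ-E7, SQ-E8 (helper72)

One generic lemma over the Chevalley datum: `U = posUnipotent` is a Sylow 2-subgroup (S2326), it is generated by the
positive root elements, and in characteristic 2 every root element is an involution (`x_r(t)^2 = x_r(2t) = 1`). -/

set_option autoImplicit false

namespace Cfsg.Agent.Lib.Helper20.Sq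

open Cfsg Cfsg.Lie

/-- a group generated by elements of order dividing 2 has all squares in its commutator subgroup -/
theorem sqchev_sq_mem_commutator_of_closure {U : Type*} [Group U] (S : Set U)
    (hS : Subgroup.closure S = ⊤) (h2 : ∀ s ∈ S, s ^ 2 = 1) :
    ∀ x : U, x ^ 2 ∈ commutator U := by
  intro x
  have hx : x ∈ Subgroup.closure S := by rw [hS]; trivial
  rw [← Abelianization.ker_of (G := U), MonoidHom.mem_ker, map_pow]
  induction hx using Subgroup.closure_induction with
  | mem y hy => rw [← map_pow, h2 y hy, map_one]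
  | one => simp
  | mul y z _ _ ihy ihz => rw [map_mul, mul_pow, ihy, ihz, one_mul]
  | inv y _ ih => rw [map_inv, inv_pow, ih, inv_one]

/-- transport of the property along an isomorphism -/
theorem sqchev_transport {A B : Type*} [Group A] [Group B] (e : A ≃* B)
    (h : ∀ x : B, x ^ 2 ∈ commutator B) : ∀ x : A, x ^ 2 ∈ commutator A := by
  intro x
  have hle : commutator B ≤ (commutator A).comap e.symm.toMonoidHom := by
    rw [commutator_def, Subgroup.commutator_le]
    intro g1 _ g2 _
    rw [Subgroup.mem_comap, map_commutatorElement]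
    exact Subgroup.commutator_mem_commutator (Subgroup.mem_top _) (Subgroup.mem_top _)
  have := hle (h (e x))
  rw [Subgroup.mem_comap] at this
  simpa using this

section

variable (D : ChevalleyDatum) (hD : D ∈ [chevG2, chevB2, chevD4, chevF4, chevE6, chevE7, chevE8])

include hD in
/-- root elements are involutions in characteristic 2 -/
theorem sqchev_root_sq {F : Type*} [Field F] [CharP F 2] (g : GL D.Idx F) (r : ℕ) (t : F)
    (hg : (g : Matrix D.Idx D.Idx F) = D.x F r t) : g ^ 2 = 1 := by
  apply Units.ext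
  rw [pow_two, Units.val_mul, hg, Cfsg.Agent.Lib.Helper36.x_add' D hD, Units.val_one]
  have : t + t = 0 := CharTwo.add_self_eq_zero t
  rw [this, Cfsg.Agent.Lib.Helper36.x_zero D hD]

include hD in
/-- in characteristic 2 the square of every element of `U` lies in `[U, U]` -/
theorem sqchev_posUnipotent_sq {F : Type*} [Field F] [CharP F 2] :
    ∀ x : D.posUnipotent F, x ^ 2 ∈ commutator (D.posUnipotent F) := by
  apply sqchev_sq_mem_commutator_of_closure
    (S := {u : D.posUnipotent F | ∃ (r : ℕ) (t : F), D.IsPosRoot r ∧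
      ((u : GL D.Idx F) : Matrix D.Idx D.Idx F) = D.x F r t})
  · rw [eq_top_iff]
    rintro ⟨x, hx⟩ -
    unfold ChevalleyDatum.posUnipotent at hx
    induction hx using Subgroup.closure_induction with
    | mem y hy =>
      exact Subgroup.subset_closure (by obtain ⟨r, t, hr, hy⟩ := hy; exact ⟨r, t, hr, hy⟩)
    | one => exact Subgroup.one_mem _
    | mul y z hy hz ihy ihz =>
      have := Subgroup.mul_mem _ ihy ihz
      exact this
    | inv y hy ih =>
      have := Subgroup.inv_mem _ ih
      exact this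
  · rintro ⟨s, hs⟩ ⟨r, t, -, hst⟩
    apply Subtype.ext
    exact sqchev_root_sq D hD s r t hst

include hD in
/-- the generic lemma: some Sylow 2-subgroup of the Chevalley group in characteristic 2 has all squares in its
derived subgroup -/
theorem sqchev_sqD {F : Type*} [Field F] [Fintype F] [CharP F 2] : SqD ↥(D.group F) := by
  have : Fact (Nat.Prime 2) := ⟨Nat.prime_two⟩
  obtain ⟨P, hP⟩ := Cfsg.Agent.S2326.result (F := F) 2 D hD
  refine ⟨P, ?_⟩
  show ∀ x : (P : Subgroup ↥(D.group F)), x ^ 2 ∈ commutator (P : Subgroup ↥(D.group F))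
  rw [hP]
  exact sqchev_transport (Subgroup.subgroupOfEquivOfLe (Cfsg.Agent.Lib.Helper36.posUnipotent_le_group D hD F))
    (sqchev_posUnipotent_sq D hD)

end

/-- SQ-G2. -/
theorem sq_g2 (F : Type) [Field F] [Fintype F] [CharP F 2] (h : 3 ≤ Fintype.card F) :
    SqD ↥(Cfsg.Lie.chevG2.group F) :=
  sqchev_sqD chevG2 (by simp)

/-- SQ-F4 -/
theorem sq_f4 (F : Type) [Field F] [Fintype F] [CharP F 2] : SqD ↥(Cfsg.Lie.chevF4.group F) :=
  sqchev_sqD chevF4 (by simp)

/-- SQ-E6 -/
theorem sq_e6 (F : Type) [Field F] [Fintype F] [CharP F 2] : SqD ↥(Cfsg.Lie.chevE6.group F) :=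
  sqchev_sqD chevE6 (by simp)

/-- SQ-E7 -/
theorem sq_e7 (F : Type) [Field F] [Fintype F] [CharP F 2] : SqD ↥(Cfsg.Lie.chevE7.group F) :=
  sqchev_sqD chevE7 (by simp)

/-- SQ-E8 -/
theorem sq_e8 (F : Type) [Field F] [Fintype F] [CharP F 2] : SqD ↥(Cfsg.Lie.chevE8.group F) :=
  sqchev_sqD chevE8 (by simp)

end Cfsg.Agent.Lib.Helper20.Sq
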