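import Cfsg.Agent.Lib.Helper31.St_SW3
import Cfsg.Agent.Lib.Helper75.St_SC1
import Cfsg.Agent.Lib.Helper93.St_SG2
import Cfsg.Agent.Lib.Helper93.St_SG3
import Cfsg.Prelude.Def_ParabolicCharacters

/-! # The Steinberg character of a (B,N)-pair restricted to `B` (helper72, add-on to helper6's ST hive)

For `b ∈ B`, `∑_J (-1)^|J| 1_{P_J}^G (b)` is the number of fixed points of `b` on `B / (B ∩ n₀ B n₀⁻¹)`,
`n₀` a representative of the longest element. -/

set_option autoImplicit false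

namespace Cfsg.Agent.Lib.Helper72.StB

open Cfsg Cfsg.Agent.Lib.Helper6 Cfsg.Agent.Lib.Helper6.Exch Cfsg.Agent.Lib.Helper6.St Cfsg.Agent.S0320

variable {G : Type*} [Group G] (P : Cfsg.BNPair G)

/-- the chosen representative in `N` of an element of the Weyl group -/
noncomputable def rp (w : Wg P) : G := ((Quotient.out w : P.N) : G)

lemma rp_mem_N (w : Wg P) : rp P w ∈ P.N := (Quotient.out w : P.N).2

lemma mk_rp (w : Wg P) : (QuotientGroup.mk (⟨rp P w, rp_mem_N P w⟩ : P.N) : Wg P) = w :=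
  Quotient.out_eq w

lemma Cw_eq_C (w : Wg P) : Cw P w = C P (rp P w) := rfl

lemma rp_mem_Cw (w : Wg P) : rp P w ∈ Cw P w := self_mem_C P _

lemma mul_mem_Cw_left {w : Wg P} {x g : G} (hx : x ∈ P.B) (hg : g ∈ Cw P w) : x * g ∈ Cw P w :=
  mul_mem_C_left P hx hg

lemma mul_mem_Cw_right {w : Wg P} {x g : G} (hx : x ∈ P.B) (hg : g ∈ Cw P w) : g * x ∈ Cw P w :=
  mul_mem_C_right P hx hg

lemma sig_inv (s : P.S) : (sig P s)⁻¹ = sig P s :=
  inv_eq_of_mul_eq_one_left ((exSys_sig P).sq s)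

/-- mirror image of `Cw_mul_of_lt` -/
lemma stb_Cw_mul_of_lt_right (w : Wg P) (s : P.S)
    (hlt : ell (sig P) w < ell (sig P) (w * sig P s))
    {x y : G} (hx : x ∈ Cw P w) (hy : y ∈ Cw P (sig P s)) : x * y ∈ Cw P (w * sig P s) := by
  have h := exSys_sig P
  have hx' := Cw_inv P w hx
  have hy' := Cw_inv P (sig P s) hy
  rw [sig_inv] at hy'
  have e : sig P s * w⁻¹ = (w * sig P s)⁻¹ := by rw [mul_inv_rev, sig_inv]
  have hlt' : ell (sig P) w⁻¹ < ell (sig P) (sig P s * w⁻¹) := by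
    rw [e, ell_inv h, ell_inv h]; exact hlt
  have h1 := Cw_mul_of_lt P s w⁻¹ hlt' hy' hx'
  have h2 := Cw_inv P _ h1
  rw [e, inv_inv, mul_inv_rev, inv_inv, inv_inv] at h2
  exact h2

/-- an element of the cell of a product is a product of elements of the cells -/
lemma stb_exists_mul (a b : Wg P) {y : G} (hy : y ∈ Cw P (a * b)) :
    ∃ y₁ ∈ Cw P a, ∃ y₂ ∈ Cw P b, y = y₁ * y₂ := by
  have hmk : (a * b : Wg P) =
      QuotientGroup.mk ((⟨rp P a, rp_mem_N P a⟩ : P.N) * (⟨rp P b, rp_mem_N P b⟩ : P.N)) := by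
    rw [QuotientGroup.mk_mul, mk_rp, mk_rp]
  rw [hmk, Cw_mk] at hy
  obtain ⟨x, hx, z, hz, rfl⟩ := (mem_C P).1 hy
  refine ⟨x * rp P a, mul_mem_Cw_left P hx (rp_mem_Cw P a), rp P b * z,
    mul_mem_Cw_right P hz (rp_mem_Cw P b), ?_⟩
  simp [mul_assoc]

/-- products of cells along a reduced word -/
lemma stb_Cw_mul_of_add_word : ∀ (L : List P.S) (w : Wg P),
    ell (sig P) (w * wp (sig P) L) = ell (sig P) w + L.length →
    ∀ {x y : G}, x ∈ Cw P w → y ∈ Cw P (wp (sig P) L) → x * y ∈ Cw P (w * wp (sig P) L) := by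
  have h := exSys_sig P
  intro L
  induction L with
  | nil =>
    intro w _ x y hx hy
    rw [wp_nil, Cw_one] at hy
    rw [wp_nil, mul_one]
    exact mul_mem_Cw_right P hy hx
  | cons i L ih =>
    intro w hadd x y hx hy
    rw [wp_cons] at hy hadd ⊢
    obtain ⟨y₁, hy₁, y₂, hy₂, rfl⟩ := stb_exists_mul P _ _ hy
    have hle1 : ell (sig P) (w * (sig P i * wp (sig P) L)) ≤
        ell (sig P) (w * sig P i) + ell (sig P) (wp (sig P) L) := by
      rw [← mul_assoc]; exact ell_mul_le h _ _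
    have hle2 : ell (sig P) (wp (sig P) L) ≤ L.length := ell_wp_le _ L
    rw [List.length_cons] at hadd
    have hstep : ell (sig P) (w * sig P i) = ell (sig P) w + 1 := by
      rcases ell_mul_gen h w i with h1 | h1
      · exact h1
      · omega
    have hadd' : ell (sig P) (w * sig P i * wp (sig P) L) = ell (sig P) (w * sig P i) + L.length := by
      rw [mul_assoc]; omega
    have h1 : x * y₁ ∈ Cw P (w * sig P i) :=
      stb_Cw_mul_of_lt_right P w i (by omega) hx hy₁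
    have h2 := ih (w * sig P i) hadd' h1 hy₂
    rw [mul_assoc, mul_assoc] at h2
    exact h2

/-- products of cells when the lengths add -/
lemma stb_Cw_mul_of_add (w v : Wg P) (hadd : ell (sig P) (w * v) = ell (sig P) w + ell (sig P) v)
    {x y : G} (hx : x ∈ Cw P w) (hy : y ∈ Cw P v) : x * y ∈ Cw P (w * v) := by
  obtain ⟨L, _, hL, hlen⟩ := exists_isRed_eq (exSys_sig P) v
  subst hL
  exact stb_Cw_mul_of_add_word P L w (by rw [hadd, hlen]) hx hy

variable (J : Set P.S)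

/-- (K) -/
lemma Cw_mul_rred {d v : Wg P} (hd : RRed (sig P) J d) (hv : v ∈ WJ (sig P) J)
    {x y : G} (hx : x ∈ Cw P d) (hy : y ∈ Cw P v) : x * y ∈ Cw P (d * v) :=
  stb_Cw_mul_of_add P d v (rred_add (exSys_sig P) J hd hv) hx hy

lemma mem_parabolic_iff_Cw {g : G} :
    g ∈ P.parabolic (Subtype.val '' J) ↔ ∃ v ∈ WJ (sig P) J, g ∈ Cw P v := by
  have := parabolic_eq_iUnion P J
  have h2 : g ∈ (P.parabolic (Subtype.val '' J) : Set G) ↔
      g ∈ ⋃ w ∈ (WJ (sig P) J : Set (Wg P)), Cw P w := by rw [this]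
  simpa using h2

lemma B_le_parabolic' : P.B ≤ P.parabolic (Subtype.val '' J) := B_le_parabolic _

/-- (K1) -/
lemma conj_mem_B_of_rred {d : Wg P} (hd : RRed (sig P) J d) {c : G} (hc : c ∈ P.B)
    (h : (rp P d)⁻¹ * c * rp P d ∈ P.parabolic (Subtype.val '' J)) :
    (rp P d)⁻¹ * c * rp P d ∈ P.B := by
  obtain ⟨v, hv, hg⟩ := (mem_parabolic_iff_Cw P J).1 h
  have h1 := Cw_mul_rred P J hd hv (rp_mem_Cw P d) hg
  have e : rp P d * ((rp P d)⁻¹ * c * rp P d) = c * rp P d := by group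
  rw [e] at h1
  have h2 : c * rp P d ∈ Cw P d := mul_mem_Cw_left P hc (rp_mem_Cw P d)
  have huniq := (exists_unique_Cw P (c * rp P d)).unique h1 h2
  have hv1 : v = 1 := by
    have : d * v = d * 1 := by rw [huniq, mul_one]
    exact mul_left_cancel this
  rw [hv1, Cw_one] at hg
  exact hg

/-- (K2) -/
lemma eq_of_rred_of_mem {d d' : Wg P} (hd : RRed (sig P) J d) (hd' : RRed (sig P) J d')
    {c c' : G} (hc : c ∈ P.B) (hc' : c' ∈ P.B)
    (h : (c * rp P d)⁻¹ * (c' * rp P d') ∈ P.parabolic (Subtype.val '' J)) : d = d' := by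
  obtain ⟨v, hv, hg⟩ := (mem_parabolic_iff_Cw P J).1 h
  have h0 : c * rp P d ∈ Cw P d := mul_mem_Cw_left P hc (rp_mem_Cw P d)
  have h1 := Cw_mul_rred P J hd hv h0 hg
  have e : c * rp P d * ((c * rp P d)⁻¹ * (c' * rp P d')) = c' * rp P d' := by group
  rw [e] at h1
  have h2 : c' * rp P d' ∈ Cw P d' := mul_mem_Cw_left P hc' (rp_mem_Cw P d')
  have huniq := (exists_unique_Cw P (c' * rp P d')).unique h1 h2
  apply rred_unique (exSys_sig P) J hd hd'
  rw [← huniq]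
  simpa using hv

/-- (K3) -/
lemma exists_rred_rep (g : G) : ∃ d : Wg P, RRed (sig P) J d ∧ ∃ c ∈ P.B,
    (c * rp P d)⁻¹ * g ∈ P.parabolic (Subtype.val '' J) := by
  obtain ⟨w, hw, _⟩ := exists_unique_Cw P g
  obtain ⟨d, v, hd, hv, rfl⟩ := exists_rred (exSys_sig P) J w
  obtain ⟨y₁, hy₁, y₂, hy₂, rfl⟩ := stb_exists_mul P d v hw
  have hy₁' : y₁ ∈ C P (rp P d) := hy₁
  obtain ⟨c, hc, c', hc', rfl⟩ := (mem_C P).1 hy₁'
  refine ⟨d, hd, c, hc, ?_⟩
  have e : (c * rp P d)⁻¹ * (c * rp P d * c' * y₂) = c' * y₂ := by group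
  rw [e]
  exact (P.parabolic _).mul_mem (B_le_parabolic' P J hc')
    ((mem_parabolic_iff_Cw P J).2 ⟨v, hv, hy₂⟩)

end Cfsg.Agent.Lib.Helper72.StB
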