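import Cfsg.Agent.Lib.Helper72.StB1

/-! # The Steinberg character of a (B,N)-pair restricted to `B`, part 2: counting (helper72) -/

set_option autoImplicit false

namespace Cfsg.Agent.Lib.Helper72.StB

open Cfsg Cfsg.Agent.Lib.Helper6 Cfsg.Agent.Lib.Helper6.Exch Cfsg.Agent.Lib.Helper6.St Cfsg.Agent.S0320

variable {G : Type*} [Group G] (P : Cfsg.BNPair G)

/-- `B ∩ n B n⁻¹` as a subgroup of `B` -/
def Bn (n : G) : Subgroup P.B where
  carrier := {c | n⁻¹ * (c : G) * n ∈ P.B}
  mul_mem' := by
    intro a b ha hb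
    have e : n⁻¹ * ((a * b : P.B) : G) * n = (n⁻¹ * (a : G) * n) * (n⁻¹ * (b : G) * n) := by
      rw [Subgroup.coe_mul]; group
    simp only [Set.mem_ofPred_eq] at ha hb ⊢
    rw [e]; exact P.B.mul_mem ha hb
  one_mem' := by simp
  inv_mem' := by
    intro a ha
    have e : n⁻¹ * ((a⁻¹ : P.B) : G) * n = (n⁻¹ * (a : G) * n)⁻¹ := by
      rw [Subgroup.coe_inv]; group
    simp only [Set.mem_ofPred_eq] at ha ⊢
    rw [e]; exact P.B.inv_mem ha

lemma mem_Bn {n : G} {c : P.B} : c ∈ Bn P n ↔ n⁻¹ * (c : G) * n ∈ P.B := Iff.rfl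

variable (J : Set P.S)

/-- the map `B / B_d → G / P_J`, `c B_d ↦ c ḋ P_J` -/
noncomputable def psi (d : Wg P) :
    P.B ⧸ Bn P (rp P d) → G ⧸ P.parabolic (Subtype.val '' J) :=
  Quotient.map' (fun c : P.B => (c : G) * rp P d) (by
    intro a b hab
    rw [QuotientGroup.leftRel_apply] at hab ⊢
    have e : ((a : G) * rp P d)⁻¹ * ((b : G) * rp P d) =
        (rp P d)⁻¹ * ((a⁻¹ * b : P.B) : G) * rp P d := by
      rw [Subgroup.coe_mul, Subgroup.coe_inv]; group
    rw [e]
    exact B_le_parabolic' P J ((mem_Bn P).1 hab))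

lemma psi_mk (d : Wg P) (c : P.B) :
    psi P J d (QuotientGroup.mk c) = QuotientGroup.mk ((c : G) * rp P d) := rfl

lemma psi_smul (d : Wg P) (b : P.B) (y : P.B ⧸ Bn P (rp P d)) :
    psi P J d (b • y) = (b : G) • psi P J d y := by
  induction y using QuotientGroup.induction_on with
  | H c =>
    change psi P J d (QuotientGroup.mk (b * c)) =
      QuotientGroup.mk ((b : G) * ((c : G) * rp P d))
    rw [psi_mk, Subgroup.coe_mul, mul_assoc]

lemma psi_injective {d : Wg P} (hd : RRed (sig P) J d) : Function.Injective (psi P J d) := by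
  intro y y' h
  induction y using QuotientGroup.induction_on with
  | H c =>
    induction y' using QuotientGroup.induction_on with
    | H c' =>
      rw [psi_mk, psi_mk, QuotientGroup.eq] at h
      rw [QuotientGroup.eq, mem_Bn]
      have e : ((c : G) * rp P d)⁻¹ * ((c' : G) * rp P d) =
          (rp P d)⁻¹ * ((c⁻¹ * c' : P.B) : G) * rp P d := by
        rw [Subgroup.coe_mul, Subgroup.coe_inv]; group
      rw [e] at h
      exact conj_mem_B_of_rred P J hd (c⁻¹ * c').2 h

lemma psi_eq_imp {d d' : Wg P} (hd : RRed (sig P) J d) (hd' : RRed (sig P) J d')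
    {y : P.B ⧸ Bn P (rp P d)} {y' : P.B ⧸ Bn P (rp P d')}
    (h : psi P J d y = psi P J d' y') : d = d' := by
  induction y using QuotientGroup.induction_on with
  | H c =>
    induction y' using QuotientGroup.induction_on with
    | H c' =>
      rw [psi_mk, psi_mk, QuotientGroup.eq] at h
      exact eq_of_rred_of_mem P J hd hd' c.2 c'.2 h

lemma exists_psi_eq (z : G ⧸ P.parabolic (Subtype.val '' J)) :
    ∃ d, RRed (sig P) J d ∧ ∃ y, psi P J d y = z := by
  induction z using QuotientGroup.induction_on with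
  | H g =>
    obtain ⟨d, hd, c, hc, h⟩ := exists_rred_rep P J g
    refine ⟨d, hd, QuotientGroup.mk ⟨c, hc⟩, ?_⟩
    rw [psi_mk, QuotientGroup.eq]
    exact h

open Classical in
/-- the fixed points of `b ∈ B` on `G / P_J`, counted along the `B`-orbits -/
theorem card_fixedBy_parabolic [Finite G] [Fintype (Wg P)] (b : P.B) :
    Nat.card (MulAction.fixedBy (G ⧸ P.parabolic (Subtype.val '' J)) (b : G)) =
      ∑ d ∈ Finset.univ.filter (fun d => RRed (sig P) J d),
        Nat.card (MulAction.fixedBy (P.B ⧸ Bn P (rp P d)) b) := by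
  let F : (Σ d : {d : Wg P // RRed (sig P) J d},
        MulAction.fixedBy (P.B ⧸ Bn P (rp P d.1)) b) →
      MulAction.fixedBy (G ⧸ P.parabolic (Subtype.val '' J)) (b : G) := fun t =>
    ⟨psi P J t.1.1 t.2.1, by
      rw [MulAction.mem_fixedBy, ← psi_smul]
      congr 1
      exact t.2.2⟩
  have hF : Function.Bijective F := by
    constructor
    · rintro ⟨⟨d, hd⟩, y, hy⟩ ⟨⟨d', hd'⟩, y', hy'⟩ h
      have h1 : psi P J d y = psi P J d' y' := congrArg Subtype.val h
      have hdd : d = d' := psi_eq_imp P J hd hd' h1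
      subst hdd
      have hyy := psi_injective P J hd h1
      subst hyy
      rfl
    · rintro ⟨z, hz⟩
      obtain ⟨d, hd, y, rfl⟩ := exists_psi_eq P J z
      refine ⟨⟨⟨d, hd⟩, y, ?_⟩, rfl⟩
      rw [MulAction.mem_fixedBy] at hz ⊢
      apply psi_injective P J hd
      rw [psi_smul]; exact hz
  rw [← Nat.card_congr (Equiv.ofBijective F hF), Nat.card_sigma]
  rw [Finset.sum_subtype (p := fun d => RRed (sig P) J d)
    (Finset.univ.filter (fun d => RRed (sig P) J d)) (by simp)
    (fun d => Nat.card (MulAction.fixedBy (P.B ⧸ Bn P (rp P d)) b))]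

open Classical in
/-- **The alternating sum of the parabolic permutation characters, restricted to `B`**, is the permutation
character of `B` on the cosets of `B ∩ n₀ B n₀⁻¹`, `n₀` a representative of the longest element. -/
theorem steinberg_restrict_B [Finite G] [Fintype P.S] [Fintype (Wg P)] (b : P.B) {w0 : Wg P}
    (hw0 : ∀ i, ell (sig P) (w0 * sig P i) < ell (sig P) w0) :
    ∑ J ∈ (Finset.univ : Finset P.S).powerset,
      (-1 : ℂ) ^ J.card *
        fixedPointCharacter (P.parabolic (Subtype.val '' (↑J : Set P.S))) (b : G) =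
      fixedPointCharacter (Bn P (rp P w0)) b := by
  have key := alt_sum_rred (exSys_sig P)
    (fun d => (Nat.card (MulAction.fixedBy (P.B ⧸ Bn P (rp P d)) b) : ℂ)) hw0
  have e0 : fixedPointCharacter (Bn P (rp P w0)) b =
      (Nat.card (MulAction.fixedBy (P.B ⧸ Bn P (rp P w0)) b) : ℂ) := rfl
  rw [e0, ← key]
  refine Finset.sum_congr rfl (fun J _ => ?_)
  congr 1
  unfold fixedPointCharacter
  rw [card_fixedBy_parabolic P (↑J : Set P.S) b]
  push_cast
  rfl

end Cfsg.Agent.Lib.Helper72.StB
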