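import Mathlib

set_option autoImplicit false

namespace Cfsg.Agent.Lib.Helper72

open Equiv

/-- A transitive group generated by `m` transpositions acts on at most `m + 1` points. -/
theorem card_le_of_transitive_closure_swaps {α : Type*} [DecidableEq α] [Nonempty α] {m : ℕ}
    (t : Fin m → Perm α) (ht : ∀ i, (t i).IsSwap)
    (htrans : ∀ x y : α, ∃ h ∈ Subgroup.closure (Set.range t), h x = y) :
    Nat.card α ≤ m + 1 := by
  classical
  choose a b hab using ht
  let e : Fin m → Sym2 α := fun i => s(a i, b i)
  let Γ : SimpleGraph α := SimpleGraph.fromEdgeSet (Set.range e)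
  have hadj : ∀ i, Γ.Adj (a i) (b i) := by
    intro i
    rw [SimpleGraph.fromEdgeSet_adj]
    exact ⟨⟨i, rfl⟩, (hab i).1⟩
  have hreach : ∀ h ∈ Subgroup.closure (Set.range t), ∀ x, Γ.Reachable x (h x) := by
    intro h hh
    induction hh using Subgroup.closure_induction with
    | mem g hg =>
      obtain ⟨i, rfl⟩ := hg
      intro x
      rw [(hab i).2]
      by_cases hxa : x = a i
      · rw [hxa, swap_apply_left]
        exact (hadj i).reachable
      · by_cases hxb : x = b i
        · rw [hxb, swap_apply_right]
          exact (hadj i).symm.reachable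
        · rw [swap_apply_of_ne_of_ne hxa hxb]
    | one => intro x; exact SimpleGraph.Reachable.refl _
    | mul g₁ g₂ _ _ ih₁ ih₂ =>
      intro x
      rw [Perm.mul_apply]
      exact (ih₂ x).trans (ih₁ (g₂ x))
    | inv g _ ih =>
      intro x
      have := ih (g⁻¹ x)
      rw [← Perm.mul_apply, mul_inv_cancel, Perm.one_apply] at this
      exact this.symm
  have hconn : Γ.Connected := by
    rw [SimpleGraph.connected_iff]
    refine ⟨fun x y => ?_, inferInstance⟩
    obtain ⟨h, hh, hxy⟩ := htrans x y
    rw [← hxy]
    exact hreach h hh x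
  have h1 := hconn.card_vert_le_card_edgeSet_add_one
  have h2 : Nat.card Γ.edgeSet ≤ m := by
    have hsub : Γ.edgeSet ⊆ Set.range e := by
      rw [SimpleGraph.edgeSet_fromEdgeSet]
      exact Set.sdiff_subset
    have hfin : (Set.range e).Finite := Set.finite_range e
    calc Nat.card Γ.edgeSet = Γ.edgeSet.ncard := Nat.card_coe_set_eq _
      _ ≤ (Set.range e).ncard := Set.ncard_le_ncard hsub hfin
      _ ≤ m := by
        have := Set.ncard_image_le (f := e) (Set.finite_univ (α := Fin m))
        rw [Set.image_univ, Set.ncard_univ, Nat.card_fin] at this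
        exact this
  omega

end Cfsg.Agent.Lib.Helper72
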