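import Mathlib
import Cfsg.Agent.Lib.Helper72.PermOrb
import Cfsg.Agent.Lib.Helper72.SylowUniq

/-!
# Transpositions in the unique Sylow 2-subgroup containing `x`

If `x` lies in a unique Sylow 2-subgroup `P` of `Perm α`, and `u`, `v` lie in different cycles of `x` of
the same length (possibly both fixed), then `swap u v ∈ P`.

Helper lemmas for S4349 (helper72).
-/

set_option autoImplicit false

namespace Cfsg.Agent.Lib.Helper72

open Equiv Equiv.Perm

variable {α : Type*} [Fintype α] [DecidableEq α]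

theorem pow_apply_eq_pow_apply_iff (x : Perm α) (u : α) {i j : ℕ} (hij : i ≤ j) :
    (x ^ i) u = (x ^ j) u ↔ (x ^ (j - i)) u = u := by
  have h : x ^ j = x ^ i * x ^ (j - i) := by rw [← pow_add]; congr 1; omega
  rw [h, Perm.mul_apply]
  constructor
  · intro h1
    exact ((x ^ i).injective h1).symm
  · intro h1
    rw [h1]

theorem pow_apply_eq_pow_apply_transfer {x : Perm α} {u v : α}
    (hper : ∀ m : ℕ, (x ^ m) u = u ↔ (x ^ m) v = v) (i j : ℕ) :
    (x ^ i) u = (x ^ j) u ↔ (x ^ i) v = (x ^ j) v := by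
  rcases le_total i j with hij | hij
  · rw [pow_apply_eq_pow_apply_iff x u hij, pow_apply_eq_pow_apply_iff x v hij]
    exact hper _
  · rw [eq_comm, pow_apply_eq_pow_apply_iff x u hij, eq_comm (a := (x ^ i) v),
      pow_apply_eq_pow_apply_iff x v hij]
    exact hper _

theorem swap_mem_of_unique_sylow {x : Perm α} {P : Sylow 2 (Perm α)}
    (huniq : ∀ Q : Sylow 2 (Perm α), x ∈ Q → Q = P) (hx2 : ∃ k : ℕ, orderOf x = 2 ^ k)
    {u v : α} (hper : ∀ m : ℕ, (x ^ m) u = u ↔ (x ^ m) v = v)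
    (hdiff : ∀ i j : ℕ, (x ^ i) u ≠ (x ^ j) v) : swap u v ∈ P := by
  have : Fact (Nat.Prime 2) := ⟨Nat.prime_two⟩
  let T : Set (Perm α) := Set.range (fun i : ℕ => swap ((x ^ i) u) ((x ^ i) v))
  have hTcomm : ∀ t1 ∈ T, ∀ t2 ∈ T, t1 * t2 = t2 * t1 := by
    rintro _ ⟨i, rfl⟩ _ ⟨j, rfl⟩
    by_cases ha : (x ^ i) u = (x ^ j) u
    · have hb := (pow_apply_eq_pow_apply_transfer hper i j).mp ha
      simp only [ha, hb]
    · have hb : (x ^ i) v ≠ (x ^ j) v := fun h => ha ((pow_apply_eq_pow_apply_transfer hper i j).mpr h)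
      have hnd : [(x ^ i) u, (x ^ i) v, (x ^ j) u, (x ^ j) v].Nodup := by
        simp only [List.nodup_cons, List.mem_cons, List.not_mem_nil, or_false, not_or,
          List.nodup_nil, and_true, not_false_eq_true]
        exact ⟨⟨hdiff i i, ha, hdiff i j⟩, ⟨fun h => hdiff j i h.symm, hb⟩, hdiff j j⟩
      exact (disjoint_swap_swap hnd).commute.eq
  have hTsq : ∀ t ∈ T, t * t = 1 := by
    rintro _ ⟨i, rfl⟩
    exact swap_mul_self _ _
  set E := Subgroup.closure T with hE
  have hEcomm : ∀ f1 ∈ E, ∀ f2 ∈ E, f1 * f2 = f2 * f1 := by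
    intro f1 h1 f2 h2
    have hc := Subgroup.isMulCommutative_closure hTcomm
    have := hc.is_comm.comm ⟨f1, h1⟩ ⟨f2, h2⟩
    exact congrArg Subtype.val this
  have hEsq : ∀ f ∈ E, f * f = 1 := by
    intro f hf
    induction hf using Subgroup.closure_induction with
    | mem y hy => exact hTsq y hy
    | one => simp
    | mul a b ha hb iha ihb =>
      have hab : b * a = a * b := hEcomm b hb a ha
      calc a * b * (a * b) = a * (b * a) * b := by group
        _ = a * (a * b) * b := by rw [hab]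
        _ = (a * a) * (b * b) := by group
        _ = 1 := by rw [iha, ihb, one_mul]
    | inv a _ iha =>
      have : a⁻¹ * a⁻¹ = (a * a)⁻¹ := by group
      rw [this, iha, inv_one]
  have hE2 : IsPGroup 2 E := by
    intro f
    refine ⟨1, ?_⟩
    apply Subtype.ext
    rw [pow_one, pow_two]
    exact hEsq f f.2
  have hxE : x ∈ Subgroup.normalizer (E : Set (Perm α)) := by
    apply mem_normalizer_of_conj_mem_fin
    intro f hf
    induction hf using Subgroup.closure_induction with
    | mem y hy =>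
      obtain ⟨i, rfl⟩ := hy
      apply Subgroup.subset_closure
      refine ⟨i + 1, ?_⟩
      change swap ((x ^ (i + 1)) u) ((x ^ (i + 1)) v) = _
      rw [pow_succ', Perm.mul_apply, Perm.mul_apply, swap_apply_apply]
    | one => simp
    | mul a b _ _ iha ihb =>
      have : x * (a * b) * x⁻¹ = (x * a * x⁻¹) * (x * b * x⁻¹) := by group
      rw [this]; exact mul_mem iha ihb
    | inv a _ iha =>
      have : x * a⁻¹ * x⁻¹ = (x * a * x⁻¹)⁻¹ := by group
      rw [this]; exact inv_mem iha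
  have hZ2 : IsPGroup 2 (Subgroup.zpowers x) := by
    obtain ⟨k, hk⟩ := hx2
    apply IsPGroup.of_card (n := k)
    rw [Nat.card_zpowers, hk]
  have hD2 : IsPGroup 2 ↥(Subgroup.zpowers x ⊔ E) :=
    IsPGroup.to_sup_of_normal_right' hZ2 hE2 (by
      rw [Subgroup.zpowers_le]; exact hxE)
  have hxD : x ∈ Subgroup.zpowers x ⊔ E := Subgroup.mem_sup_left (Subgroup.mem_zpowers x)
  have hle := le_of_unique_sylow huniq hD2 hxD
  apply hle
  apply Subgroup.mem_sup_right
  apply Subgroup.subset_closure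
  exact ⟨0, by simp⟩

theorem false_of_swap_swap_mem {P : Sylow 2 (Perm α)} {a b c : α} (hab : a ≠ b) (hac : a ≠ c)
    (hbc : b ≠ c) (h1 : swap a b ∈ P) (h2 : swap a c ∈ P) : False := by
  have : Fact (Nat.Prime 2) := ⟨Nat.prime_two⟩
  have h3 : swap a b * swap a c ∈ (P : Subgroup (Perm α)) := P.mul_mem h1 h2
  have ho : orderOf (swap a b * swap a c) = 3 := (isThreeCycle_swap_mul_swap_same hab hac hbc).orderOf
  obtain ⟨k, hk⟩ := IsPGroup.iff_orderOf.mp P.isPGroup' ⟨_, h3⟩
  rw [Subgroup.orderOf_mk, ho] at hk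
  rcases k with _ | _ | k
  · norm_num at hk
  · norm_num at hk
  · have : 4 ≤ 2 ^ (k + 1 + 1) := by
      calc 4 = 2 ^ 2 := by norm_num
        _ ≤ 2 ^ (k + 1 + 1) := Nat.pow_le_pow_right (by norm_num) (by omega)
    omega

end Cfsg.Agent.Lib.Helper72
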