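import Mathlib
import Cfsg.Agent.Lib.Helper72.PermOrb
import Cfsg.Agent.Lib.Helper72.PermSq

/-!
# 2-subgroups of symmetric groups containing an element with distinct cycle lengths

Main result `fix_of_normalizes_two_group`: if `x` has at most two fixed points in `s` and its nontrivial
cycles in `s` have pairwise different lengths, `D` is a 2-group containing `x` and preserving `s`, and
`g` has odd order, normalizes `D` and preserves `s`, then `g` fixes `s` pointwise.

Helper lemmas for S4349 (helper72).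
-/

set_option autoImplicit false

namespace Cfsg.Agent.Lib.Helper72

open Equiv Equiv.Perm

variable {α : Type*} [Fintype α] [DecidableEq α]

/-- cycle length of `a` under `x` (`0` for fixed points) -/
def clen (x : Perm α) (a : α) : ℕ := (x.cycleOf a).support.card

/-- at most two fixed points in `s`, and distinct nontrivial cycles in `s` have different lengths -/
def CycHyp (x : Perm α) (s : Finset α) : Prop :=
  (s.filter (fun a => x a = a)).card ≤ 2 ∧
  ∀ a ∈ s, ∀ b ∈ s, x a ≠ a → clen x a = clen x b → x.SameCycle a b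

theorem CycHyp.mono {x : Perm α} {s t : Finset α} (h : CycHyp x s) (hts : t ⊆ s) : CycHyp x t := by
  refine ⟨le_trans (Finset.card_le_card ?_) h.1, fun a ha b hb => h.2 a (hts ha) b (hts hb)⟩
  exact Finset.filter_subset_filter _ hts

theorem mem_support_cycleOf_iff' {x : Perm α} {a b : α} (ha : x a ≠ a) :
    b ∈ (x.cycleOf a).support ↔ x.SameCycle a b := by
  rw [mem_support_cycleOf_iff]
  exact ⟨fun h => h.1, fun h => ⟨h, Perm.mem_support.mpr ha⟩⟩

theorem clen_two_pow {D : Subgroup (Perm α)} (hD : IsPGroup 2 D) {x : Perm α} (hx : x ∈ D) {a : α}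
    (ha : x a ≠ a) : ∃ j : ℕ, 1 ≤ j ∧ clen x a = 2 ^ j := by
  have : Fact (Nat.Prime 2) := ⟨Nat.prime_two⟩
  obtain ⟨k, hk⟩ := IsPGroup.iff_orderOf.mp hD ⟨x, hx⟩
  have hk' : orderOf x = 2 ^ k := by
    rw [← hk]; exact (Subgroup.orderOf_mk x hx).symm
  have h1 : clen x a ∣ 2 ^ k := by
    unfold clen
    rw [← (isCycle_cycleOf x ha).orderOf, ← hk']
    exact orderOf_cycleOf_dvd_orderOf x a
  obtain ⟨j, -, hj⟩ := (Nat.dvd_prime_pow Nat.prime_two).mp h1
  refine ⟨j, ?_, hj⟩
  have h2 : 2 ≤ clen x a := two_le_card_support_cycleOf_iff.mpr ha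
  rw [hj] at h2
  by_contra hcon
  have : j = 0 := by omega
  rw [this] at h2
  norm_num at h2

theorem cycHyp_of_transitive {y : Perm α} {s : Finset α} {a : α}
    (htr : ∀ b ∈ s, ∃ i : ℕ, (y ^ i) a = b) : CycHyp y s := by
  constructor
  · by_cases hfix : y a = a
    · have hpow : ∀ i : ℕ, (y ^ i) a = a := by
        intro i
        induction i with
        | zero => simp
        | succ i ih => rw [pow_succ, Perm.mul_apply, hfix, ih]
      have hsub : s ⊆ {a} := by
        intro b hb
        obtain ⟨i, rfl⟩ := htr b hb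
        rw [Finset.mem_singleton]
        exact hpow i
      calc (s.filter (fun a => y a = a)).card ≤ s.card := Finset.card_filter_le _ _
        _ ≤ ({a} : Finset α).card := Finset.card_le_card hsub
        _ ≤ 2 := by simp
    · have : s.filter (fun a => y a = a) = ∅ := by
        rw [Finset.filter_eq_empty_iff]
        intro b hb hyb
        obtain ⟨i, rfl⟩ := htr b hb
        apply hfix
        have h1 : (y ^ i) (y a) = (y ^ i) a := by
          rw [← Perm.mul_apply, ← pow_succ, pow_succ', Perm.mul_apply]; exact hyb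
        exact (y ^ i).injective h1
      rw [this]; simp
  · intro b hb c hc _ _
    obtain ⟨i, rfl⟩ := htr b hb
    obtain ⟨j, rfl⟩ := htr c hc
    refine ⟨(j : ℤ) - i, ?_⟩
    have : y ^ ((j : ℤ) - i) * y ^ i = y ^ j := by
      rw [← zpow_natCast y i, ← zpow_add, sub_add_cancel, zpow_natCast]
    rw [← Perm.mul_apply, this]

theorem sum_Icc_two_pow (e : ℕ) : ∑ j ∈ Finset.Icc 1 e, 2 ^ j = 2 ^ (e + 1) - 2 := by
  induction e with
  | zero => simp
  | succ e ih =>
    rw [Finset.sum_Icc_succ_top (by omega), ih]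
    have h1 : 2 ≤ 2 ^ (e + 1) := by
      calc 2 = 2 ^ 1 := by norm_num
        _ ≤ 2 ^ (e + 1) := Nat.pow_le_pow_right (by norm_num) (by omega)
    have h2 : 2 ^ (e + 1 + 1) = 2 * 2 ^ (e + 1) := by rw [pow_succ]; ring
    omega

/-- The counting lemma: distinct cycle lengths, all of the form `2 ^ j` with `1 ≤ j ≤ e`. -/
theorem card_le_of_distinct_cycles {x : Perm α} {t : Finset α}
    (hd : ∀ a ∈ t, ∀ b ∈ t, x a ≠ a → clen x a = clen x b → x.SameCycle a b) (e : ℕ)
    (hb : ∀ b ∈ t, x b ≠ b → ∃ j, 1 ≤ j ∧ j ≤ e ∧ clen x b = 2 ^ j) :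
    t.card ≤ (t.filter (fun a => x a = a)).card + (2 ^ (e + 1) - 2) := by
  classical
  let tj : ℕ → Finset α := fun j => t.filter (fun b => x b ≠ b ∧ clen x b = 2 ^ j)
  have hsub : t ⊆ t.filter (fun a => x a = a) ∪ (Finset.Icc 1 e).biUnion tj := by
    intro b hbt
    by_cases hfix : x b = b
    · exact Finset.mem_union_left _ (Finset.mem_filter.mpr ⟨hbt, hfix⟩)
    · obtain ⟨j, hj1, hje, hj⟩ := hb b hbt hfix
      apply Finset.mem_union_right
      rw [Finset.mem_biUnion]
      exact ⟨j, Finset.mem_Icc.mpr ⟨hj1, hje⟩, Finset.mem_filter.mpr ⟨hbt, hfix, hj⟩⟩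
  have htj : ∀ j, (tj j).card ≤ 2 ^ j := by
    intro j
    by_cases hne : (tj j).Nonempty
    · obtain ⟨b0, hb0⟩ := hne
      obtain ⟨hb0t, hb0fix, hb0len⟩ := Finset.mem_filter.mp hb0
      have : tj j ⊆ (x.cycleOf b0).support := by
        intro b hbj
        obtain ⟨hbt, _, hblen⟩ := Finset.mem_filter.mp hbj
        rw [mem_support_cycleOf_iff' hb0fix]
        exact hd b0 hb0t b hbt hb0fix (hb0len.trans hblen.symm)
      calc (tj j).card ≤ (x.cycleOf b0).support.card := Finset.card_le_card this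
        _ = 2 ^ j := hb0len
    · rw [Finset.not_nonempty_iff_eq_empty.mp hne]; simp
  calc t.card ≤ (t.filter (fun a => x a = a) ∪ (Finset.Icc 1 e).biUnion tj).card :=
        Finset.card_le_card hsub
    _ ≤ (t.filter (fun a => x a = a)).card + ((Finset.Icc 1 e).biUnion tj).card :=
        Finset.card_union_le _ _
    _ ≤ (t.filter (fun a => x a = a)).card + ∑ j ∈ Finset.Icc 1 e, (tj j).card :=
        Nat.add_le_add_left Finset.card_biUnion_le _
    _ ≤ (t.filter (fun a => x a = a)).card + ∑ j ∈ Finset.Icc 1 e, 2 ^ j :=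
        Nat.add_le_add_left (Finset.sum_le_sum fun j _ => htj j) _
    _ = (t.filter (fun a => x a = a)).card + (2 ^ (e + 1) - 2) := by rw [sum_Icc_two_pow]

/-- If `s` is covered by two distinct orbits of a subgroup normalized by `g` of odd order, `g` preserves
each of them. -/
theorem preserves_two_orbits {K : Subgroup (Perm α)} {g : Perm α}
    (hgK : g ∈ Subgroup.normalizer (K : Set (Perm α))) {k : ℕ} (hk : Odd k) (hgk : g ^ k = 1)
    {s : Finset α} (hgs : ∀ a ∈ s, g a ∈ s) {a1 a2 : α} (h1 : a1 ∈ s) (h2 : a2 ∈ s)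
    (hcover : ∀ b ∈ s, b ∈ orb K a1 ∨ b ∈ orb K a2) (hdisj : a2 ∉ orb K a1) :
    ∀ b ∈ orb K a1, g b ∈ orb K a1 := by
  rcases hcover _ (hgs a1 h1) with h | h
  · intro b hb
    have := apply_mem_orb_of_normalizes hgK hb
    rwa [orb_eq_of_mem h] at this
  · exfalso
    have hmap1 : ∀ b ∈ orb K a1, g b ∈ orb K a2 := by
      intro b hb
      have := apply_mem_orb_of_normalizes hgK hb
      rwa [orb_eq_of_mem h] at this
    have hga2 : g a2 ∈ orb K a1 := by
      rcases hcover _ (hgs a2 h2) with h' | h'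
      · exact h'
      · exfalso
        rw [← orb_eq_of_mem h] at h'
        obtain ⟨b0, hb0, hb0g⟩ := exists_of_mem_orb_apply hgK h'
        rw [g.injective hb0g] at hb0
        exact hdisj hb0
    have hmap2 : ∀ b ∈ orb K a2, g b ∈ orb K a1 := by
      intro b hb
      have := apply_mem_orb_of_normalizes hgK hb
      rwa [orb_eq_of_mem hga2] at this
    have := eq_empty_of_swap_odd g _ _ (orb_disjoint_of_not_mem hdisj) hmap1 hmap2 hk hgk
    have h3 := self_mem_orb K a1
    rw [this] at h3
    simp at h3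

theorem sdiff_invariant (y : Perm α) {s B : Finset α} (hs : ∀ b ∈ s, y b ∈ s)
    (hB : ∀ b ∈ B, y b ∈ B) : ∀ b ∈ s \ B, y b ∈ s \ B := by
  intro b hb
  obtain ⟨hbs, hbB⟩ := Finset.mem_sdiff.mp hb
  exact Finset.mem_sdiff.mpr ⟨hs b hbs, fun h => hbB ((perm_mem_iff_of_maps y B hB b).mp h)⟩

/-- **Main lemma.** -/
theorem fix_of_normalizes_two_group : ∀ (m : ℕ) (s : Finset α), s.card = m →
    ∀ (x g : Perm α) (D : Subgroup (Perm α)), IsPGroup 2 D → x ∈ D →
    g ∈ Subgroup.normalizer (D : Set (Perm α)) → ∀ k : ℕ, Odd k → g ^ k = 1 →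
    (∀ d ∈ D, ∀ a ∈ s, d a ∈ s) → (∀ a ∈ s, g a ∈ s) → CycHyp x s → ∀ a ∈ s, g a = a := by
  intro m
  induction m using Nat.strong_induction_on with
  | _ m ih =>
  intro s hsm x g D hD hxD hgD k hk hgk hDs hgs hx
  -- Case 1: all points fixed by x
  by_cases hall : ∀ a ∈ s, x a = a
  · have : s.card ≤ 2 := by
      have h1 : s.filter (fun a => x a = a) = s := Finset.filter_true_of_mem hall
      rw [← h1]; exact hx.1
    exact fix_of_card_le_two g s this hgs hk hgk
  push Not at hall
  -- choose a0 with maximal cycle length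
  have hne : (s.filter (fun a => x a ≠ a)).Nonempty := by
    obtain ⟨a, ha, hxa⟩ := hall
    exact ⟨a, Finset.mem_filter.mpr ⟨ha, hxa⟩⟩
  obtain ⟨a0, ha0, hmax⟩ := Finset.exists_max_image _ (clen x) hne
  obtain ⟨ha0s, hxa0⟩ := Finset.mem_filter.mp ha0
  obtain ⟨e, he1, hL⟩ := clen_two_pow hD hxD hxa0
  have hlen : ∀ b ∈ s, x b ≠ b → ∃ j, 1 ≤ j ∧ j ≤ e ∧ clen x b = 2 ^ j := by
    intro b hb hxb
    obtain ⟨j, hj1, hj⟩ := clen_two_pow hD hxD hxb
    refine ⟨j, hj1, ?_, hj⟩
    have := hmax b (Finset.mem_filter.mpr ⟨hb, hxb⟩)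
    rw [hj, hL] at this
    exact (Nat.pow_le_pow_iff_right (by norm_num)).mp this
  have hpos : 2 ≤ 2 ^ e := by
    calc 2 = 2 ^ 1 := by norm_num
      _ ≤ 2 ^ e := Nat.pow_le_pow_right (by norm_num) he1
  have hcard : s.card ≤ 2 * 2 ^ e := by
    have h1 := card_le_of_distinct_cycles hx.2 e hlen
    have h2 := hx.1
    have h4 : 2 ^ (e + 1) = 2 * 2 ^ e := pow_succ' 2 e
    omega
  -- the cycle c
  set c := (x.cycleOf a0).support with hc
  have hccard : c.card = 2 ^ e := hL
  have hcO : c ⊆ orb D a0 := by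
    intro b hb
    rw [hc, mem_support_cycleOf_iff' hxa0] at hb
    obtain ⟨i, -, rfl⟩ := hb.exists_pow_eq'
    exact apply_mem_orb (D.pow_mem hxD i) a0
  have hOs : orb D a0 ⊆ s := orb_subset hDs ha0s
  obtain ⟨t, ht⟩ := card_orb_two_pow hD a0
  have hLO : 2 ^ e ≤ (orb D a0).card := hccard ▸ Finset.card_le_card hcO
  by_cases hO : ∀ b ∈ s, b ∈ orb D a0
  swap
  · -- Case: D not transitive on s
    push Not at hO
    obtain ⟨b1, hb1s, hb1O⟩ := hO
    have hga0 : g a0 ∈ orb D a0 := by
      by_contra hcon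
      have hdisj := orb_disjoint_of_not_mem hcon
      have hO's : orb D (g a0) ⊆ s := orb_subset hDs (hgs a0 ha0s)
      have hcardO' : (orb D (g a0)).card = (orb D a0).card := card_orb_apply_of_normalizes hgD a0
      have hunion : orb D a0 ∪ orb D (g a0) = s := by
        apply Finset.eq_of_subset_of_card_le (Finset.union_subset hOs hO's)
        rw [Finset.card_union_of_disjoint hdisj, hcardO']
        omega
      have hcover : ∀ b ∈ s, b ∈ orb D a0 ∨ b ∈ orb D (g a0) := by
        intro b hb
        rw [← hunion] at hb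
        exact Finset.mem_union.mp hb
      exact hcon (preserves_two_orbits hgD hk hgk hgs ha0s (hgs a0 ha0s) hcover hcon a0
        (self_mem_orb D a0))
    have hgO : ∀ b ∈ orb D a0, g b ∈ orb D a0 := by
      intro b hb
      have := apply_mem_orb_of_normalizes hgD hb
      rwa [orb_eq_of_mem hga0] at this
    have hDO : ∀ d ∈ D, ∀ b ∈ orb D a0, d b ∈ orb D a0 := by
      intro d hd b hb
      have := apply_mem_orb hd b
      rwa [orb_eq_of_mem hb] at this
    have hgO' : ∀ b ∈ s \ orb D a0, g b ∈ s \ orb D a0 := sdiff_invariant g hgs hgO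
    have hDO' : ∀ d ∈ D, ∀ b ∈ s \ orb D a0, d b ∈ s \ orb D a0 :=
      fun d hd => sdiff_invariant d (hDs d hd) (hDO d hd)
    have hlt1 : (orb D a0).card < m := by
      rw [← hsm]
      apply Finset.card_lt_card
      exact ⟨hOs, fun h => hb1O (h hb1s)⟩
    have hlt2 : (s \ orb D a0).card < m := by
      rw [← hsm]
      apply Finset.card_lt_card
      refine ⟨Finset.sdiff_subset, fun h => ?_⟩
      have := h ha0s
      exact (Finset.mem_sdiff.mp this).2 (self_mem_orb D a0)
    intro a ha
    by_cases haO : a ∈ orb D a0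
    · exact ih _ hlt1 _ rfl x g D hD hxD hgD k hk hgk hDO hgO (hx.mono hOs) a haO
    · exact ih _ hlt2 _ rfl x g D hD hxD hgD k hk hgk hDO' hgO' (hx.mono Finset.sdiff_subset) a
        (Finset.mem_sdiff.mpr ⟨ha, haO⟩)
  · -- Case: D transitive on s
    have hsO : orb D a0 = s := Finset.Subset.antisymm hOs hO
    have hst : s.card = 2 ^ t := by rw [← hsO]; exact ht
    have hte : t = e ∨ t = e + 1 := by
      have h1 : 2 ^ e ≤ 2 ^ t := by rw [← ht]; exact hLO
      have h2 : 2 ^ t ≤ 2 ^ (e + 1) := by rw [← hst, pow_succ']; exact hcard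
      have h1' := (Nat.pow_le_pow_iff_right (by norm_num)).mp h1
      have h2' := (Nat.pow_le_pow_iff_right (by norm_num)).mp h2
      omega
    obtain ⟨K, hK⟩ : ∃ K : Subgroup (Perm α), K = sqSub D := ⟨_, rfl⟩
    have hKD : K ≤ D := hK ▸ sqSub_le D
    have hs2 : 2 ≤ s.card := by
      rw [← hsO]; exact le_trans hpos hLO
    obtain ⟨b1, hb1s, hb1B⟩ : ∃ b1 ∈ s, b1 ∉ orb K a0 := by
      rw [hK]; exact exists_not_mem_orb_sqSub hD hDs ha0s hO hs2
    have hgK : g ∈ Subgroup.normalizer (K : Set (Perm α)) := by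
      rw [hK]; exact mem_normalizer_sqSub hgD
    have hblock : ∀ b ∈ s, (orb K b).card = (orb K a0).card := by
      intro b hb
      obtain ⟨d, hd, rfl⟩ := mem_orb.mp (hO b hb)
      rw [hK]
      exact card_orb_apply_of_normalizes (mem_normalizer_sqSub_of_mem hd) a0
    have hKs : ∀ d ∈ K, ∀ a ∈ s, d a ∈ s := fun d hd => hDs d (hKD hd)
    have key : ∃ a2 ∈ s, a2 ∉ orb K a0 ∧ (∀ b ∈ s, b ∈ orb K a0 ∨ b ∈ orb K a2) ∧
        ∃ x' ∈ D, (∀ b ∈ orb K a0, x' b ∈ orb K a0) ∧ CycHyp x' (orb K a0) ∧
          CycHyp x' (orb K a2) := by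
      rcases hte with rfl | rfl
      · -- |s| = L : x is transitive on s
        have hcs : c = s := Finset.eq_of_subset_of_card_le (hcO.trans hOs) (by rw [hst, hccard])
        have hpow : ∀ b ∈ s, ∃ i : ℕ, (x ^ i) a0 = b := by
          intro b hb
          rw [← hcs, hc, mem_support_cycleOf_iff' hxa0] at hb
          obtain ⟨i, -, hi⟩ := hb.exists_pow_eq'
          exact ⟨i, hi⟩
        have hxxK : x * x ∈ K := by rw [hK]; exact mul_self_mem_sqSub hxD
        have heven : ∀ i : ℕ, (x ^ (2 * i)) a0 ∈ orb K a0 := by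
          intro i
          rw [pow_mul, pow_two]
          exact apply_mem_orb (K.pow_mem hxxK i) a0
        have hodd : ∀ i : ℕ, (x ^ (2 * i + 1)) a0 ∈ orb K (x a0) := by
          intro i
          rw [pow_succ, Perm.mul_apply, pow_mul, pow_two]
          exact apply_mem_orb (K.pow_mem hxxK i) (x a0)
        have hxa0B : x a0 ∉ orb K a0 := by
          intro h
          apply hb1B
          obtain ⟨i, rfl⟩ := hpow b1 hb1s
          obtain ⟨j, rfl | rfl⟩ := Nat.even_or_odd' i
          · exact heven j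
          · have := hodd j
            rwa [orb_eq_of_mem h] at this
        have hxa0s : x a0 ∈ s := hDs x hxD a0 ha0s
        refine ⟨x a0, hxa0s, hxa0B, ?_, x * x, D.mul_mem hxD hxD, ?_, ?_, ?_⟩
        · intro b hb
          obtain ⟨i, rfl⟩ := hpow b hb
          obtain ⟨j, rfl | rfl⟩ := Nat.even_or_odd' i
          · exact Or.inl (heven j)
          · exact Or.inr (hodd j)
        · intro b hb
          have := apply_mem_orb hxxK b
          rwa [orb_eq_of_mem hb] at this
        · apply cycHyp_of_transitive (a := a0)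
          intro b hb
          obtain ⟨i, rfl⟩ := hpow b (orb_subset hKs ha0s hb)
          obtain ⟨j, rfl | rfl⟩ := Nat.even_or_odd' i
          · exact ⟨j, by rw [← pow_two, ← pow_mul]⟩
          · exfalso
            exact Finset.disjoint_left.mp (orb_disjoint_of_not_mem hxa0B) hb (hodd j)
        · apply cycHyp_of_transitive (a := x a0)
          intro b hb
          obtain ⟨i, rfl⟩ := hpow b (orb_subset hKs hxa0s hb)
          obtain ⟨j, rfl | rfl⟩ := Nat.even_or_odd' i
          · exfalso
            exact Finset.disjoint_left.mp (orb_disjoint_of_not_mem hxa0B) (heven j) hb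
          · exact ⟨j, by rw [← pow_two, ← pow_mul, ← Perm.mul_apply, ← pow_succ]⟩
      · -- |s| = 2L
        have hxa0B : x a0 ∈ orb K a0 := by
          by_contra hcon
          have hnofix : ∀ b ∈ s, x b ≠ b := by
            intro b hb hxb
            obtain ⟨d, hd, rfl⟩ := mem_orb.mp (hO b hb)
            have h1 : x (d a0) ∈ orb (sqSub D) (d a0) := by rw [hxb]; exact self_mem_orb _ _
            have h2 := apply_mem_orb_sqSub_of hxD (D.inv_mem hd) h1
            have e1 : d⁻¹ (d a0) = a0 := by simp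
            rw [e1, ← hK] at h2
            exact hcon h2
          have hlen' : ∀ b ∈ s \ c, x b ≠ b → ∃ j, 1 ≤ j ∧ j ≤ e - 1 ∧ clen x b = 2 ^ j := by
            intro b hb hxb
            obtain ⟨hbs, hbc⟩ := Finset.mem_sdiff.mp hb
            obtain ⟨j, hj1, hje, hj⟩ := hlen b hbs hxb
            refine ⟨j, hj1, ?_, hj⟩
            by_contra hcon2
            have hje' : j = e := by omega
            apply hbc
            rw [hc, mem_support_cycleOf_iff' hxa0]
            exact hx.2 a0 ha0s b hbs hxa0 (by rw [hL, hj, hje'])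
          have h1 := card_le_of_distinct_cycles (t := s \ c)
            (fun a ha b hb => hx.2 a (Finset.sdiff_subset ha) b (Finset.sdiff_subset hb)) (e - 1) hlen'
          have h2 : (s \ c).filter (fun a => x a = a) = ∅ := by
            rw [Finset.filter_eq_empty_iff]
            intro b hb
            exact hnofix b (Finset.sdiff_subset hb)
          have h3 : (s \ c).card = 2 ^ e := by
            rw [Finset.card_sdiff_of_subset (hcO.trans hOs), hst, hccard, pow_succ]; omega
          rw [h2, h3, Finset.card_empty, zero_add, Nat.sub_add_cancel he1] at h1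
          omega
        have hxB : ∀ b ∈ orb K a0, x b ∈ orb K a0 := by
          intro b hb
          obtain ⟨d, hd, rfl⟩ := mem_orb.mp hb
          have hxa0B' : x a0 ∈ orb (sqSub D) a0 := hK ▸ hxa0B
          have := apply_mem_orb_sqSub_of hxD (hKD hd) hxa0B'
          rw [← hK] at this
          rwa [orb_eq_of_mem hb] at this
        have hcB : c ⊆ orb K a0 := by
          intro b hb
          rw [hc, mem_support_cycleOf_iff' hxa0] at hb
          obtain ⟨i, -, rfl⟩ := hb.exists_pow_eq'
          clear hb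
          induction i with
          | zero => simpa using self_mem_orb K a0
          | succ i ih => rw [pow_succ', Perm.mul_apply]; exact hxB _ ih
        have hB1card : 2 ^ e ≤ (orb K a0).card := by
          rw [← hccard]; exact Finset.card_le_card hcB
        have hdisj := orb_disjoint_of_not_mem hb1B
        have hB'card := hblock b1 hb1s
        have hunion : orb K a0 ∪ orb K b1 = s := by
          apply Finset.eq_of_subset_of_card_le
            (Finset.union_subset (orb_subset hKs ha0s) (orb_subset hKs hb1s))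
          rw [Finset.card_union_of_disjoint hdisj, hB'card, hst, pow_succ]; omega
        refine ⟨b1, hb1s, hb1B, ?_, x, hxD, hxB, hx.mono (orb_subset hKs ha0s),
          hx.mono (orb_subset hKs hb1s)⟩
        intro b hb
        rw [← hunion] at hb
        exact Finset.mem_union.mp hb
    obtain ⟨a2, ha2s, ha2B, hcover, x', hx'D, hx'B, hx'1, hx'2⟩ := key
    have hB1s : orb K a0 ⊆ s := orb_subset hKs ha0s
    have hB2s : orb K a2 ⊆ s := orb_subset hKs ha2s
    have ha0B2 : a0 ∉ orb K a2 := by
      intro h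
      apply ha2B
      rw [orb_eq_of_mem h]
      exact self_mem_orb K a2
    have hgB1 : ∀ b ∈ orb K a0, g b ∈ orb K a0 :=
      preserves_two_orbits hgK hk hgk hgs ha0s ha2s hcover ha2B
    have hgB2 : ∀ b ∈ orb K a2, g b ∈ orb K a2 :=
      preserves_two_orbits hgK hk hgk hgs ha2s ha0s (fun b hb => (hcover b hb).symm) ha0B2
    let D0 : Subgroup (Perm α) :=
      { carrier := {d | d ∈ D ∧ ∀ b, d b ∈ orb K a0 ↔ b ∈ orb K a0}
        mul_mem' := by
          rintro d1 d2 ⟨h1, h1'⟩ ⟨h2, h2'⟩
          refine ⟨D.mul_mem h1 h2, fun b => ?_⟩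
          rw [Perm.mul_apply, h1', h2']
        one_mem' := ⟨D.one_mem, fun b => by simp⟩
        inv_mem' := by
          rintro d ⟨h1, h1'⟩
          refine ⟨D.inv_mem h1, fun b => ?_⟩
          rw [← h1' (d⁻¹ b)]
          simp }
    have hD0mem : ∀ d, d ∈ D0 ↔ d ∈ D ∧ ∀ b, d b ∈ orb K a0 ↔ b ∈ orb K a0 := fun d => Iff.rfl
    have hD0D : D0 ≤ D := fun d hd => ((hD0mem d).mp hd).1
    have hD0 : IsPGroup 2 D0 := hD.to_le hD0D
    have hx'D0 : x' ∈ D0 := (hD0mem x').mpr ⟨hx'D, perm_mem_iff_of_maps x' _ hx'B⟩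
    have hgD0 : g ∈ Subgroup.normalizer (D0 : Set (Perm α)) := by
      apply mem_normalizer_of_conj_mem_fin
      intro d hd
      rw [hD0mem] at hd ⊢
      refine ⟨(Subgroup.mem_normalizer_iff.mp hgD d).mp hd.1, fun b => ?_⟩
      have hg' := perm_mem_iff_of_maps g _ hgB1
      simp only [Perm.coe_mul, Function.comp_apply]
      rw [hg', hd.2, ← hg' (g⁻¹ b)]
      simp
    have hD0B1 : ∀ d ∈ D0, ∀ b ∈ orb K a0, d b ∈ orb K a0 :=
      fun d hd b hb => (((hD0mem d).mp hd).2 b).mpr hb
    have hD0B2 : ∀ d ∈ D0, ∀ b ∈ orb K a2, d b ∈ orb K a2 := by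
      intro d hd b hb
      have hd' := (hD0mem d).mp hd
      have hdbs := hDs d hd'.1 b (hB2s hb)
      rcases hcover _ hdbs with h | h
      · exfalso
        have := (hd'.2 b).mp h
        exact Finset.disjoint_left.mp (orb_disjoint_of_not_mem ha2B) this hb
      · exact h
    have hlt1 : (orb K a0).card < m := by
      rw [← hsm]
      apply Finset.card_lt_card
      exact ⟨hB1s, fun h => ha2B (h ha2s)⟩
    have hlt2 : (orb K a2).card < m := by
      rw [← hsm]
      apply Finset.card_lt_card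
      exact ⟨hB2s, fun h => ha0B2 (h ha0s)⟩
    intro a ha
    rcases hcover a ha with h | h
    · exact ih _ hlt1 _ rfl x' g D0 hD0 hx'D0 hgD0 k hk hgk hD0B1 hgB1 hx'1 a h
    · exact ih _ hlt2 _ rfl x' g D0 hD0 hx'D0 hgD0 k hk hgk hD0B2 hgB2 hx'2 a h

end Cfsg.Agent.Lib.Helper72
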